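import Cfsg.Agent.Four95.Index
import Cfsg.Agent.TT95.Pair24Deriv
import Cfsg.Agent.Lib.Components.GenFitting
import Cfsg.Agent.Lib.Transfer.Hall

/-!
Type M(24): the centraliser of a product of four commuting transpositions in the derived subgroup.
-/

set_option autoImplicit false
set_option linter.unusedSectionVars false
set_option linter.style.haveILetI false

namespace Cfsg.Agent.Four95

open Cfsg.Agent.TT95 Cfsg.Agent.TT95N Cfsg.Agent.TT95N.Four
open scoped commutatorElement

theorem sigma_sep_check : ((List.range 126).all fun p => (List.range 126).all fun q =>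
    p == q || (List.range 126).any fun r => r != p && !adj6 p r && (r == q || adj6 q r)) = true := by
  decide +kernel

theorem sigma_inj {p q : Fin 126} (h : sigma p = sigma q) : p = q := by
  by_contra hpq
  have hc := List.all_eq_true.1 (List.all_eq_true.1 sigma_sep_check p (List.mem_range.2 p.2)) q (List.mem_range.2 q.2)
  simp only [Bool.or_eq_true, beq_iff_eq, List.any_eq_true, List.mem_range, Bool.and_eq_true, bne_iff_ne,
    Bool.not_eq_true'] at hc
  obtain ⟨r, hr, ⟨h1, h2⟩, h3⟩ := hc.resolve_left fun e => hpq (Fin.ext e)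
  have hm : sigma p ⟨r, hr⟩ ≠ ⟨r, hr⟩ := sigma_move (fun e => h1 (congrArg Fin.val e).symm) h2
  rw [h] at hm
  rcases h3 with h3 | h3
  · exact hm (sigma_fix (Or.inl (Fin.ext h3.symm)))
  · exact hm (sigma_fix (Or.inr h3))

theorem OI_two (p q : Fin 126) : sigma p * sigma q ∈ OI :=
  mem_OI_iff.2 ⟨[p, q], ⟨1, rfl⟩, by simp⟩

theorem OI_center : Subgroup.center OI = ⊥ := by
  haveI := OI_simple
  rcases (inferInstance : (Subgroup.center OI).Normal).eq_bot_or_eq_top with h | h
  · exact h
  · exfalso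
    haveI : IsMulCommutative OI := ⟨⟨fun x y => (Subgroup.mem_center_iff.1 (h ▸ Subgroup.mem_top x) y).symm⟩⟩
    have hp : (Nat.card OI).Prime := Group.is_simple_iff_prime_card.1 OI_simple
    rw [card_OI] at hp
    norm_num at hp

/-- An automorphism centralising the even words is trivial. -/
theorem aut_centralizer {α : Equiv.Perm (Fin 126)} (hα : α ∈ AutT) (h : ∀ x ∈ OI, Commute α x) : α = 1 := by
  set c := sigma (α 0) * sigma 0 with hc
  have hrel : ∀ q, sigma (α q) = c * sigma q := by
    intro q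
    have hcomm : α * (sigma 0 * sigma q) * α⁻¹ = sigma 0 * sigma q := by
      rw [(h _ (OI_two 0 q)).eq, mul_inv_cancel_right]
    rw [show α * (sigma 0 * sigma q) * α⁻¹ = α * sigma 0 * α⁻¹ * (α * sigma q * α⁻¹) by group,
      aut_conj_sigma hα, aut_conj_sigma hα] at hcomm
    rw [hc, mul_assoc, ← hcomm, ← mul_assoc, sigma_sq, one_mul]
  have hflip : ∀ q, sigma q * c * sigma q = c⁻¹ := fun q => by
    refine eq_inv_of_mul_eq_one_right ?_
    have := sigma_sq (α q)
    rw [hrel] at this
    simpa [mul_assoc] using this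
  have hcom : ∀ x ∈ OI, Commute x c := by
    have hpair : ∀ p q, sigma p * sigma q * c * (sigma p * sigma q)⁻¹ = c := fun p q => by
      rw [mul_inv_rev, inv_eq_of_mul_eq_one_right (sigma_sq p), inv_eq_of_mul_eq_one_right (sigma_sq q),
        show sigma p * sigma q * c * (sigma q * sigma p) = sigma p * (sigma q * c * sigma q) * sigma p by group, hflip]
      have h' := congrArg (·⁻¹) (hflip p)
      simp only [inv_inv, mul_inv_rev, inv_eq_of_mul_eq_one_right (sigma_sq p)] at h'
      rw [mul_assoc]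
      exact h'
    intro x hx
    obtain ⟨l, hl, rfl⟩ := mem_OI_iff.1 hx
    clear hx
    suffices key : ∀ n, ∀ l : List (Fin 126), l.length = 2 * n → Commute (l.map sigma).prod c by
      obtain ⟨n, hn⟩ := hl
      exact key n l (by omega)
    intro n
    induction n with
    | zero => intro l h; rw [List.eq_nil_of_length_eq_zero h]; simp
    | succ n ih =>
      intro l h
      match l, h with
      | p :: q :: l, h =>
        simp only [List.map_cons, List.prod_cons, ← mul_assoc]
        exact Commute.mul_left (mul_inv_eq_iff_eq_mul.1 (hpair p q)) (ih l (by simp at h; omega))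
  have hc1 : c = 1 := by
    have : (⟨c, OI_two _ _⟩ : OI) ∈ Subgroup.center OI :=
      Subgroup.mem_center_iff.2 fun x => Subtype.ext (hcom x x.2).eq
    rw [OI_center, Subgroup.mem_bot] at this
    exact congrArg Subtype.val this
  refine Equiv.ext fun q => sigma_inj ?_
  rw [Equiv.Perm.one_apply, hrel, hc1, one_mul]

theorem isExtraspecial_equiv {A B : Type*} [Group A] [Group B] {p : ℕ} (e : A ≃* B)
    (h : Cfsg.IsExtraspecial p A) : Cfsg.IsExtraspecial p B := by
  obtain ⟨⟨h1, h2, h3⟩, h4⟩ := h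
  have hc : (Subgroup.center A).map e.toMonoidHom = Subgroup.center B := by
    ext x
    rw [Subgroup.mem_map_equiv, Subgroup.mem_center_iff, Subgroup.mem_center_iff]
    constructor
    · intro hx w; apply e.symm.injective; simpa using hx (e.symm w)
    · intro hx w; apply e.injective; simpa using hx (e w)
  refine ⟨⟨h1.of_equiv e, ?_, ?_⟩, ?_⟩
  · rw [← hc, ← h2, LargeExtraspecial.frattini_equiv]
  · rw [← hc, ← h3, commutator_def, commutator_def, Subgroup.map_commutator,
      Subgroup.map_top_of_surjective _ e.surjective]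
  · rw [← hc, Subgroup.card_map_of_injective (f := e.toMonoidHom) e.injective, h4]

variable {G : Type*} [Group G] [DecidableEq G] [Finite G] {D : Set G} {u : G}
variable {d : G} {q : ModCenter (Subgroup.closure (nb D d))} (hG : Cfg24 D d q) [Gen D]
variable {T : Fin 126 → Finset G} {φ : Subgroup.centralizer ({u} : Set G) →* Equiv.Perm (Fin 126)}
  (hT : IsModel D u T) (hφ : IsAct T φ)

include hG hT hφ

/-- The kernel consists of even elements. -/
theorem ker_even (hu : IsProd D 4 u) {ε : G →* ℤˣ} (hε : ∀ e ∈ D, ε e = -1) {g : Subgroup.centralizer ({u} : Set G)}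
    (hg : φ g = 1) : ε (g : G) = 1 := by
  have hQ : ∀ x ∈ QG D u, ε x = 1 := by
    have hle : QG D u ≤ ε.ker := (Subgroup.closure_le _).2 fun x hx => by
      obtain ⟨Y, hY, a, ha, b, hb, rfl⟩ := hx
      rw [SetLike.mem_coe, MonoidHom.mem_ker, map_mul, hε a (hY.mem ha), hε b (hY.mem hb)]
      decide
    exact fun x hx => MonoidHom.mem_ker.1 (hle hx)
  set S : Subgroup φ.ker := ((QG D u).subgroupOf (Subgroup.centralizer ({u} : Set G))).subgroupOf φ.ker with hS
  obtain ⟨hQc, hKc, -⟩ := card_kernel hG hT hφ hu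
  have hSc : Nat.card S = Nat.card (QG D u) := by
    rw [hS, Nat.card_congr (Subgroup.subgroupOfEquivOfLe ?_).toEquiv,
      Nat.card_congr (Subgroup.subgroupOfEquivOfLe (QG_le hG)).toEquiv]
    exact fun x hx => mem_QG_ker hG hT hφ (Subgroup.mem_subgroupOf.1 hx)
  have hidx : S.index = 3 := by
    have h := Subgroup.card_mul_index S
    rw [hSc, hQc, hKc] at h
    omega
  haveI : S.Normal := ⟨fun x hx v => by
    rw [hS, Subgroup.mem_subgroupOf, Subgroup.mem_subgroupOf] at hx ⊢
    simp only [Subgroup.coe_mul, InvMemClass.coe_inv]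
    exact (Subgroup.mem_normalizer_iff.1 ((QG_setup hG hT hφ hu).centralizer_le
      ((v : Subgroup.centralizer ({u} : Set G)).2)) _).1 hx⟩
  have h3 := Subgroup.pow_index_mem S (⟨g, hg⟩ : φ.ker)
  rw [hidx, hS, Subgroup.mem_subgroupOf, Subgroup.mem_subgroupOf] at h3
  have h := hQ _ h3
  simp only [SubmonoidClass.coe_pow, map_pow] at h
  rcases Int.units_eq_one_or (ε (g : G)) with e | e
  · exact e
  · rw [e] at h; exact absurd h (by decide)

/-- The centraliser in the derived subgroup. -/
theorem four_main (hu : IsProd D 4 u) (C : Subgroup G)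
    (hC : C = commutator G ⊓ Subgroup.centralizer ({u} : Set G)) :
    ∃ (Q : Subgroup ↥C) (_ : Q.Normal), Cfsg.generalizedFittingSubgroup ↥C = Q ∧ Cfsg.IsExtraspecial 2 ↥Q ∧
      Nat.card Q = 2 ^ 13 ∧ ∃ (N M : Subgroup ↥C) (_ : N.Normal) (_ : M.Normal), Q ≤ N ∧ N ≤ M ∧
        Nat.card N = 3 * Nat.card Q ∧ (∃ (K : Type) (_ : Field K) (_ : Fintype K), Fintype.card K = 9 ∧
          Nonempty (↥M ⧸ N.subgroupOf M ≃* Cfsg.PSU 4 K 3)) ∧ M.index = 2 := by
  classical
  haveI : Fact (Nat.Prime 2) := ⟨Nat.prime_two⟩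
  obtain ⟨ε, hε⟩ := exists_parity hG
  have hmemC : ∀ {g}, g ∈ C ↔ ε g = 1 ∧ g ∈ Subgroup.centralizer ({u} : Set G) := fun {g} => by
    rw [hC, Subgroup.mem_inf, mem_commutator24 hG hε]
  have hCle : C ≤ Subgroup.centralizer ({u} : Set G) := fun g hg => (hmemC.1 hg).2
  obtain ⟨hQc, hKc, hrc⟩ := card_kernel hG hT hφ hu
  have hS := QG_setup hG hT hφ hu
  obtain ⟨huc, -, hsq⟩ := QG_facts hG hT hφ hu
  set ψ : C →* Equiv.Perm (Fin 126) := φ.comp (Subgroup.inclusion hCle) with hψ
  have hQC : QG D u ≤ C := fun x hx => hmemC.2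
    ⟨ker_even hG hT hφ hu hε (g := ⟨x, QG_le hG hx⟩) (mem_QG_ker hG hT hφ hx), QG_le hG hx⟩
  set Q : Subgroup C := (QG D u).subgroupOf C with hQ
  have hQn : Q.Normal := ⟨fun x hx v => by
    rw [hQ, Subgroup.mem_subgroupOf] at hx ⊢
    simp only [Subgroup.coe_mul, InvMemClass.coe_inv]
    exact (Subgroup.mem_normalizer_iff.1 (hS.centralizer_le (hCle v.2)) _).1 hx⟩
  have eQ : Q ≃* QG D u := Subgroup.subgroupOfEquivOfLe hQC
  have hQcard : Nat.card Q = 2 ^ 13 := (Nat.card_congr eQ.toEquiv).trans hQc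
  have hQx : Cfsg.IsExtraspecial 2 Q := isExtraspecial_equiv eQ.symm hS.extraspecial
  set N := ψ.ker with hN
  have hNcard : Nat.card N = 3 * 2 ^ 13 := by
    rw [← hKc]
    exact Nat.card_congr
      { toFun := fun x => ⟨Subgroup.inclusion hCle x, x.2⟩
        invFun := fun g => ⟨⟨(g : G), hmemC.2 ⟨ker_even hG hT hφ hu hε g.2, (g : Subgroup.centralizer ({u} : Set G)).2⟩⟩, g.2⟩
        left_inv := fun x => rfl
        right_inv := fun g => rfl }
  have hQN : Q ≤ N := fun x hx => mem_QG_ker hG hT hφ (Subgroup.mem_subgroupOf.1 hx)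
  have haut : ∀ x : C, ψ x ∈ AutT := fun x => act_aut hT hφ _
  set M := OI.comap ψ with hM
  have hMn : M.Normal := ⟨fun x hx v => by
    rw [hM, Subgroup.mem_comap] at hx ⊢
    rw [map_mul, map_mul, map_inv]
    exact OI_conj (haut v) hx⟩
  have hNM : N ≤ M := fun x hx => by
    rw [hM, Subgroup.mem_comap, MonoidHom.mem_ker.1 hx]; exact one_mem _
  -- every even word comes from C
  have hlift : ∀ x ∈ OI, ∃ v : C, ψ v = x := by
    intro x hx
    obtain ⟨l, hl, rfl⟩ := mem_OI_iff.1 hx
    choose y hy using fun p => dec_nonempty hG (hT.dec p)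
    have hyC : ∀ p, y p ∈ Subgroup.centralizer ({u} : Set G) := fun p => mem_CU hG (hT.dec p) (hy p)
    set w : Subgroup.centralizer ({u} : Set G) := (l.map fun p => ⟨y p, hyC p⟩).prod with hw
    have hwε : ε (w : G) = 1 := by
      show (ε.comp (Subgroup.centralizer ({u} : Set G)).subtype) w = 1
      rw [hw, map_list_prod, List.map_map, List.prod_eq_pow_card _ (-1 : ℤˣ) ?_, List.length_map, hl.neg_one_pow]
      intro v hv
      obtain ⟨p, -, rfl⟩ := List.mem_map.1 hv
      exact hε _ ((hT.dec p).mem (hy p))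
    refine ⟨⟨w, hmemC.2 ⟨hwε, w.2⟩⟩, ?_⟩
    show φ w = _
    rw [hw, map_list_prod, List.map_map]
    exact congrArg List.prod (List.map_congr_left fun p _ => act_member hG hT hφ (hy p))
  set θ : M →* OI := (ψ.comp M.subtype).codRestrict OI (fun x => x.2) with hθ
  have hθs : Function.Surjective θ := fun x => by
    obtain ⟨v, hv⟩ := hlift x x.2
    exact ⟨⟨v, by rw [hM, Subgroup.mem_comap, hv]; exact x.2⟩, Subtype.ext hv⟩
  have hθk : θ.ker = N.subgroupOf M := by
    ext x
    rw [MonoidHom.mem_ker, Subgroup.mem_subgroupOf, hN, MonoidHom.mem_ker, Subtype.ext_iff]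
    rfl
  have hMcard : Nat.card M = 3265920 * (3 * 2 ^ 13) := by
    rw [Subgroup.card_eq_card_quotient_mul_card_subgroup θ.ker,
      Nat.card_congr (QuotientGroup.quotientKerEquivOfSurjective θ hθs).toEquiv, card_OI, hθk,
      Nat.card_congr (Subgroup.subgroupOfEquivOfLe hNM).toEquiv, hNcard]
  have hCcard : Nat.card C * 2 = 321052999680 := by
    set εu := ε.comp (Subgroup.centralizer ({u} : Set G)).subtype with hεu
    have hsurj : Function.Surjective εu := by
      intro t
      rcases Int.units_eq_one_or t with rfl | rfl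
      · exact ⟨1, map_one _⟩
      · obtain ⟨y, hy⟩ := dec_nonempty hG (hT.dec 0)
        exact ⟨⟨y, mem_CU hG (hT.dec 0) hy⟩, hε y ((hT.dec 0).mem hy)⟩
    have h := Subgroup.card_eq_card_quotient_mul_card_subgroup εu.ker
    rw [Nat.card_congr (QuotientGroup.quotientKerEquivOfSurjective εu hsurj).toEquiv,
      card_centU hG (hT.dec 0), (class_all hG hu).1, show Nat.card ℤˣ = 2 by simp [Nat.card_eq_fintype_card]] at h
    have he : εu.ker = C.subgroupOf (Subgroup.centralizer ({u} : Set G)) := by
      ext x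
      rw [MonoidHom.mem_ker, Subgroup.mem_subgroupOf, hmemC]
      exact ⟨fun h => ⟨h, x.2⟩, fun h => h.1⟩
    rw [he, Nat.card_congr (Subgroup.subgroupOfEquivOfLe hCle).toEquiv] at h
    omega
  have hMidx : M.index = 2 := by
    have h := Subgroup.card_mul_index M
    rw [hMcard] at h
    omega
  have hcentQ : ∀ x : C, (∀ y ∈ Q, Commute x y) → x ∈ Q := by
    intro x hx
    rw [hQ, Subgroup.mem_subgroupOf]
    rcases QG_centralizer hG hT hφ hu (g := (x : G)) (fun y hy =>
      congrArg Subtype.val (hx ⟨y, hQC hy⟩ (Subgroup.mem_subgroupOf.2 hy))) with e | e <;> rw [e]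
    exacts [one_mem _, hS.z_mem]
  have hfit : Cfsg.fittingSubgroup ↥C ≤ Q := by
    refine sSup_le fun R hR => ?_
    obtain ⟨hRn, hRnil⟩ := hR
    have hRN : R ≤ N := by
      set P := (R.map ψ).subgroupOf OI with hP
      have hPn : P.Normal := ⟨fun x hx v => by
        rw [hP, Subgroup.mem_subgroupOf] at hx ⊢
        obtain ⟨r, hr, e⟩ := hx
        obtain ⟨c, hc⟩ := hlift v v.2
        refine ⟨c * r * c⁻¹, hRn.conj_mem r hr c, ?_⟩
        simp only [map_mul, map_inv, e, hc, Subgroup.coe_mul, InvMemClass.coe_inv]⟩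
      haveI := OI_simple
      rcases hPn.eq_bot_or_eq_top with hb | ht
      · intro r hr
        refine MonoidHom.mem_ker.2 (aut_centralizer (haut r) fun x hx => ?_)
        obtain ⟨c, hc⟩ := hlift x hx
        have hm : ψ r * x * (ψ r)⁻¹ * x⁻¹ ∈ R.map ψ := by
          refine ⟨r * (c * r⁻¹ * c⁻¹), mul_mem hr (hRn.conj_mem _ (inv_mem hr) c), ?_⟩
          simp only [map_mul, map_inv, hc, mul_assoc]
        have hmO : ψ r * x * (ψ r)⁻¹ * x⁻¹ ∈ OI := mul_mem (OI_conj (haut r) hx) (inv_mem hx)
        have : (⟨_, hmO⟩ : OI) ∈ P := by rw [hP, Subgroup.mem_subgroupOf]; exact hm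
        rw [hb, Subgroup.mem_bot] at this
        have e := congrArg Subtype.val this
        rw [Subgroup.coe_one, mul_inv_eq_one] at e
        exact mul_inv_eq_iff_eq_mul.1 e
      · exfalso
        have hnil : Group.IsNilpotent OI := by
          have h1 : OI ≤ R.map ψ := Subgroup.subgroupOf_eq_top.1 (hP ▸ ht)
          haveI : Group.IsNilpotent (R.map ψ) := Fitting.isNilpotent_map ψ hRnil
          exact Group.nilpotent_of_mulEquiv (Subgroup.subgroupOfEquivOfLe h1)
        haveI := hnil
        have : IsMulCommutative OI := by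
          rcases (inferInstance : (Subgroup.center OI).Normal).eq_bot_or_eq_top with h | h
          · haveI : Nontrivial OI := OI_simple.toNontrivial
            exact absurd h (Group.IsNilpotent.center_ne_bot (G := OI))
          · exact ⟨⟨fun x y => (Subgroup.mem_center_iff.1 (h ▸ Subgroup.mem_top x) y).symm⟩⟩
        have hp : (Nat.card OI).Prime := Group.is_simple_iff_prime_card.1 OI_simple
        rw [card_OI] at hp
        norm_num at hp
    intro r hr
    by_contra hrQ
    set S := Q.subgroupOf N with hS'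
    haveI : S.Normal := hQn.subgroupOf N
    have hidx : S.index = 3 := by
      have h := Subgroup.card_mul_index S
      rw [Nat.card_congr (Subgroup.subgroupOfEquivOfLe hQN).toEquiv, hQcard, hNcard] at h
      omega
    have hr3 : r ^ 3 ∈ Q := by
      have h := Subgroup.pow_index_mem S (⟨r, hRN hr⟩ : N)
      rw [hidx, hS', Subgroup.mem_subgroupOf] at h
      simpa using h
    have h4 : ∀ y ∈ Q, y ^ 4 = 1 := by
      intro y hy
      refine Subtype.ext ?_
      rw [Subgroup.coe_pow, Subgroup.coe_one, show (4 : ℕ) = 2 * 2 from rfl, pow_mul, pow_two, pow_two]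
      rcases hsq _ (Subgroup.mem_subgroupOf.1 hy) with e | e <;> rw [e]
      exacts [one_mul 1, hS.z_mul_self]
    set x := r ^ 4 with hx
    have hx3 : x ^ 3 = 1 := by rw [hx, ← pow_mul, show 4 * 3 = 3 * 4 from rfl, pow_mul, h4 _ hr3]
    have hxR : x ∈ R := pow_mem hr 4
    have hxQ : x ∉ Q := fun h => hrQ (by
      have := mul_mem h (inv_mem hr3)
      rwa [hx, show r ^ 4 * (r ^ 3)⁻¹ = r by rw [pow_succ' r 3, mul_inv_cancel_right]] at this)
    refine hxQ (hcentQ x fun y hy => ?_)
    set z := x * y * x⁻¹ * y⁻¹ with hz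
    have hzQ : z ∈ Q := mul_mem (hQn.conj_mem y hy x) (inv_mem hy)
    have hzR : z ∈ R := by
      rw [hz, show x * y * x⁻¹ * y⁻¹ = x * (y * x⁻¹ * y⁻¹) by group]
      exact mul_mem hxR (hRn.conj_mem _ (inv_mem hxR) y)
    have hxz : Commute x z := by
      have hco : Nat.Coprime (orderOf (⟨x, hxR⟩ : R)) (orderOf (⟨z, hzR⟩ : R)) :=
        Nat.Coprime.coprime_dvd_left (orderOf_dvd_of_pow_eq_one (n := 3) (Subtype.ext (by simpa using hx3)))
          (Nat.Coprime.coprime_dvd_right (orderOf_dvd_of_pow_eq_one (n := 4) (Subtype.ext (by simpa using h4 z hzQ)))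
            (by norm_num))
      exact congrArg Subtype.val (Transfer.nilpotent_commute_of_coprime hRnil hco).eq
    have e1 : x * y * x⁻¹ = z * y := by rw [hz]; group
    have e2 : x * z * x⁻¹ = z := by rw [hxz.eq, mul_inv_cancel_right]
    have e3 : z ^ 3 = 1 := by
      have h : x ^ 3 * y * (x ^ 3)⁻¹ = z ^ 3 * y := by
        calc x ^ 3 * y * (x ^ 3)⁻¹ = x * (x * (x * y * x⁻¹) * x⁻¹) * x⁻¹ := by
              simp only [pow_succ, pow_zero, one_mul]; group
          _ = x * (x * (z * y) * x⁻¹) * x⁻¹ := by rw [e1]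
          _ = x * ((x * z * x⁻¹) * (x * y * x⁻¹)) * x⁻¹ := by group
          _ = x * (z * (z * y)) * x⁻¹ := by rw [e1, e2]
          _ = (x * z * x⁻¹) * (x * z * x⁻¹) * (x * y * x⁻¹) := by group
          _ = z ^ 3 * y := by rw [e1, e2]; simp only [pow_succ, pow_zero, one_mul]; group
      rw [hx3, one_mul, inv_one, mul_one] at h
      simpa using h
    have hz1 : z = 1 := by
      have := h4 z hzQ
      rwa [pow_succ, e3, one_mul] at this
    rw [hz, mul_inv_eq_one, mul_inv_eq_iff_eq_mul] at hz1
    exact hz1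
  have hF : Cfsg.generalizedFittingSubgroup ↥C = Q := by
    refine le_antisymm (sup_le (sSup_le fun K hK => ?_) hfit) ?_
    · rcases Components.component_le_or_commutator_eq_bot_of_normal hK Q with h | h
      · exact h
      · intro k hk
        rw [Subgroup.commutator_eq_bot_iff_le_centralizer] at h
        exact hcentQ k fun y hy => ((Subgroup.mem_centralizer_iff.1 (h hk)) y hy).symm
    · refine le_trans ?_ Components.fitting_le_generalizedFitting
      exact le_sSup ⟨hQn, (IsPGroup.of_card hQcard).isNilpotent⟩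
  refine ⟨Q, hQn, hF, hQx, hQcard, N, M, inferInstance, hMn, hQN, hNM, by rw [hNcard, hQcard], ?_, hMidx⟩
  let _ := Fintype.ofFinite (GaloisField 3 2)
  obtain ⟨e⟩ := OI_iso
  refine ⟨GaloisField 3 2, inferInstance, inferInstance, ?_, ⟨?_⟩⟩
  · rw [← Nat.card_eq_fintype_card, GaloisField.card 3 2 (by norm_num)]; norm_num
  · exact ((QuotientGroup.quotientMulEquivOfEq hθk.symm).trans (QuotientGroup.quotientKerEquivOfSurjective θ hθs)).trans e

end Cfsg.Agent.Four95
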