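import Cfsg.Agent.Four95.Pairs

/-!
Type M(24): the quadruples with product `u` form the graph of the 126 unit vectors up to sign.
-/

set_option autoImplicit false
set_option linter.unusedSectionVars false
set_option linter.style.haveILetI false

namespace Cfsg.Agent.Four95

open Cfsg.Agent.TT95 Cfsg.Agent.TT95N Cfsg.Agent.TT95N.Four
open Cfsg.Agent.TT95.K45G (adj masks)

variable {G : Type*} [Group G] [DecidableEq G] [Finite G] {D : Set G} {u : G} {d : G}
  {q : ModCenter (Subgroup.closure (nb D d))}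

/-- A numbering of the quadruples by the vertices. -/
structure IsModel (D : Set G) (u : G) (T : Fin 126 → Finset G) : Prop where
  dec : ∀ p, Dec D u (T p)
  inj : Function.Injective T
  surj : ∀ Y, Dec D u Y → ∃ p, T p = Y
  adj : ∀ p q, AdjT (T p) (T q) ↔ adj6 p q = true

theorem wit_at {s t : ℕ} (h : wit s t = true) : ∃ i, witAt s t i = true := by
  obtain ⟨i, -, hi⟩ := List.any_eq_true.1 h
  exact ⟨i, hi⟩

theorem wit_sym (s t : Fin 40) : wit s t = wit t s ∧ sgn s t = sgn t s ∧ wit s s = false := by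
  have hc := List.all_eq_true.1 wit_check s (List.mem_range.2 s.2)
  simp only [Bool.and_eq_true, List.all_eq_true, List.mem_range, beq_iff_eq, Bool.not_eq_true'] at hc
  exact ⟨(hc.2 t t.2).1, (hc.2 t t.2).2, hc.1.1⟩

theorem sign_logic {P Q : Prop} {x y z : Bool} (hz : z = (x ^^ y)) (h : P ↔ Q) :
    ((x = false → y = false → P) ∧ (x = false → y = true → ¬ P) ∧ (x = true → y = false → ¬ P) ∧
      (x = true → y = true → P)) → (z = false ↔ Q) := by
  subst hz
  cases x <;> cases y <;> simp <;> tauto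

theorem match_logic {P00 P01 P10 P11 : Prop} {x : Bool} (hb : P00 ↔ x = false) (h0 : P00 ↔ ¬ P01)
    (h1 : P10 ↔ ¬ P11) (h2 : P00 ↔ ¬ P10) (e f : Fin 2) :
    (![![P00, P01], ![P10, P11]] e f) ↔ ((e != f) == x) = true := by
  fin_cases e <;> fin_cases f <;> cases x <;> simp at hb ⊢ <;> tauto

theorem wit_of {s t i : ℕ} (h : witAt s t i = true) (hi : i < 45) : wit s t = true :=
  List.any_eq_true.2 ⟨i, List.mem_range.2 hi, h⟩

theorem witAt_lt {s t i : ℕ} (h : witAt s t i = true) : i < 45 :=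
  setS_lt (Bool.and_eq_true_iff.1 (Bool.and_eq_true_iff.1 h).1).1

attribute [local irreducible] wit witAt sgn meetK runSteps setS parent

variable (hG : Cfg24 D d q) [Gen D]

include hG

variable {W : Finset G} {ι : Fin 45 → Finset G}

/-- The sign of the third side. -/
theorem names_step (hu : IsProd D 4 u) (hW : Dec D u W) (hι : OctChart D W ι) {Y0 Y1 : Fin 40 → Finset G}
    (hY0 : ∀ s, Y0 s ∈ farClass D u W ι s) (hY1 : ∀ s, Y1 s ∈ farClass D u W ι s) (hne : ∀ s, Y0 s ≠ Y1 s)
    {a b c : Fin 40} {i : ℕ} (wab : witAt a b i = true) (wbc : witAt b c i = true) (wac : wit a c = true)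
    (hac : a ≠ c) (gab : AdjT (Y0 a) (Y0 b) ↔ sgn a b = false) (gbc : AdjT (Y0 b) (Y0 c) ↔ sgn b c = false)
    (hsig : sgn a c = (sgn a b ^^ sgn b c ^^ (meetK a b i != meetK b c i))) :
    AdjT (Y0 a) (Y0 c) ↔ sgn a c = false := by
  have two : ∀ {s t : Fin 40} {j : ℕ}, witAt s t j = true → ∀ {P}, P ∈ farClass D u W ι s →
      (AdjT P (Y0 t) ↔ ¬ AdjT P (Y1 t)) :=
    fun {s t j} hw {P} hP => match_one hG hu hW hι hw hP (hY0 t) (hY1 t) (hne t)
  obtain ⟨j, hj⟩ := wit_at wac
  obtain ⟨j', hj'⟩ := wit_at (show wit c b = true by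
    rw [← (wit_sym b c).1]
    exact wit_of wbc (witAt_lt wbc))
  have hbsym : ∀ {R}, R ∈ farClass D u W ι c → (AdjT (Y0 b) R ↔ ¬ AdjT (Y1 b) R) := by
    intro R hR
    have h := two hj' hR
    exact ⟨fun e e' => h.1 e.symm e'.symm, fun e => (h.2 fun e' => e e'.symm).symm⟩
  have tri : ∀ {Q R}, Q ∈ farClass D u W ι b → R ∈ farClass D u W ι c →
      AdjT (Y0 a) Q → AdjT Q R → (AdjT (Y0 a) R ↔ meetK a b i = meetK b c i) :=
    fun hQ hR e1 e2 => tri_rule hG hu hW hι hac wab wbc (hY0 _) hQ hR e1 e2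
  have twoac := two hj (hY0 a)
  have twoab := two wab (hY0 a)
  have twobc := two wbc (hY0 b)
  have twobc' := two wbc (hY1 b)
  by_cases e : meetK a b i = meetK b c i
  · simp only [e, iff_true, bne_self_eq_false, Bool.xor_false] at tri hsig
    refine Iff.symm (sign_logic hsig Iff.rfl ⟨?_, ?_, ?_, ?_⟩)
    · exact fun hx hy => tri (hY0 _) (hY0 _) (gab.2 hx) (gbc.2 hy)
    · intro hx hy hP
      have hn : ¬ AdjT (Y0 b) (Y0 c) := fun e => by simp [gbc.1 e] at hy
      exact twoac.1 hP (tri (hY0 _) (hY1 _) (gab.2 hx) (Classical.not_not.1 fun e => hn (twobc.2 e)))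
    · intro hx hy hP
      have hn1 : ¬ AdjT (Y0 a) (Y0 b) := fun e => by simp [gab.1 e] at hx
      have hn : ¬ AdjT (Y1 b) (Y0 c) := (hbsym (hY0 _)).1 (gbc.2 hy)
      exact twoac.1 hP (tri (hY1 _) (hY1 _) (Classical.not_not.1 fun e => hn1 (twoab.2 e))
        (Classical.not_not.1 fun e => hn (twobc'.2 e)))
    · intro hx hy
      have hn1 : ¬ AdjT (Y0 a) (Y0 b) := fun e => by simp [gab.1 e] at hx
      have hn : ¬ AdjT (Y0 b) (Y0 c) := fun e => by simp [gbc.1 e] at hy
      exact tri (hY1 _) (hY0 _) (Classical.not_not.1 fun e => hn1 (twoab.2 e))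
        (Classical.not_not.1 fun e => hn ((hbsym (hY0 _)).2 e))
  · simp only [e, iff_false, bne_iff_ne.2 e, Bool.xor_true] at tri hsig
    have hz : (!sgn a c) = (sgn a b ^^ sgn b c) := by rw [hsig, Bool.not_not]
    have := sign_logic hz (P := ¬ AdjT (Y0 a) (Y0 c)) Iff.rfl ⟨?_, ?_, ?_, ?_⟩
    · revert this; cases sgn a c <;> simp
    · exact fun hx hy => tri (hY0 _) (hY0 _) (gab.2 hx) (gbc.2 hy)
    · intro hx hy hP
      have hn : ¬ AdjT (Y0 b) (Y0 c) := fun e => by simp [gbc.1 e] at hy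
      exact tri (hY0 _) (hY1 _) (gab.2 hx) (Classical.not_not.1 fun e => hn (twobc.2 e))
        (Classical.not_not.1 fun e' => hP (twoac.2 e'))
    · intro hx hy hP
      have hn1 : ¬ AdjT (Y0 a) (Y0 b) := fun e => by simp [gab.1 e] at hx
      have hn : ¬ AdjT (Y1 b) (Y0 c) := (hbsym (hY0 _)).1 (gbc.2 hy)
      exact tri (hY1 _) (hY1 _) (Classical.not_not.1 fun e => hn1 (twoab.2 e))
        (Classical.not_not.1 fun e => hn (twobc'.2 e)) (Classical.not_not.1 fun e' => hP (twoac.2 e'))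
    · intro hx hy
      have hn1 : ¬ AdjT (Y0 a) (Y0 b) := fun e => by simp [gab.1 e] at hx
      have hn : ¬ AdjT (Y0 b) (Y0 c) := fun e => by simp [gbc.1 e] at hy
      exact tri (hY1 _) (hY0 _) (Classical.not_not.1 fun e => hn1 (twoab.2 e))
        (Classical.not_not.1 fun e => hn ((hbsym (hY0 _)).2 e))

/-- Both members of every class, named so that the signs are those of the model. -/
theorem exists_names (hu : IsProd D 4 u) (hW : Dec D u W) (hι : OctChart D W ι) :
    ∃ Y : Fin 40 → Fin 2 → Finset G, (∀ s e, Y s e ∈ farClass D u W ι s) ∧ (∀ s, Y s 0 ≠ Y s 1) ∧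
      ∀ s t : Fin 40, wit s t = true → (AdjT (Y s 0) (Y t 0) ↔ sgn s t = false) := by
  classical
  have hpair : ∀ s, ∃ A B, A ≠ B ∧ farClass D u W ι s = {A, B} := fun s => Set.ncard_eq_two.1 (class_two hG hu hW hι s)
  choose A B hAB hset using hpair
  have hA : ∀ s, A s ∈ farClass D u W ι s := fun s => by rw [hset]; simp
  have hB : ∀ s, B s ∈ farClass D u W ι s := fun s => by rw [hset]; simp
  let nx : Finset G → Fin 40 → Finset G := fun Z s => if AdjT Z (A s) then A s else B s
  have nx_mem : ∀ Z s, nx Z s ∈ farClass D u W ι s := fun Z s => by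
    simp only [nx]; split_ifs
    exacts [hA s, hB s]
  have nx_adj : ∀ (s t : Fin 40), wit s t = true → ∀ Z ∈ farClass D u W ι s, AdjT Z (nx Z t) := by
    intro s t hw Z hZ
    obtain ⟨i, hi⟩ := wit_at hw
    simp only [nx]
    split_ifs with h
    · exact h
    · by_contra hB'
      exact h ((match_one hG hu hW hι hi hZ (hA t) (hB t) (hAB t)).2 hB')
  have hpar : ∀ s : Fin 40, parent s < 40 := fun s => by
    have h := List.all_eq_true.1 parent_check s (List.mem_range.2 s.2)
    simp only [Bool.and_eq_true, decide_eq_true_eq] at h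
    exact h.1
  let par : Fin 40 → Fin 40 := fun s => ⟨parent s, hpar s⟩
  let Y0 : Fin 40 → Finset G := fun s =>
    if s = 0 then A 0 else if par s = 0 then nx (A 0) s else nx (nx (A 0) (par s)) s
  have hY0 : ∀ s, Y0 s ∈ farClass D u W ι s := fun s => by
    simp only [Y0]; split_ifs with h1
    exacts [h1 ▸ hA 0, nx_mem _ _, nx_mem _ _]
  let Y1 : Fin 40 → Finset G := fun s => if Y0 s = A s then B s else A s
  let Y : Fin 40 → Fin 2 → Finset G := fun s => ![Y0 s, Y1 s]
  have hY1 : ∀ s, Y1 s ∈ farClass D u W ι s := fun s => by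
    simp only [Y1]; split_ifs
    exacts [hB s, hA s]
  have hne : ∀ s, Y0 s ≠ Y1 s := fun s => by
    simp only [Y1]; split_ifs with h
    · rw [h]; exact hAB s
    · exact h
  refine ⟨Y, fun s e => by fin_cases e; exacts [hY0 s, hY1 s], hne, ?_⟩
  show ∀ s t : Fin 40, wit s t = true → (AdjT (Y0 s) (Y0 t) ↔ sgn s t = false)
  set Good : ℕ → ℕ → Prop := fun s t => ∀ (hs : s < 40) (ht : t < 40),
    AdjT (Y0 ⟨s, hs⟩) (Y0 ⟨t, ht⟩) ↔ sgn s t = false with hGood
  have hsym : ∀ s t, s < 40 → t < 40 → Good s t → Good t s := by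
    intro s t hs ht h hx hy
    have hc := List.all_eq_true.1 wit_check s (List.mem_range.2 hs)
    simp only [Bool.and_eq_true, List.all_eq_true, List.mem_range, beq_iff_eq] at hc
    rw [← (hc.2 t ht).2, ← h hs ht]
    exact ⟨AdjT.symm, AdjT.symm⟩
  have hbitc : ∀ s t a b : ℕ, t < 40 → b < 40 → s * 40 + t = a * 40 + b → s = a ∧ t = b := fun s t a b h h' e => by
    omega
  have hroot : ∀ k : ℕ, (∀ s t, t < 40 → k.testBit (s * 40 + t) = true → Good s t) → ∀ l : List (ℕ × ℕ × ℕ), (∀ r ∈ l, r ∈ roots) →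
      ∀ s t, t < 40 → (l.foldl (fun k r => k ||| pairBit r.1 r.2.1) k).testBit (s * 40 + t) = true → Good s t := by
    intro k hk l
    induction l generalizing k with
    | nil => exact fun _ => hk
    | cons r l ih =>
      intro hl
      rw [List.foldl_cons]
      refine ih _ ?_ fun x hx => hl x (List.mem_cons_of_mem _ hx)
      intro s t ht hb
      rw [Nat.testBit_or, Bool.or_eq_true] at hb
      rcases hb with hb | hb
      · exact hk s t ht hb
      have hr := List.all_eq_true.1 roots_ok r (hl r List.mem_cons_self)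
      simp only [Bool.and_eq_true, decide_eq_true_eq, bne_iff_ne, beq_iff_eq, Bool.not_eq_true'] at hr
      obtain ⟨⟨⟨⟨⟨⟨hx, hy⟩, hy0⟩, hxy⟩, hw⟩, hsg⟩, hp⟩ := hr
      have hgood : Good r.1 r.2.1 := by
        intro h1 h2
        refine iff_of_true ?_ hsg
        have hyne : (⟨r.2.1, h2⟩ : Fin 40) ≠ 0 := fun e => hy0 (congrArg Fin.val e)
        have hpy : par ⟨r.2.1, h2⟩ = ⟨r.1, h1⟩ := Fin.ext hp
        rw [show Y0 ⟨r.2.1, h2⟩ = _ from if_neg hyne]
        by_cases h0 : (⟨r.1, h1⟩ : Fin 40) = 0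
        · rw [if_pos (hpy.trans h0), h0, show Y0 0 = A 0 from if_pos rfl]
          exact nx_adj 0 _ (by rw [← h0]; exact hw) _ (hA 0)
        · rw [if_neg (by rw [hpy]; exact h0), hpy]
          have hpp : par ⟨r.1, h1⟩ = 0 := by
            have h := List.all_eq_true.1 parent_check r.2.1 (List.mem_range.2 h2)
            simp only [Bool.and_eq_true, beq_iff_eq] at h
            rw [hp] at h
            exact Fin.ext h.2
          have hx0 : Y0 ⟨r.1, h1⟩ = nx (A 0) ⟨r.1, h1⟩ := by
            show (if _ then _ else _) = _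
            rw [if_neg h0, if_pos hpp]
          rw [hx0]
          exact nx_adj _ _ hw _ (nx_mem _ _)
      rw [pairBit, Nat.testBit_or, Bool.or_eq_true, Nat.testBit_two_pow, Nat.testBit_two_pow, decide_eq_true_eq,
        decide_eq_true_eq] at hb
      rcases hb with hb | hb
      · obtain ⟨rfl, rfl⟩ := hbitc _ _ _ _ hy ht hb
        exact hgood
      · obtain ⟨rfl, rfl⟩ := hbitc _ _ _ _ hx ht hb
        exact hsym _ _ hx hy hgood
  have hrun : ∀ (l : List (ℕ × ℕ × ℕ × ℕ)) (k kf : ℕ), (∀ s t, t < 40 → k.testBit (s * 40 + t) = true → Good s t) → runSteps k l = some kf →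
      ∀ s t, t < 40 → kf.testBit (s * 40 + t) = true → Good s t := by
    intro l
    induction l with
    | nil =>
      intro k kf hk h
      simp only [runSteps, Option.some.injEq] at h
      exact h ▸ hk
    | cons x l ih =>
      intro k kf hk h
      obtain ⟨a, b, c, i⟩ := x
      rw [runSteps] at h
      split_ifs at h with hok
      refine ih _ kf ?_ h
      simp only [stepOK, Bool.and_eq_true, decide_eq_true_eq, bne_iff_ne, beq_iff_eq] at hok
      obtain ⟨⟨⟨⟨⟨⟨⟨⟨⟨⟨ha, hb⟩, hc⟩, -⟩, kab⟩, kbc⟩, wab⟩, wbc⟩, wac⟩, hac⟩, hsig⟩ := hok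
      have hgood : Good a c := fun h1 h2 =>
        names_step hG hu hW hι (Y0 := Y0) (Y1 := Y1) hY0 hY1 hne (a := ⟨a, h1⟩) (b := ⟨b, hb⟩) (c := ⟨c, h2⟩)
          wab wbc wac (fun e => hac (congrArg Fin.val e)) (hk a b hb kab h1 hb) (hk b c hc kbc hb h2) hsig
      intro s t ht hbit
      rw [Nat.testBit_or, Bool.or_eq_true] at hbit
      rcases hbit with hbit | hbit
      · exact hk s t ht hbit
      rw [pairBit, Nat.testBit_or, Bool.or_eq_true, Nat.testBit_two_pow, Nat.testBit_two_pow, decide_eq_true_eq,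
        decide_eq_true_eq] at hbit
      rcases hbit with hbit | hbit
      · obtain ⟨rfl, rfl⟩ := hbitc _ _ _ _ hc ht hbit
        exact hgood
      · obtain ⟨rfl, rfl⟩ := hbitc _ _ _ _ ha ht hbit
        exact hsym _ _ ha hc hgood
  intro s t hw
  have hchk := steps_check
  cases hrs : runSteps rootBits steps with
  | none => rw [hrs] at hchk; exact absurd hchk Bool.false_ne_true
  | some kf =>
    rw [hrs] at hchk
    have h1 := List.all_eq_true.1 (List.all_eq_true.1 hchk s (List.mem_range.2 s.2)) t (List.mem_range.2 t.2)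
    rw [hw, Bool.not_true, Bool.false_or] at h1
    exact hrun steps rootBits kf (hroot 0 (fun s t _ h => by simp at h) roots fun r hr => hr) hrs s t t.2 h1 s.2 t.2

/-- The twenty-seven far quadruples at a far one. -/
theorem card_far_nbrs (hu : IsProd D 4 u) (hW : Dec D u W) (hι : OctChart D W ι) {s : Fin 40} {Y : Finset G}
    (hY : Y ∈ farClass D u W ι s) :
    {Z : Finset G | Dec D u Z ∧ W ≠ Z ∧ ¬ AdjT W Z ∧ AdjT Y Z}.ncard = 27 := by
  have e : {Z : Finset G | Dec D u Z ∧ AdjT Y Z} =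
      tet W ι '' ↑(farKeys W ι Y) ∪ {Z : Finset G | Dec D u Z ∧ W ≠ Z ∧ ¬ AdjT W Z ∧ AdjT Y Z} := by
    ext Z
    constructor
    · rintro ⟨hZ, h⟩
      by_cases h1 : AdjT W Z
      · obtain ⟨j, rfl⟩ := tet_surj hG hu hW hι hZ h1
        exact Or.inl ⟨j, mem_farKeys.2 h.symm, rfl⟩
      · exact Or.inr ⟨hZ, fun e => hY.1.2.2.1 (by subst e; exact h.symm), h1, h⟩
    · rintro (⟨j, hj, rfl⟩ | ⟨hZ, -, -, h⟩)
      · exact ⟨tet_dec hG hu hW hι j, (mem_farKeys.1 hj).symm⟩
      · exact ⟨hZ, h⟩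
  have h45 := card_nbrs hG hu hY.1.1
  rw [e, Set.ncard_union_eq ?_ (Set.toFinite _) (Set.toFinite _),
    Set.ncard_image_of_injective _ (tet_inj hG hW hι), Set.ncard_coe_finset, setS_card s hY.2] at h45
  · omega
  · rw [Set.disjoint_left]
    rintro _ ⟨j, -, rfl⟩ h
    exact h.2.2.1 (tet_adjW hG hW hι j)

/-- The quadruples form the model. -/
theorem exists_model (hu : IsProd D 4 u) (hW : Dec D u W) (hι : OctChart D W ι) :
    ∃ T : Fin 126 → Finset G, IsModel D u T ∧ T 0 = W ∧ ∀ k, T (kvx k) = tet W ι k := by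
  classical
  obtain ⟨Y, hY, hY01, hsgn⟩ := exists_names hG hu hW hι
  have hYd : ∀ s e, Dec D u (Y s e) := fun s e => (hY s e).1.1
  have hYW : ∀ s e, ¬ AdjT W (Y s e) := fun s e => (hY s e).1.2.2.1
  have hYne : ∀ s e, W ≠ Y s e := fun s e => (hY s e).1.2.1
  have hclass : ∀ s t e f, Y s e = Y t f → s = t ∧ e = f := by
    intro s t e f h
    obtain rfl : s = t := sets_ext fun k => by rw [Bool.eq_iff_iff, ← (hY s e).2, ← (hY t f).2, h]
    refine ⟨rfl, ?_⟩
    fin_cases e <;> fin_cases f <;> first | rfl | exact absurd h (hY01 s) | exact absurd h.symm (hY01 s)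
  have hwsym : ∀ s t : Fin 40, wit s t = wit t s ∧ sgn s t = sgn t s ∧ wit s s = false := fun s t => by
    have hc := List.all_eq_true.1 wit_check s (List.mem_range.2 s.2)
    simp only [Bool.and_eq_true, List.all_eq_true, List.mem_range, beq_iff_eq, Bool.not_eq_true'] at hc
    exact ⟨(hc.2 t t.2).1, (hc.2 t t.2).2, hc.1.1⟩
  have hone : ∀ s t : Fin 40, wit s t = true → ∀ e, AdjT (Y s e) (Y t 0) ↔ ¬ AdjT (Y s e) (Y t 1) := by
    intro s t hw e
    obtain ⟨i, hi⟩ := wit_at hw
    exact match_one hG hu hW hι hi (hY s e) (hY t 0) (hY t 1) (hY01 t)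
  have hwadj : ∀ s t : Fin 40, wit s t = true → ∀ e f, AdjT (Y s e) (Y t f) ↔ ((e != f) == sgn s t) = true := by
    intro s t hw e f
    have h2 : AdjT (Y s 0) (Y t 0) ↔ ¬ AdjT (Y s 1) (Y t 0) := by
      have h := hone t s ((hwsym s t).1 ▸ hw) 0
      exact ⟨fun a b => h.1 a.symm b.symm, fun a => (h.2 fun b => a b.symm).symm⟩
    have h := match_logic (hsgn s t hw) (hone s t hw 0) (hone s t hw 1) h2 e f
    fin_cases e <;> fin_cases f <;> exact h
  have hfar : ∀ s t : Fin 40, ∀ e f, AdjT (Y s e) (Y t f) ↔ (wit s t && ((e != f) == sgn s t)) = true := by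
    intro s t e f
    by_cases hw : wit s t = true
    · rw [hwadj s t hw, hw, Bool.true_and]
    rw [Bool.eq_false_iff.2 hw, Bool.false_and]
    refine iff_of_false (fun h => ?_) Bool.false_ne_true
    set A := Finset.univ.filter fun t : Fin 40 => wit s t = true with hA
    have hA27 : A.card = 27 := by
      have hc := List.all_eq_true.1 wit_check s (List.mem_range.2 s.2)
      simp only [Bool.and_eq_true, beq_iff_eq] at hc
      rw [← hc.1.2, ← List.toFinset_card_of_nodup (List.nodup_range.filter _), ← Finset.card_map Fin.valEmbedding]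
      congr 1
      ext n
      simp only [hA, Finset.mem_map, Finset.mem_filter, Finset.mem_univ, true_and, Fin.valEmbedding_apply,
        List.mem_toFinset, List.mem_filter, List.mem_range]
      exact ⟨fun ⟨r, hr, e⟩ => e ▸ ⟨r.2, hr⟩, fun h => ⟨⟨n, h.1⟩, h.2, rfl⟩⟩
    set F : Fin 40 → Finset G := fun t' => if AdjT (Y s e) (Y t' 0) then Y t' 0 else Y t' 1 with hF
    have hsub : F '' ↑A ⊆ {Z : Finset G | Dec D u Z ∧ W ≠ Z ∧ ¬ AdjT W Z ∧ AdjT (Y s e) Z} := by
      rintro _ ⟨t', ht', rfl⟩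
      rw [Finset.mem_coe, hA, Finset.mem_filter] at ht'
      simp only [hF]
      split_ifs with h'
      · exact ⟨hYd _ _, hYne _ _, hYW _ _, h'⟩
      · exact ⟨hYd _ _, hYne _ _, hYW _ _, Classical.not_not.1 fun e' => h' ((hone s t' ht'.2 e).2 e')⟩
    have hinj : Function.Injective F := fun a b hab => by
      simp only [hF] at hab
      split_ifs at hab <;> exact (hclass _ _ _ _ hab).1
    have hmem : Y t f ∈ F '' ↑A := by
      rw [Set.eq_of_subset_of_ncard_le hsub ?_ (Set.toFinite _)]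
      · exact ⟨hYd _ _, hYne _ _, hYW _ _, h⟩
      · rw [card_far_nbrs hG hu hW hι (hY s e), Set.ncard_image_of_injective _ hinj, Set.ncard_coe_finset, hA27]
    obtain ⟨t', ht', e'⟩ := hmem
    rw [Finset.mem_coe, hA, Finset.mem_filter] at ht'
    simp only [hF] at e'
    split_ifs at e' <;> exact hw ((hclass _ _ _ _ e').1 ▸ ht'.2)
  -- the numbering
  have hcases := vertex_cases
  let T : Fin 126 → Finset G := fun v =>
    if h0 : (v : ℕ) = 0 then W
    else if h : (v : ℕ) < 46 then tet W ι ⟨v - 1, by omega⟩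
    else Y ⟨(v - 46) / 2, by have := v.2; omega⟩ ⟨(v - 46) % 2, by omega⟩
  have hT0 : T 0 = W := dif_pos rfl
  have hTk : ∀ k, T (kvx k) = tet W ι k := fun k => by
    have := k.2
    simp only [T, kvx]
    rw [dif_neg (by omega), dif_pos (by omega)]
    rfl
  have hTf : ∀ s e, T (fv s e) = Y s e := fun s e => by
    have := s.2; have := e.2
    simp only [T, fv]
    rw [dif_neg (by omega), dif_neg (by omega)]
    congr 1 <;> exact Fin.ext (by simp only; omega)
  have hdec : ∀ p, Dec D u (T p) := fun p => by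
    rcases hcases p with rfl | ⟨k, rfl⟩ | ⟨s, e, rfl⟩
    · rw [hT0]; exact hW
    · rw [hTk]; exact tet_dec hG hu hW hι k
    · rw [hTf]; exact hYd s e
  have hinj : Function.Injective T := by
    intro p p' h
    rcases hcases p with rfl | ⟨k, rfl⟩ | ⟨s, e, rfl⟩ <;> rcases hcases p' with rfl | ⟨l, rfl⟩ | ⟨t, f, rfl⟩ <;>
      simp only [hT0, hTk, hTf] at h
    · rfl
    · exact absurd h (tet_adjW hG hW hι l).1
    · exact absurd h (hYne t f)
    · exact absurd h.symm (tet_adjW hG hW hι k).1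
    · exact congrArg kvx (tet_inj hG hW hι h)
    · exact absurd (h ▸ tet_adjW hG hW hι k) (hYW t f)
    · exact absurd h.symm (hYne s e)
    · exact absurd (h.symm ▸ tet_adjW hG hW hι l) (hYW s e)
    · obtain ⟨rfl, rfl⟩ := hclass _ _ _ _ h
      rfl
  have hsurj : ∀ Z, Dec D u Z → ∃ p, T p = Z := by
    intro Z hZ
    have hr : Set.range T = {Z | Dec D u Z} := Set.eq_of_subset_of_ncard_le (Set.range_subset_iff.2 hdec) (by
      rw [(class_all hG hu).1, Set.ncard_range_of_injective hinj, Nat.card_fin]) (Set.toFinite _)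
    exact (hr ▸ (hZ : Z ∈ {Z | Dec D u Z}) : Z ∈ Set.range T)
  refine ⟨T, ⟨hdec, hinj, hsurj, ?_⟩, hT0, hTk⟩
  have hk0 : ∀ k : Fin 45, adj6 (kvx k) (0 : Fin 126) = true := fun k => by rw [adj6_symm]; exact zero_kvx k
  intro p p'
  rcases hcases p with rfl | ⟨k, rfl⟩ | ⟨s, e, rfl⟩ <;> rcases hcases p' with rfl | ⟨l, rfl⟩ | ⟨t, f, rfl⟩ <;>
    simp only [hT0, hTk, hTf]
  · exact iff_of_false (fun h => h.1 rfl) (by rw [adj6_irrefl]; exact Bool.false_ne_true)
  · exact iff_of_true (tet_adjW hG hW hι l) (zero_kvx l)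
  · exact iff_of_false (hYW t f) (by rw [(far_data t f).1]; exact Bool.false_ne_true)
  · exact iff_of_true (tet_adjW hG hW hι k).symm (hk0 k)
  · rw [kvx_adj]
    by_cases hkl : k = l
    · subst hkl
      exact iff_of_false (fun h => h.1 rfl) (by rw [adj_irrefl45]; exact Bool.false_ne_true)
    · exact tet_adj hG hu hW hι hkl
  · rw [adj6_symm, (far_data t f).2.1 k, ← (hY t f).2 k, mem_farKeys]
  · exact iff_of_false (fun h => hYW s e h.symm) (by rw [adj6_symm, (far_data s e).1]; exact Bool.false_ne_true)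
  · rw [(far_data s e).2.1 l, ← (hY s e).2 l, mem_farKeys]
    exact ⟨AdjT.symm, AdjT.symm⟩
  · have hc := List.all_eq_true.1 (List.all_eq_true.1 (List.all_eq_true.1 (List.all_eq_true.1 far_far_check s
      (List.mem_range.2 s.2)) t (List.mem_range.2 t.2)) e (List.mem_range.2 e.2)) f (List.mem_range.2 f.2)
    rw [beq_iff_eq] at hc
    rw [hfar, show adj6 (fv s e) (fv t f) = _ from hc]
    fin_cases e <;> fin_cases f <;> rfl

end Cfsg.Agent.Four95
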