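import Cfsg.Agent.Four95.OmegaModel
import Cfsg.Agent.Four95.Iso

/-!
Type M(24): the centraliser of `u` acts on the model, members of a quadruple as the reflection of its vertex.
-/

set_option autoImplicit false
set_option linter.unusedSectionVars false
set_option linter.style.haveILetI false

namespace Cfsg.Agent.Four95

open Cfsg.Agent.TT95 Cfsg.Agent.TT95N Cfsg.Agent.TT95N.Four

variable {G : Type*} [Group G] [DecidableEq G] [Finite G] {D : Set G} {u : G} {T : Fin 126 → Finset G}

/-- The action on the numbering. -/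
structure IsAct (T : Fin 126 → Finset G) (φ : Subgroup.centralizer ({u} : Set G) →* Equiv.Perm (Fin 126)) :
    Prop where
  spec : ∀ g p, T (φ g p) = conjS (g : G) (T p)

theorem commute_of_mem_CU {g : G} (h : g ∈ Subgroup.centralizer ({u} : Set G)) : Commute g u :=
  Subgroup.mem_centralizer_singleton_iff.1 h

theorem dec_conjS {W : Finset G} (hD : TTSet D) (hW : Dec D u W) {g : G} (hg : Commute g u) :
    Dec D u (conjS g W) := hW.image hD hg

variable {d : G} {q : ModCenter (Subgroup.closure (nb D d))}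

theorem exists_act (hD : TTSet D) (hT : IsModel D u T) :
    ∃ φ : Subgroup.centralizer ({u} : Set G) →* Equiv.Perm (Fin 126), IsAct T φ := by
  have hex : ∀ (g : Subgroup.centralizer ({u} : Set G)) (p : Fin 126), ∃ r, T r = conjS (g : G) (T p) :=
    fun g p => hT.surj _ (dec_conjS hD (hT.dec p) (commute_of_mem_CU g.2))
  choose F hF using hex
  have hone : ∀ p, F 1 p = p := fun p => hT.inj (by rw [hF, Subgroup.coe_one, conjS_one])
  have hmul : ∀ g k p, F (g * k) p = F g (F k p) := fun g k p =>
    hT.inj (by rw [hF, hF, hF, Subgroup.coe_mul, conjS_mul])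
  exact ⟨MonoidHom.mk' (fun g => ⟨F g, F g⁻¹, fun p => by rw [← hmul, inv_mul_cancel, hone],
    fun p => by rw [← hmul, mul_inv_cancel, hone]⟩) (fun g k => Equiv.ext (hmul g k)), ⟨hF⟩⟩

variable {φ : Subgroup.centralizer ({u} : Set G) →* Equiv.Perm (Fin 126)}

theorem act_aut (hT : IsModel D u T) (hφ : IsAct T φ) (g : Subgroup.centralizer ({u} : Set G)) : φ g ∈ AutT := by
  intro p r
  rw [Bool.eq_iff_iff, ← hT.adj, ← hT.adj, hφ.spec, hφ.spec]
  refine ⟨fun h => ?_, fun h => adjT_conj' h _⟩
  have h' := adjT_conj' h (g : G)⁻¹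
  rwa [← conjS_mul, ← conjS_mul, inv_mul_cancel, conjS_one, conjS_one] at h'
where
  adjT_conj' {X Y : Finset G} (h : AdjT X Y) (k : G) : AdjT (conjS k X) (conjS k Y) := by
    refine ⟨fun e => h.1 (Finset.image_injective (fun a b e => mul_left_cancel (mul_right_cancel e)) e), ?_⟩
    intro x hx y hy
    obtain ⟨x, hx', rfl⟩ := Finset.mem_image.1 hx
    obtain ⟨y, hy', rfl⟩ := Finset.mem_image.1 hy
    exact (Commute.conj_iff k).2 (h.2 x hx' y hy')

theorem exists_far (p : Fin 126) : ∃ r, r ≠ p ∧ adj6 p r = false := by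
  by_contra h
  push Not at h
  refine sigma_ne_one p (Equiv.ext fun r => ?_)
  rw [Equiv.Perm.one_apply]
  by_cases e : r = p
  · exact sigma_fix (Or.inl e.symm)
  · exact sigma_fix (Or.inr (by simpa using h r e))

variable (hG : Cfg24 D d q) [Gen D]

include hG

theorem mem_CU {Y : Finset G} (hY : Dec D u Y) {y : G} (hy : y ∈ Y) : y ∈ Subgroup.centralizer ({u} : Set G) :=
  Subgroup.mem_centralizer_singleton_iff.2 (hY.fix hy).2.symm.eq

/-- A member acts as the reflection of its vertex. -/
theorem act_member (hT : IsModel D u T) (hφ : IsAct T φ) {p : Fin 126} {y : G} (hy : y ∈ T p) :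
    φ ⟨y, mem_CU hG (hT.dec p) hy⟩ = sigma p := by
  have hD := hG.lay.tt
  set g : Subgroup.centralizer ({u} : Set G) := ⟨y, mem_CU hG (hT.dec p) hy⟩
  have hfix : φ g p = p := hT.inj (by
    rw [hφ.spec]; exact conjS_eq_self fun w hw => (hT.dec p).comm hy hw)
  rcases fix_closed (act_aut hT hφ g) hfix (fun r hr => hT.inj (by
    rw [hφ.spec]; exact conjS_eq_self fun w hw => ((hT.adj p r).2 hr).2 y hy w hw)) with e | e
  · exfalso
    obtain ⟨r, hrp, hr⟩ := exists_far p
    obtain ⟨z, hz⟩ := dec_nonempty hG (hT.dec r)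
    have hyz : ¬ Commute y z := not_commute hG (hT.dec p) (hT.dec r) (fun e => hrp (hT.inj e.symm))
      (fun h => by rw [(hT.adj p r).1 h] at hr; exact Bool.false_ne_true hr.symm) hy hz
    have h := hφ.spec g r
    rw [e, Equiv.Perm.one_apply] at h
    have hm : y * z * y⁻¹ ∈ T r := by
      rw [h]; exact mem_conjS.2 hz
    have hc := (hT.dec r).comm hm hz
    rw [inv_eq hD ((hT.dec p).mem hy), braid hD ((hT.dec p).mem hy) ((hT.dec r).mem hz) hyz] at hc
    have hzz := TT95.sq hD ((hT.dec r).mem hz)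
    have h' := hc.eq
    rw [show z * y * z * z = z * y * (z * z) by group, show z * (z * y * z) = (z * z) * (y * z) by group, hzz,
      mul_one, one_mul] at h'
    exact hyz h'.symm
  · exact e

/-- The image lies between the reflection group and the automorphism group. -/
theorem act_range (hu : IsProd D 4 u) (hT : IsModel D u T) (hφ : IsAct T φ) :
    RI ≤ φ.range ∧ φ.range ≤ AutT ∧ Nat.card φ.ker * Nat.card φ.range = 321052999680 ∧
      (Nat.card φ.range = 6531840 ∨ Nat.card φ.range = 13063680) := by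
  have hle : φ.range ≤ AutT := by rintro _ ⟨g, rfl⟩; exact act_aut hT hφ g
  have hge : RI ≤ φ.range := by
    rw [RI_eq, Subgroup.closure_le]
    rintro _ ⟨p, rfl⟩
    obtain ⟨y, hy⟩ := dec_nonempty hG (hT.dec p)
    exact ⟨_, act_member hG hT hφ hy⟩
  refine ⟨hge, hle, ?_, ?_⟩
  · rw [← Nat.card_congr (QuotientGroup.quotientKerEquivRange φ).toEquiv, mul_comm,
      ← Subgroup.card_eq_card_quotient_mul_card_subgroup, card_centU hG (hT.dec 0), (class_all hG hu).1]
  · obtain ⟨k, hk⟩ := card_RI ▸ Subgroup.card_dvd_of_le hge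
    have := (Subgroup.card_le_of_le hle).trans card_AutT
    have hp : 0 < Nat.card φ.range := Nat.card_pos
    omega

end Cfsg.Agent.Four95
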