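import Cfsg.Agent.Four95.Checks
import Cfsg.Agent.TT95N.Refl45

/-!
Sets of keys closed under reflections in which every key has three pairwise far neighbours: they have six or
ten members, or are one of the forty 18-sets.
-/

set_option autoImplicit false
set_option linter.unusedSectionVars false

namespace Cfsg.Agent.Four95

open Cfsg.Agent.TT95.K45G (adj)
open Cfsg.Agent.TT95N (refl45 refl45_lt refl45_fix refl45_unique reflWord exists_pairWord degree_check)

/-- The keys of a mask. -/
def memL (M : ℕ) : List ℕ := (List.range 45).filter fun i => M.testBit i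

/-- The neighbours of a key inside a mask. -/
def nbL (M i : ℕ) : List ℕ := (memL M).filter fun j => adj i j

/-- Adding keys and closing. -/
def addK : ℕ → List ℕ → ℕ → ℕ
  | 0, _, M => M
  | _ + 1, [], M => M
  | f + 1, j :: p, M =>
    if M.testBit j then addK f p M
    else addK f (((memL M).filter fun m => !adj j m).map (refl45 j) ++ p) (M ||| 2 ^ j)

/-- A key has too many neighbours, or two of them are adjacent. -/
def badK (M i : ℕ) : Bool := 3 < (nbL M i).length || (nbL M i).any fun a => (nbL M i).any fun b => adj a b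

/-- The allowed answers. -/
def goodM (M : ℕ) : Bool := (memL M).length == 6 || (memL M).length == 10 || sets.contains M

/-- The search. -/
def search : ℕ → ℕ → Bool
  | 0, _ => false
  | f + 1, M =>
    if (memL M).any (badK M) then true
    else
      match (memL M).find? fun i => (nbL M i).length < 3 with
      | some i => ((List.range 45).filter fun j => adj i j && !M.testBit j && (nbL M i).all fun m => !adj j m).all
          fun j => search f (addK 200 [j] M)
      | none => goodM M && ((List.range 45).filter fun j => !M.testBit j && (memL M).all fun m => !adj j m).all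
          fun j => search f (addK 200 [j] M)

theorem search_check : search 5 (addK 200 [1] 1) = true := by
  decide +kernel

/-- Words fixing the first key, taking the second to each of its neighbours. -/
def nbWords : List (List ℕ) :=
  [[], [14, 13], [27, 13], [36, 13], [15], [16], [13], [14], [28], [27], [37], [36]]

theorem nbWords_check : ((List.range 45).all fun j => !adj 0 j || nbWords.any fun v =>
    (v.all fun k => k < 45) && reflWord v 0 == 0 && reflWord v 1 == j) = true := by
  decide +kernel

theorem reflMap_check : ((List.range 45).all fun k => (List.range 45).all fun i => refl45 k (refl45 k i) == i &&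
    (List.range 45).all fun j => adj (refl45 k i) (refl45 k j) == adj i j) = true := by
  decide +kernel

theorem rfMove_check : ((List.range 45).all fun i => (List.range 45).all fun j => i == j || adj i j ||
    refl45 i j != j) = true := by
  decide +kernel

/-- The image of a mask under a reflection. -/
def maskImage (k M : ℕ) : ℕ := (memL M).foldl (fun a i => a ||| 2 ^ refl45 k i) 0

theorem sets_image_check : ((List.range 45).all fun k => sets.all fun M => sets.contains (maskImage k M)) = true := by
  decide +kernel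

/-- A reflection of the keys. -/
def rf (k l : Fin 45) : Fin 45 := ⟨refl45 k l, refl45_lt⟩

theorem rf_data (k i : Fin 45) : rf k (rf k i) = i ∧ ∀ j, adj (rf k i : ℕ) (rf k j) = adj (i : ℕ) j := by
  have h := List.all_eq_true.1 (List.all_eq_true.1 reflMap_check k (List.mem_range.2 k.2)) i (List.mem_range.2 i.2)
  simp only [Bool.and_eq_true, List.all_eq_true, List.mem_range, beq_iff_eq] at h
  exact ⟨Fin.ext h.1, fun j => h.2 j j.2⟩

theorem rf_inj (k : Fin 45) : Function.Injective (rf k) := fun a b h => by
  rw [← (rf_data k a).1, h, (rf_data k b).1]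

theorem adj_symm45 (i j : Fin 45) : adj (i : ℕ) j = adj (j : ℕ) i := by
  have h := List.all_eq_true.1 degree_check i (List.mem_range.2 i.2)
  simp only [Bool.and_eq_true, List.all_eq_true, List.mem_range, beq_iff_eq] at h
  exact h.2 j j.2

theorem adj_irrefl45 (i : Fin 45) : adj (i : ℕ) i = false := by
  have h := List.all_eq_true.1 degree_check i (List.mem_range.2 i.2)
  simp only [Bool.and_eq_true, Bool.not_eq_true'] at h
  exact h.1.2

theorem rf_common {i j r : Fin 45} (h1 : adj (i : ℕ) r = true)
    (h2 : adj (j : ℕ) r = true) : adj (rf i j : ℕ) r = true := by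
  have h' := (rf_data i j).2 r
  rw [show rf i r = r from Fin.ext (refl45_fix (Or.inr h1))] at h'
  rw [h', h2]

theorem rf_ne_self {i j : Fin 45} (hij : i ≠ j) (h : adj (i : ℕ) j = false) : rf i j ≠ j := by
  intro e
  have h1 := List.all_eq_true.1 (List.all_eq_true.1 rfMove_check i (List.mem_range.2 i.2)) j (List.mem_range.2 j.2)
  simp only [Bool.or_eq_true, beq_iff_eq, h, Bool.false_eq_true, or_false, bne_iff_ne] at h1
  exact h1.elim (fun e' => hij (Fin.ext e')) fun e' => e' (congrArg Fin.val e)

theorem rf_conj (k : Fin 45) {i j : Fin 45} (hij : i ≠ j) (h : adj (i : ℕ) j = false) :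
    rf (rf k i) (rf k j) = rf k (rf i j) := by
  refine Fin.ext (refl45_unique (fun e => hij (rf_inj k e)) (by rw [(rf_data k i).2 j, h]) ?_ ?_ ?_)
  · intro e
    have e2 := congrArg (rf i) (rf_inj k e)
    rw [(rf_data i j).1, show rf i i = i from Fin.ext (refl45_fix (Or.inl rfl))] at e2
    exact hij e2.symm
  · intro e
    exact rf_ne_self hij h (rf_inj k e)
  · intro r hr1 hr2
    rw [← (rf_data k r).1, (rf_data k _).2] at hr1 hr2 ⊢
    exact rf_common hr1 hr2

/-- Closed, with three far neighbours in the set at every key. -/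
structure Nice (S : Finset (Fin 45)) : Prop where
  closed : ∀ i ∈ S, ∀ j ∈ S, i ≠ j → adj (i : ℕ) j = false → rf i j ∈ S
  three : ∀ i ∈ S, (S.filter fun j : Fin 45 => adj (i : ℕ) (j : ℕ) = true).card = 3 ∧
    ∀ a ∈ S, ∀ b ∈ S, adj (i : ℕ) a = true → adj (i : ℕ) b = true → adj (a : ℕ) b = false

/-- The possible shapes. -/
def Shape (S : Finset (Fin 45)) : Prop :=
  S.card = 6 ∨ S.card = 10 ∨ ∃ s : Fin 40, ∀ i : Fin 45, i ∈ S ↔ setS s i = true

/-- A mask below a set. -/
def SubM (M : ℕ) (S : Finset (Fin 45)) : Prop := ∀ i, M.testBit i = true → ∃ h : i < 45, (⟨i, h⟩ : Fin 45) ∈ S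

theorem mem_memL {M i : ℕ} : i ∈ memL M ↔ i < 45 ∧ M.testBit i = true := by simp [memL]

theorem SubM.mem {M : ℕ} {S : Finset (Fin 45)} (hM : SubM M S) {i : ℕ} (hi : i ∈ memL M) :
    ∃ h : i < 45, (⟨i, h⟩ : Fin 45) ∈ S := hM i (mem_memL.1 hi).2

theorem addK_sub {S : Finset (Fin 45)} (hS : Nice S) (f : ℕ) (p : List ℕ) (M : ℕ) (hM : SubM M S)
    (hp : ∀ j ∈ p, ∃ h : j < 45, (⟨j, h⟩ : Fin 45) ∈ S) : SubM (addK f p M) S := by
  induction f generalizing p M with
  | zero => exact hM
  | succ f ih =>
    cases p with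
    | nil => exact hM
    | cons j p =>
      rw [addK]
      split_ifs with hj
      · exact ih p M hM fun x hx => hp x (List.mem_cons_of_mem _ hx)
      · refine ih _ _ ?_ ?_
        · intro i hi
          rw [Nat.testBit_or, Bool.or_eq_true] at hi
          rcases hi with hi | hi
          · exact hM i hi
          · rw [Nat.testBit_two_pow, decide_eq_true_eq] at hi
            exact hi ▸ hp j List.mem_cons_self
        · intro x hx
          rcases List.mem_append.1 hx with hx | hx
          · obtain ⟨m, hm, rfl⟩ := List.mem_map.1 hx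
            rw [List.mem_filter, Bool.not_eq_true'] at hm
            obtain ⟨hj', hjS⟩ := hp j List.mem_cons_self
            obtain ⟨hm', hmS⟩ := hM.mem hm.1
            refine ⟨(rf ⟨j, hj'⟩ ⟨m, hm'⟩).2, hS.closed _ hjS _ hmS (fun e => hj ?_) hm.2⟩
            rw [show j = m from congrArg Fin.val e]
            exact (mem_memL.1 hm.1).2
          · exact hp x (List.mem_cons_of_mem _ hx)

theorem nbL_nodup (M i : ℕ) : (nbL M i).Nodup := (List.nodup_range.filter _).filter _

theorem nbL_card {M : ℕ} {S : Finset (Fin 45)} (hM : SubM M S) (i : Fin 45) :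
    ∃ T : Finset (Fin 45), T ⊆ S.filter (fun j : Fin 45 => adj (i : ℕ) (j : ℕ) = true) ∧ T.card = (nbL M i).length ∧
      ∀ j ∈ T, ((j : Fin 45) : ℕ) ∈ nbL M i := by
  refine ⟨Finset.univ.filter fun j : Fin 45 => (j : ℕ) ∈ nbL M i, fun j hj => ?_, ?_, fun j hj => by simpa using hj⟩
  · have hj' := (Finset.mem_filter.1 hj).2
    rw [nbL, List.mem_filter] at hj'
    obtain ⟨h, hS⟩ := hM.mem hj'.1
    exact Finset.mem_filter.2 ⟨hS, hj'.2⟩
  · rw [← Finset.card_map Fin.valEmbedding, ← List.toFinset_card_of_nodup (nbL_nodup M i)]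
    congr 1
    ext x
    simp only [Finset.mem_map, Finset.mem_filter, Finset.mem_univ, true_and, Fin.valEmbedding_apply, List.mem_toFinset]
    exact ⟨fun ⟨j, hj, e⟩ => e ▸ hj, fun h => ⟨⟨x, (mem_memL.1 (List.mem_filter.1 h).1).1⟩, h, rfl⟩⟩

theorem search_sound {S : Finset (Fin 45)} (hS : Nice S) (f : ℕ) :
    ∀ M, SubM M S → search f M = true → Shape S := by
  induction f with
  | zero => intro M _ h; simp [search] at h
  | succ f ih =>
    intro M hM h
    rw [search] at h
    split_ifs at h with hbad
    · exfalso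
      rw [List.any_eq_true] at hbad
      obtain ⟨i, hi, hb⟩ := hbad
      obtain ⟨hi', hiS⟩ := hM.mem hi
      obtain ⟨T, hT, hTc, -⟩ := nbL_card hM ⟨i, hi'⟩
      rw [badK, Bool.or_eq_true, decide_eq_true_eq] at hb
      rcases hb with hb | hb
      · have := Finset.card_le_card hT
        rw [(hS.three _ hiS).1, hTc] at this
        simp only at this hb
        omega
      · simp only [List.any_eq_true] at hb
        obtain ⟨a, ha, b, hb, hab⟩ := hb
        rw [nbL, List.mem_filter] at ha hb
        obtain ⟨ha', haS⟩ := hM.mem ha.1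
        obtain ⟨hb', hbS⟩ := hM.mem hb.1
        exact Bool.false_ne_true (((hS.three _ hiS).2 _ haS _ hbS ha.2 hb.2).symm.trans hab)
    · split at h
      · next i hfind =>
        have hdef : (nbL M i).length < 3 := by simpa using List.find?_some hfind
        obtain ⟨hi', hiS⟩ := hM.mem (List.mem_of_find?_eq_some hfind)
        obtain ⟨T, hT, hTc, hTm⟩ := nbL_card hM ⟨i, hi'⟩
        obtain ⟨j, hj, hjT⟩ := Finset.exists_mem_notMem_of_card_lt_card
          (show T.card < (S.filter fun j : Fin 45 => adj i (j : ℕ) = true).card by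
            rw [(hS.three _ hiS).1, hTc]; exact hdef)
        rw [Finset.mem_filter] at hj
        have hjM : M.testBit (j : ℕ) = false := by
          rw [Bool.eq_false_iff]
          intro hb
          refine hjT ?_
          have hT' : T = Finset.univ.filter fun x : Fin 45 => (x : ℕ) ∈ nbL M i := by
            refine Finset.eq_of_subset_of_card_le (fun x hx => by simp [hTm x hx]) ?_
            rw [hTc, ← Finset.card_map Fin.valEmbedding, ← List.toFinset_card_of_nodup (nbL_nodup M i)]
            exact Finset.card_le_card fun x hx => by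
              obtain ⟨y, hy, rfl⟩ := Finset.mem_map.1 hx
              simpa using hy
          rw [hT', Finset.mem_filter, nbL, List.mem_filter]
          exact ⟨Finset.mem_univ _, mem_memL.2 ⟨j.2, hb⟩, hj.2⟩
        refine ih _ (addK_sub hS _ _ M hM fun x hx => ⟨(List.mem_singleton.1 hx) ▸ j.2, ?_⟩)
          (List.all_eq_true.1 h (j : ℕ) ?_)
        · obtain rfl := List.mem_singleton.1 hx
          exact hj.1
        · simp only [List.mem_filter, List.mem_range, Bool.and_eq_true, Bool.not_eq_true', List.all_eq_true]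
          refine ⟨j.2, ⟨hj.2, hjM⟩, fun m hm => ?_⟩
          rw [nbL, List.mem_filter] at hm
          obtain ⟨hm', hmS⟩ := hM.mem hm.1
          exact (hS.three _ hiS).2 _ hj.1 _ hmS hj.2 hm.2
      · next hfind =>
        simp only [List.find?_eq_none, decide_eq_true_eq, not_lt] at hfind
        rw [Bool.and_eq_true] at h
        by_cases hall : ∀ j ∈ S, M.testBit (j : ℕ) = true
        · have hlen : S.card = (memL M).length := by
            rw [← List.toFinset_card_of_nodup (show (memL M).Nodup from List.nodup_range.filter _),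
              ← Finset.card_map Fin.valEmbedding]
            congr 1
            ext x
            simp only [Finset.mem_map, Fin.valEmbedding_apply, List.mem_toFinset, mem_memL]
            exact ⟨fun ⟨j, hj, e⟩ => e ▸ ⟨j.2, hall j hj⟩, fun hx => ⟨⟨x, hx.1⟩, (hM x hx.2).2, rfl⟩⟩
          have hg := h.1
          simp only [goodM, Bool.or_eq_true, beq_iff_eq, List.contains_iff_mem] at hg
          rcases hg with (hg | hg) | hg
          · exact Or.inl (hlen.trans hg)
          · exact Or.inr (Or.inl (hlen.trans hg))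
          · obtain ⟨s, hs, e⟩ := List.mem_iff_getElem.1 hg
            refine Or.inr (Or.inr ⟨⟨s, by simpa [sets] using hs⟩, fun i => ?_⟩)
            rw [setS, List.getD_eq_getElem _ _ hs, e]
            exact ⟨hall i, fun hi => (hM i hi).2⟩
        · push Not at hall
          obtain ⟨j, hjS, hjM⟩ := hall
          refine ih _ (addK_sub hS _ _ M hM fun x hx => ⟨(List.mem_singleton.1 hx) ▸ j.2, ?_⟩)
            (List.all_eq_true.1 h.2 (j : ℕ) ?_)
          · obtain rfl := List.mem_singleton.1 hx
            exact hjS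
          · simp only [List.mem_filter, List.mem_range, Bool.and_eq_true, Bool.not_eq_true', List.all_eq_true]
            refine ⟨j.2, Bool.eq_false_iff.2 hjM, fun m hm => ?_⟩
            obtain ⟨hm', hmS⟩ := hM.mem hm
            obtain ⟨T, hT, hTc, hTm⟩ := nbL_card hM ⟨m, hm'⟩
            rw [Bool.eq_false_iff]
            intro hadj
            have hTeq : T = S.filter fun x : Fin 45 => adj m (x : ℕ) = true :=
              Finset.eq_of_subset_of_card_le hT (by rw [(hS.three _ hmS).1, hTc]; exact hfind m hm)
            have hjT : j ∈ T := by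
              rw [hTeq, Finset.mem_filter]
              exact ⟨hjS, (adj_symm45 ⟨m, hm'⟩ j).trans hadj⟩
            exact hjM (mem_memL.1 (List.mem_filter.1 (hTm j hjT)).1).2

theorem nice_image {S : Finset (Fin 45)} (hS : Nice S) (k : Fin 45) : Nice (S.image (rf k)) := by
  refine ⟨fun x hx y hy hxy hadj => ?_, fun x hx => ?_⟩
  · obtain ⟨i, hi, rfl⟩ := Finset.mem_image.1 hx
    obtain ⟨j, hj, rfl⟩ := Finset.mem_image.1 hy
    have hij : i ≠ j := fun e => hxy (e ▸ rfl)
    rw [(rf_data k i).2 j] at hadj
    rw [rf_conj k hij hadj]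
    exact Finset.mem_image_of_mem _ (hS.closed i hi j hj hij hadj)
  · obtain ⟨i, hi, rfl⟩ := Finset.mem_image.1 hx
    obtain ⟨h3, hpair⟩ := hS.three i hi
    refine ⟨?_, fun a ha b hb => ?_⟩
    · rw [Finset.filter_image, Finset.card_image_of_injective _ (rf_inj k), ← h3]
      congr 1
      ext j
      simp [(rf_data k i).2 j]
    · obtain ⟨a, ha', rfl⟩ := Finset.mem_image.1 ha
      obtain ⟨b, hb', rfl⟩ := Finset.mem_image.1 hb
      rw [(rf_data k i).2 a, (rf_data k i).2 b, (rf_data k a).2 b]
      exact hpair a ha' b hb'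

theorem maskImage_bit (k M i : ℕ) :
    (maskImage k M).testBit i = true ↔ ∃ m ∈ memL M, refl45 k m = i := by
  have gen : ∀ (l : List ℕ) (a : ℕ), (l.foldl (fun a i => a ||| 2 ^ refl45 k i) a).testBit i = true ↔
      a.testBit i = true ∨ ∃ m ∈ l, refl45 k m = i := by
    intro l
    induction l with
    | nil => simp
    | cons x l ih =>
      intro a
      rw [List.foldl_cons, ih, Nat.testBit_or, Nat.testBit_two_pow]
      simp [or_assoc]
  rw [maskImage, gen]
  simp

theorem shape_image {S : Finset (Fin 45)} {k : Fin 45} (h : Shape (S.image (rf k))) : Shape S := by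
  rcases h with h | h | ⟨s, hs⟩
  · exact Or.inl (by rwa [Finset.card_image_of_injective _ (rf_inj k)] at h)
  · exact Or.inr (Or.inl (by rwa [Finset.card_image_of_injective _ (rf_inj k)] at h))
  have hlt : (s : ℕ) < sets.length := by
    have : sets.length = 40 := rfl
    omega
  have hc := List.all_eq_true.1 (List.all_eq_true.1 sets_image_check k (List.mem_range.2 k.2)) _
    (List.getElem_mem hlt)
  rw [List.contains_iff_mem] at hc
  obtain ⟨t, ht, e⟩ := List.mem_iff_getElem.1 hc
  refine Or.inr (Or.inr ⟨⟨t, by simpa [sets] using ht⟩, fun i => ?_⟩)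
  rw [setS, List.getD_eq_getElem _ _ ht, e, maskImage_bit]
  have hsi : ∀ m : Fin 45, (sets[(s : ℕ)]).testBit (m : ℕ) = setS s m := fun m => by
    rw [setS, List.getD_eq_getElem _ _ hlt]
  constructor
  · intro hi
    refine ⟨rf k i, mem_memL.2 ⟨(rf k i).2, ?_⟩, congrArg Fin.val (rf_data k i).1⟩
    rw [hsi, ← hs]
    exact Finset.mem_image_of_mem _ hi
  · rintro ⟨m, hm, e'⟩
    obtain ⟨hm', hb⟩ := mem_memL.1 hm
    rw [hsi ⟨m, hm'⟩, ← hs, Finset.mem_image] at hb
    obtain ⟨x, hx, ex⟩ := hb
    have h2 : rf k ⟨m, hm'⟩ = i := Fin.ext e'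
    rw [← ex, (rf_data k x).1] at h2
    exact h2 ▸ hx

theorem reflWord_lt (w : List ℕ) (hw : ∀ x ∈ w, x < 45) {x : ℕ} (hx : x < 45) : reflWord w x < 45 := by
  induction w with
  | nil => simpa [reflWord] using hx
  | cons a w ih =>
    exact (rf ⟨a, hw a List.mem_cons_self⟩ ⟨_, ih fun x hx => hw x (List.mem_cons_of_mem _ hx)⟩).2

theorem shape_word {xs : List (Fin 45)} (hxs : ∀ T, Nice T → (∀ x ∈ xs, x ∈ T) → Shape T) (v : List ℕ)
    (hv : ∀ k ∈ v, k < 45) : ∀ T, Nice T → (∀ x ∈ xs, ∀ h, (⟨reflWord v (x : Fin 45), h⟩ : Fin 45) ∈ T) → Shape T := by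
  induction v with
  | nil => exact fun T hT h => hxs T hT fun x hx => h x hx x.2
  | cons k v ih =>
    intro T hT h
    refine shape_image (k := ⟨k, hv k List.mem_cons_self⟩)
      (ih (fun x hx => hv x (List.mem_cons_of_mem _ hx)) _ (nice_image hT _) fun x hx hlt => ?_)
    have h' := h x hx (rf ⟨k, hv k List.mem_cons_self⟩ ⟨_, hlt⟩).2
    exact Finset.mem_image.2 ⟨_, h', (rf_data ⟨k, hv k List.mem_cons_self⟩ ⟨_, hlt⟩).1⟩

/-- A nonempty nice set has six or ten keys or is one of the forty. -/
theorem classify {S : Finset (Fin 45)} (hS : Nice S) (hne : S.Nonempty) : Shape S := by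
  have h01 : ∀ T, Nice T → (∀ x ∈ [(0 : Fin 45), 1], x ∈ T) → Shape T := by
    intro T hT h
    refine search_sound hT 5 _ (addK_sub hT _ _ 1 (fun x hx => ?_) fun x hx => ?_) search_check
    · rw [show (1 : ℕ) = 2 ^ 0 from rfl, Nat.testBit_two_pow, decide_eq_true_eq] at hx
      subst hx
      exact ⟨by norm_num, h 0 (by simp)⟩
    · obtain rfl := List.mem_singleton.1 hx
      exact ⟨by norm_num, h 1 (by simp)⟩
  have h0 : ∀ T, Nice T → (∀ x ∈ [(0 : Fin 45)], x ∈ T) → Shape T := by
    intro T hT h
    have h0T : (0 : Fin 45) ∈ T := h 0 (by simp)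
    obtain ⟨j, hj⟩ : (T.filter fun j : Fin 45 => adj ((0 : Fin 45) : ℕ) j = true).Nonempty :=
      Finset.card_pos.1 (by rw [(hT.three 0 h0T).1]; norm_num)
    rw [Finset.mem_filter] at hj
    have hc := List.all_eq_true.1 nbWords_check j (List.mem_range.2 j.2)
    have hj2 : adj 0 (j : ℕ) = true := by simpa using hj.2
    simp only [hj2, Bool.not_true, Bool.false_or, List.any_eq_true, Bool.and_eq_true, List.all_eq_true,
      decide_eq_true_eq, beq_iff_eq] at hc
    obtain ⟨v, -, ⟨hv, hv0⟩, hv1⟩ := hc
    refine shape_word h01 v hv T hT fun x hx hlt => ?_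
    rcases List.mem_cons.1 hx with rfl | hx
    · rw [show (⟨reflWord v ((0 : Fin 45) : ℕ), hlt⟩ : Fin 45) = 0 from Fin.ext (by simpa using hv0)]
      exact h0T
    · obtain rfl := List.mem_singleton.1 hx
      rw [show (⟨reflWord v ((1 : Fin 45) : ℕ), hlt⟩ : Fin 45) = j from Fin.ext (by simpa using hv1)]
      exact hj.1
  obtain ⟨i, hi⟩ := hne
  have hfar : ∀ i : Fin 45, ∃ j : Fin 45, i ≠ j ∧ adj (i : ℕ) j = false := by decide +kernel
  obtain ⟨j, hij, hadj⟩ := hfar i
  obtain ⟨v, hv, hv0, -⟩ := exists_pairWord hij hadj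
  refine shape_word h0 v hv S hS fun x hx hlt => ?_
  obtain rfl := List.mem_singleton.1 hx
  rw [show (⟨reflWord v ((0 : Fin 45) : ℕ), hlt⟩ : Fin 45) = i from Fin.ext (by simpa using hv0)]
  exact hi

end Cfsg.Agent.Four95
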