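import Cfsg.Agent.Four95.Far

/-!
Type M(24): the classes of quadruples connected by commuting have 286, 190 or 126 elements, all equally
many.
-/

set_option autoImplicit false
set_option linter.unusedSectionVars false
set_option linter.style.haveILetI false

namespace Cfsg.Agent.Four95

open Cfsg.Agent.TT95 Cfsg.Agent.TT95N Cfsg.Agent.TT95N.Four
open Cfsg.Agent.TT95.K45G (adj)

variable {G : Type*} [Group G]

/-- Two quadruples joined by commuting members. -/
def NearT (D : Set G) (u : G) (X Y : Finset G) : Prop := ∃ x ∈ X, ∃ y ∈ Y, Path (fixU D u) x y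

variable [DecidableEq G]

/-- The class of a quadruple. -/
def compT (D : Set G) (u : G) [Finite G] (W : Finset G) : Set (Finset G) :=
  {Y | Dec D u Y ∧ NearT D u W Y}

/-- The quadruples not commuting with the given one that commute with a common third. -/
def farSet (D : Set G) (u : G) [Finite G] (W : Finset G) (ι : Fin 45 → Finset G) : Set (Finset G) :=
  {Y | Dec D u Y ∧ W ≠ Y ∧ ¬ AdjT W Y ∧ (farKeys W ι Y).Nonempty}

theorem sets_card_check : (sets.all fun S => ((List.range 45).filter fun i => S.testBit i).length == 18) = true := by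
  decide +kernel

theorem setS_card (s : Fin 40) {S : Finset (Fin 45)} (h : ∀ i : Fin 45, i ∈ S ↔ setS s i = true) : S.card = 18 := by
  have hlt : (s : ℕ) < sets.length := by
    have : sets.length = 40 := rfl
    omega
  have hc := List.all_eq_true.1 sets_card_check _ (List.getElem_mem hlt)
  rw [beq_iff_eq] at hc
  rw [← hc, ← List.toFinset_card_of_nodup (List.nodup_range.filter _), ← Finset.card_map Fin.valEmbedding]
  congr 1
  ext n
  simp only [Finset.mem_map, Fin.valEmbedding_apply, List.mem_toFinset, List.mem_filter, List.mem_range, h, setS,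
    List.getD_eq_getElem _ _ hlt]
  exact ⟨fun ⟨j, hj, e⟩ => e ▸ ⟨j.2, hj⟩, fun hn => ⟨⟨n, hn.1⟩, hn.2, rfl⟩⟩

variable [Finite G] {D : Set G} {u : G} {d : G} {q : ModCenter (Subgroup.closure (nb D d))} (hG : Cfg24 D d q) [Gen D]

include hG

theorem near_refl {X : Finset G} (hX : Dec D u X) : NearT D u X X := by
  obtain ⟨x, hx⟩ := dec_nonempty hG hX
  exact ⟨x, hx, x, hx, Relation.ReflTransGen.refl⟩

omit hG in
theorem near_symm {X Y : Finset G} (h : NearT D u X Y) : NearT D u Y X := by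
  obtain ⟨x, hx, y, hy, p⟩ := h
  exact ⟨y, hy, x, hx, TT95.Path.symm p⟩

omit hG in
theorem near_trans {X Y Z : Finset G} (hY : Dec D u Y) (h : NearT D u X Y) (h' : NearT D u Y Z) : NearT D u X Z := by
  obtain ⟨x, hx, y, hy, p⟩ := h
  obtain ⟨y', hy', z, hz, p'⟩ := h'
  exact ⟨x, hx, z, hz, p.trans ((Relation.ReflTransGen.single ⟨hY.fix hy, hY.fix hy', hY.comm hy hy'⟩).trans p')⟩

theorem near_adj {X Y : Finset G} (hX : Dec D u X) (hY : Dec D u Y) (h : AdjT X Y) : NearT D u X Y := by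
  obtain ⟨x, hx⟩ := dec_nonempty hG hX
  obtain ⟨y, hy⟩ := dec_nonempty hG hY
  exact ⟨x, hx, y, hy, Relation.ReflTransGen.single ⟨hX.fix hx, hY.fix hy, h.2 x hx y hy⟩⟩

variable {W : Finset G} {ι : Fin 45 → Finset G}

theorem near_cases (hu : IsProd D 4 u) (hW : Dec D u W) (hι : OctChart D W ι) {Y : Finset G} :
    Y ∈ compT D u W ↔ Y = W ∨ (∃ i, Y = tet W ι i) ∨ Y ∈ farSet D u W ι := by
  constructor
  · rintro ⟨hY, x, hx, y, hy, p⟩
    by_cases h1 : W = Y
    · exact Or.inl h1.symm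
    by_cases h2 : AdjT W Y
    · exact Or.inr (Or.inl (tet_surj hG hu hW hι hY h2))
    refine Or.inr (Or.inr ⟨hY, h1, h2, ?_⟩)
    have hxy := not_commute hG hW hY h1 h2 hx hy
    obtain ⟨b, hb, -, -, hxb, hby⟩ := common_of_path hG.lay.tt (fixU_closed hG.lay.tt u) (hW.fix hx) p hxy
    obtain ⟨Z, hZ, hbZ⟩ := exists_dec hG hu hb
    have hWZ : W ≠ Z := fun e => h2 (adjT_of hG hW hY h1 (e ▸ hbZ) hy hby)
    obtain ⟨i, rfl⟩ := tet_surj hG hu hW hι hZ (adjT_of hG hW hZ hWZ hx hbZ hxb)
    exact ⟨i, mem_farKeys.2 (adjT_of hG hZ hY (fun e => h2 (e ▸ tet_adjW hG hW hι i)) hbZ hy hby)⟩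
  · rintro (rfl | ⟨i, rfl⟩ | ⟨hY, -, -, i, hi⟩)
    · exact ⟨hW, near_refl hG hW⟩
    · exact ⟨tet_dec hG hu hW hι i, near_adj hG hW (tet_dec hG hu hW hι i) (tet_adjW hG hW hι i)⟩
    · have hT := tet_dec hG hu hW hι i
      exact ⟨hY, near_trans hT (near_adj hG hW hT (tet_adjW hG hW hι i)) (near_adj hG hT hY (mem_farKeys.1 hi))⟩

theorem compT_card (hu : IsProd D 4 u) (hW : Dec D u W) (hι : OctChart D W ι) :
    (compT D u W).ncard = 46 + (farSet D u W ι).ncard := by
  have e : compT D u W = insert W (Set.range (tet W ι) ∪ farSet D u W ι) := by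
    ext Y
    rw [near_cases hG hu hW hι, Set.mem_insert_iff, Set.mem_union, Set.mem_range]
    exact or_congr_right (or_congr_left (exists_congr fun i => eq_comm))
  rw [e, Set.ncard_insert_of_notMem ?_ (Set.toFinite _), Set.ncard_union_eq ?_ (Set.toFinite _) (Set.toFinite _),
    Set.ncard_range_of_injective (tet_inj hG hW hι), Nat.card_fin]
  · omega
  · rw [Set.disjoint_left]
    rintro _ ⟨i, rfl⟩ h
    exact h.2.2.1 (tet_adjW hG hW hι i)
  · rintro (⟨i, e⟩ | h)
    · exact (tet_adjW hG hW hι i).1 e.symm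
    · exact h.2.1 rfl

/-- Thirty-two far quadruples at a neighbour. -/
theorem card_far_at (hu : IsProd D 4 u) (hW : Dec D u W) (hι : OctChart D W ι) (i : Fin 45) :
    {Y : Finset G | Y ∈ farSet D u W ι ∧ i ∈ farKeys W ι Y}.ncard = 32 := by
  classical
  have hT := tet_dec hG hu hW hι i
  have hne : ∀ {x : Fin 45}, adj (i : ℕ) x = true → i ≠ x := fun {x} h e => by
    subst e; rw [adj_irrefl45] at h; exact Bool.false_ne_true h
  set N := Finset.univ.filter fun j : Fin 45 => adj (i : ℕ) j = true with hN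
  have hN12 : N.card = 12 := by
    have h12 := List.all_eq_true.1 TT95N.degree_check i (List.mem_range.2 i.2)
    simp only [Bool.and_eq_true, beq_iff_eq] at h12
    rw [← h12.1.1, ← List.toFinset_card_of_nodup (List.Nodup.filter _ List.nodup_range),
      ← Finset.card_map Fin.valEmbedding]
    congr 1
    ext n
    simp only [hN, Finset.mem_map, Finset.mem_filter, Finset.mem_univ, true_and, Fin.valEmbedding_apply,
      List.mem_toFinset, List.mem_filter, List.mem_range]
    exact ⟨fun ⟨r, hr, e⟩ => e ▸ ⟨r.2, hr⟩, fun h => ⟨⟨n, h.1⟩, h.2, rfl⟩⟩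
  set A := {Y : Finset G | Y ∈ farSet D u W ι ∧ i ∈ farKeys W ι Y} with hA
  have e : {Y : Finset G | Dec D u Y ∧ AdjT (tet W ι i) Y} = insert W (↑(N.image (tet W ι)) ∪ A) := by
    ext Y
    rw [Set.mem_insert_iff, Set.mem_union, Finset.mem_coe, Finset.mem_image, hA]
    constructor
    · rintro ⟨hY, h⟩
      by_cases h1 : W = Y
      · exact Or.inl h1.symm
      by_cases h2 : AdjT W Y
      · obtain ⟨j, rfl⟩ := tet_surj hG hu hW hι hY h2
        exact Or.inr (Or.inl ⟨j, by simp [hN, (tet_adj hG hu hW hι fun e => h.1 (congrArg _ e)).1 h], rfl⟩)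
      · exact Or.inr (Or.inr ⟨⟨hY, h1, h2, i, mem_farKeys.2 h⟩, mem_farKeys.2 h⟩)
    · rintro (rfl | ⟨j, hj, rfl⟩ | ⟨h, hi⟩)
      · exact ⟨hW, (tet_adjW hG hW hι i).symm⟩
      · rw [hN, Finset.mem_filter] at hj
        exact ⟨tet_dec hG hu hW hι j, (tet_adj hG hu hW hι (hne hj.2)).2 hj.2⟩
      · exact ⟨h.1, mem_farKeys.1 hi⟩
  have h45 := card_nbrs hG hu hT
  rw [e, Set.ncard_insert_of_notMem ?_ (Set.toFinite _), Set.ncard_union_eq ?_ (Set.toFinite _) (Set.toFinite _),
    Set.ncard_coe_finset, Finset.card_image_of_injective _ (tet_inj hG hW hι), hN12] at h45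
  · omega
  · rw [Set.disjoint_left]
    intro Y hY hY'
    rw [Finset.mem_coe, Finset.mem_image] at hY
    obtain ⟨j, -, rfl⟩ := hY
    exact hY'.1.2.2.1 (tet_adjW hG hW hι j)
  · rintro (h | h)
    · rw [Finset.mem_coe, Finset.mem_image] at h
      obtain ⟨j, -, e'⟩ := h
      exact (tet_adjW hG hW hι j).1 e'.symm
    · exact h.1.2.1 rfl

/-- The number of keys does not depend on the far pair. -/
theorem farKeys_const (hu : IsProd D 4 u) (hW : Dec D u W) (hι : OctChart D W ι) {Y : Finset G}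
    (hY : Y ∈ farSet D u W ι) {W' : Finset G} {ι' : Fin 45 → Finset G} (hW' : Dec D u W')
    (hι' : OctChart D W' ι') {Y' : Finset G} (hY' : Y' ∈ farSet D u W' ι') :
    (farKeys W ι Y).card = (farKeys W' ι' Y').card := by
  obtain ⟨hYd, h1, h2, i, hi⟩ := hY
  obtain ⟨hYd', h1', h2', i', hi'⟩ := hY'
  have hi := mem_farKeys.1 hi
  have hi' := mem_farKeys.1 hi'
  obtain ⟨a, ha⟩ := dec_nonempty hG hW
  obtain ⟨e, he⟩ := dec_nonempty hG hYd
  obtain ⟨x, hx⟩ := oct_nonempty hG hW hι i
  obtain ⟨a', ha'⟩ := dec_nonempty hG hW'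
  obtain ⟨e', he'⟩ := dec_nonempty hG hYd'
  obtain ⟨x', hx'⟩ := oct_nonempty hG hW' hι' i'
  have h := mult_const hG hu ((tet_dec hG hu hW hι i).fix hx) (hW.fix ha) (hYd.fix he)
    ((tet_adjW hG hW hι i).2 a ha x hx).symm (hi.2 x hx e he) (not_commute hG hW hYd h1 h2 ha he)
    ((tet_dec hG hu hW' hι' i').fix hx') (hW'.fix ha') (hYd'.fix he')
    ((tet_adjW hG hW' hι' i').2 a' ha' x' hx').symm (hi'.2 x' hx' e' he') (not_commute hG hW' hYd' h1' h2' ha' he')
  rw [mult_eq hG hu hW hι hYd h1 h2 ha he, mult_eq hG hu hW' hι' hYd' h1' h2' ha' he'] at h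
  omega

/-- One number of keys for all far pairs, and the size of the classes. -/
theorem exists_size (hu : IsProd D 4 u) :
    ∃ m v : ℕ, (m = 6 ∧ v = 286 ∨ m = 10 ∧ v = 190 ∨ m = 18 ∧ v = 126) ∧
      ∀ (W : Finset G) (ι : Fin 45 → Finset G), Dec D u W → OctChart D W ι →
        (compT D u W).ncard = v ∧ ∀ Y ∈ farSet D u W ι, (farKeys W ι Y).card = m := by
  classical
  haveI := Fintype.ofFinite G
  have hcount : ∀ (W : Finset G) (ι : Fin 45 → Finset G), Dec D u W → OctChart D W ι →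
      ∑ Y ∈ (farSet D u W ι).toFinset, (farKeys W ι Y).card = 1440 := by
    intro W ι hW hι
    have h := Finset.sum_card_bipartiteAbove_eq_sum_card_bipartiteBelow (fun Y i => i ∈ farKeys W ι Y)
      (s := (farSet D u W ι).toFinset) (t := (Finset.univ : Finset (Fin 45)))
    rw [Finset.sum_congr rfl fun Y _ => show ((Finset.univ : Finset (Fin 45)).bipartiteAbove
        (fun Y i => i ∈ farKeys W ι Y) Y).card = (farKeys W ι Y).card by
      rw [Finset.bipartiteAbove, Finset.filter_univ_mem]] at h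
    rw [h, Finset.sum_congr rfl fun i _ => show ((farSet D u W ι).toFinset.bipartiteBelow
        (fun Y i => i ∈ farKeys W ι Y) i).card = 32 by
      rw [← card_far_at hG hu hW hι i, Set.ncard_eq_toFinset_card', Finset.bipartiteBelow]
      congr 1
      ext Y
      simp only [Finset.mem_filter, Set.mem_toFinset, Set.mem_ofPred_eq]]
    simp
  obtain ⟨p, r, s, v, hn, hm, hc, hp⟩ := isProd4_elim hG hu
  have hW₀ : Dec D u [p, r, s, v].toFinset := Dec.of_list hn hm hc hp
  obtain ⟨ι₀, hι₀⟩ := exists_octChart hG hW₀.1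
  obtain ⟨Y₀, hY₀, -⟩ := Finset.exists_ne_zero_of_sum_ne_zero
    (show ∑ Y ∈ (farSet D u [p, r, s, v].toFinset ι₀).toFinset, (farKeys [p, r, s, v].toFinset ι₀ Y).card ≠ 0 by
      rw [hcount _ ι₀ hW₀ hι₀]; norm_num)
  rw [Set.mem_toFinset] at hY₀
  set m := (farKeys [p, r, s, v].toFinset ι₀ Y₀).card with hm'
  have hval : m = 6 ∨ m = 10 ∨ m = 18 := by
    rcases classify (nice_far hG hu hW₀ hι₀ hY₀.1 hY₀.2.1 hY₀.2.2.1) hY₀.2.2.2 with h | h | ⟨s, hs⟩
    · exact Or.inl h
    · exact Or.inr (Or.inl h)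
    · exact Or.inr (Or.inr (setS_card s hs))
  refine ⟨m, 46 + 1440 / m, ?_, fun W ι hW hι => ?_⟩
  · rcases hval with h | h | h <;> simp [h]
  · have hconst : ∀ Y ∈ farSet D u W ι, (farKeys W ι Y).card = m := fun Y hY =>
      farKeys_const hG hu hW hι hY hW₀ hι₀ hY₀
    refine ⟨?_, hconst⟩
    have h := hcount W ι hW hι
    rw [Finset.sum_congr rfl fun Y hY => hconst Y (Set.mem_toFinset.1 hY), Finset.sum_const, smul_eq_mul,
      ← Set.ncard_eq_toFinset_card'] at h
    rw [compT_card hG hu hW hι, ← h, Nat.mul_div_cancel _ (by omega)]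

/-- The number of quadruples: a multiple of the class size, at most 638. -/
theorem dec_count (hu : IsProd D 4 u) {v : ℕ}
    (hv : ∀ W, Dec D u W → (compT D u W).ncard = v) :
    v ∣ {W : Finset G | Dec D u W}.ncard ∧ {W : Finset G | Dec D u W}.ncard * 4 ≤ 2552 := by
  classical
  haveI := Fintype.ofFinite G
  set P := {W : Finset G | Dec D u W}.toFinset with hP
  rw [Set.ncard_eq_toFinset_card', ← hP]
  constructor
  · rw [Finset.card_eq_sum_card_image (fun W => (compT D u W).toFinset) P]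
    refine Finset.dvd_sum fun B hB => ?_
    obtain ⟨W, hW, rfl⟩ := Finset.mem_image.1 hB
    rw [hP, Set.mem_toFinset] at hW
    refine dvd_of_eq ?_
    rw [← hv W hW, Set.ncard_eq_toFinset_card']
    congr 1
    ext Y
    simp only [hP, Finset.mem_filter, Set.mem_toFinset, Set.mem_ofPred_eq]
    constructor
    · rintro ⟨hY, hn⟩
      refine ⟨?_, ?_⟩
      · exact hY
      · ext Z
        simp only [Set.mem_toFinset]
        exact ⟨fun h => ⟨h.1, near_trans hY hn h.2⟩, fun h => ⟨h.1, near_trans hW (near_symm hn) h.2⟩⟩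
    · rintro ⟨hY, h⟩
      have : Y ∈ (compT D u Y).toFinset := Set.mem_toFinset.2 ⟨hY, near_refl hG hY⟩
      rw [h, Set.mem_toFinset] at this
      exact this
  · have hF : fixU D u = ↑(P.biUnion id) := by
      ext x
      rw [Finset.mem_coe, Finset.mem_biUnion]
      constructor
      · intro hx
        obtain ⟨W, hW, hxW⟩ := exists_dec hG hu hx
        exact ⟨W, Set.mem_toFinset.2 hW, hxW⟩
      · rintro ⟨W, hW, hxW⟩
        rw [hP, Set.mem_toFinset] at hW
        exact hW.fix hxW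
    have hb := regular_bound hG.lay (F := fixU D u) (fun x hx => hx.1) (fun a ha => fix_nb_card hG hu ha)
    rw [hF, Set.ncard_coe_finset, Finset.card_biUnion (fun X hX Y hY hXY => by
        rw [Function.onFun, Finset.disjoint_left]
        intro x hx hx'
        rw [Finset.mem_coe, hP, Set.mem_toFinset] at hX hY
        exact hXY (dec_unique hG hX hY hx hx')),
      Finset.sum_congr rfl fun X hX => Dec.card (D := D) (u := u) (by simpa [hP] using hX), Finset.sum_const, smul_eq_mul] at hb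
    exact hb

end Cfsg.Agent.Four95
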