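import Cfsg.Agent.TT95.Pair24
import Cfsg.Agent.TT95N.InvolFour

/-!
Type M(24): the centralisers of two, three and four commuting transpositions, and the stabiliser of a
quadruple in the centraliser of its product.
-/

set_option autoImplicit false
set_option linter.unusedSectionVars false
set_option linter.style.haveILetI false

namespace Cfsg.Agent.Four95

open Cfsg.Agent.TT95 Cfsg.Agent.TT95N.Four

variable {G : Type*} [Group G] [DecidableEq G]

/-- The conjugate of a set of elements. -/
def conjS (g : G) (W : Finset G) : Finset G := W.image fun x => g * x * g⁻¹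

theorem conjS_one (W : Finset G) : conjS 1 W = W := by simp [conjS]

theorem conjS_mul (g k : G) (W : Finset G) : conjS (g * k) W = conjS g (conjS k W) := by
  rw [conjS, conjS, conjS, Finset.image_image]
  exact Finset.image_congr fun x _ => by simp [mul_assoc]

theorem mem_conjS {g x : G} {W : Finset G} : g * x * g⁻¹ ∈ conjS g W ↔ x ∈ W := by
  simp [conjS]

theorem conjS_eq_self {g : G} {W : Finset G} (h : ∀ w ∈ W, Commute g w) : conjS g W = W := by
  rw [conjS, Finset.image_congr (g := id) fun x hx => mul_inv_eq_iff_eq_mul.2 (h x hx).eq, Finset.image_id]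

/-- The elements stabilising a set under conjugation. -/
def stabW (W : Finset G) : Subgroup G where
  carrier := {g | conjS g W = W}
  one_mem' := conjS_one W
  mul_mem' {g k} hg hk := by
    show conjS (g * k) W = W
    rw [conjS_mul, show conjS k W = W from hk, show conjS g W = W from hg]
  inv_mem' {g} hg := by
    show conjS g⁻¹ W = W
    conv_lhs => rw [← show conjS g W = W from hg]
    rw [← conjS_mul, inv_mul_cancel, conjS_one]

theorem mem_stabW {W : Finset G} {g : G} : g ∈ stabW W ↔ conjS g W = W := Iff.rfl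

variable [Finite G] {D : Set G} {d : G} {q : ModCenter (Subgroup.closure (nb D d))} (hG : Cfg24 D d q) [Gen D]

include hG

omit [DecidableEq G] in
theorem card_pair {a b : G} (ha : a ∈ D) (hb : b ∈ nb D a) :
    Nat.card (Subgroup.centralizer ({a, b} : Set G)) = 258247006617600 := by
  have hD := hG.lay.tt
  haveI := gen_loc24 hG
  haveI := loc_finite hD d
  obtain ⟨χ, hs, hk⟩ := exists_pairHom hG ha hb
  haveI := gen_loc hG.loc
  haveI := loc_finite hG.loc.lay.tt q
  obtain ⟨p, hp⟩ := loc_nonempty hG.loc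
  rw [centralizer_pair24 hG ha hb, Subgroup.card_eq_card_quotient_mul_card_subgroup χ.ker,
    Nat.card_congr (QuotientGroup.quotientKerEquivOfSurjective χ hs).toEquiv, card_group hG.loc.loc hp hG.loc.core]
  have hab : a * b ≠ 1 := fun h => hb.2.1 (by rw [eq_inv_of_mul_eq_one_right h, inv_eq hD ha])
  have hset : ((↑) : Subgroup.closure (common D a b) → G) '' (χ.ker : Set (Subgroup.closure (common D a b))) =
      {1, a, b, a * b} := by
    ext z
    constructor
    · rintro ⟨w, hw, rfl⟩
      exact (hk w).1 hw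
    · intro hz
      exact ⟨⟨z, (mem_pair_cases hG ha hb hz).1⟩, (hk _).2 hz, rfl⟩
  have hcard : Nat.card χ.ker = 4 := by
    rw [← SetLike.coe_sort_coe, Nat.card_coe_set_eq, ← Set.ncard_image_of_injective _ Subtype.val_injective, hset,
      Set.ncard_insert_of_notMem, Set.ncard_insert_of_notMem, Set.ncard_pair]
    · exact fun h => ne_one hD ha (by
        have := congrArg (· * b) h
        simp only [mul_assoc, TT95.sq hD hb.1, mul_one] at this
        exact this.symm)
    · simp only [Set.mem_insert_iff, Set.mem_singleton_iff, not_or]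
      exact ⟨hb.2.1.symm, fun h => ne_one hD hb.1 (mul_left_cancel ((mul_one a).trans h)).symm⟩
    · simp only [Set.mem_insert_iff, Set.mem_singleton_iff, not_or]
      exact ⟨(ne_one hD ha).symm, (ne_one hD hb.1).symm, hab.symm⟩
  rw [hcard]

omit [DecidableEq G] in
theorem card_triple {a b c : G} (ha : a ∈ D) (hb : b ∈ nb D a) (hc : c ∈ common D a b) :
    Nat.card (Subgroup.centralizer ({a, b, c} : Set G)) * 3510 = 258247006617600 := by
  have hD := hG.lay.tt
  set H := Subgroup.centralizer ({a, b} : Set G) with hH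
  have hr : Set.range (fun g : H => (g : G) * c * (g : G)⁻¹) = common D a b := by
    ext x
    constructor
    · rintro ⟨g, rfl⟩
      have ea : (g : G) * a * (g : G)⁻¹ = a :=
        mul_inv_eq_iff_eq_mul.2 (Subgroup.mem_centralizer_iff.1 g.2 a (by simp)).symm
      have eb : (g : G) * b * (g : G)⁻¹ = b :=
        mul_inv_eq_iff_eq_mul.2 (Subgroup.mem_centralizer_iff.1 g.2 b (by simp)).symm
      exact ⟨ea ▸ (nb_conj hD g a c).2 hc.1, eb ▸ (nb_conj hD g b c).2 hc.2⟩
    · intro hx
      obtain ⟨g, hg, e⟩ := common_trans24 hG ha hb hc hx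
      exact ⟨⟨g, hg⟩, e⟩
  rw [← card_pair hG ha hb, card_eq_mul_of_fibres (fun g : H => (g : G) * c * (g : G)⁻¹)
    ((Subgroup.centralizer ({c} : Set G)).subgroupOf H)
    (fun g g' => by rw [Subgroup.mem_subgroupOf]; exact conj_eq_conj_iff (g := (g : G)) (g' := (g' : G))),
    hr, hG.lay.card_edge a ha b hb, mul_comm]
  congr 1
  rw [← Subgroup.inf_subgroupOf_right, Nat.card_congr (Subgroup.subgroupOfEquivOfLe inf_le_right).toEquiv,
    show Subgroup.centralizer ({c} : Set G) ⊓ H = Subgroup.centralizer ({a, b, c} : Set G) by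
      ext g
      simp [hH, Subgroup.mem_centralizer_iff]
      tauto]

theorem card_quad {a b c e : G} (hn : [a, b, c, e].Nodup) (hm : ∀ x ∈ [a, b, c, e], x ∈ D)
    (hcm : ∀ x ∈ [a, b, c, e], ∀ y ∈ [a, b, c, e], Commute x y) :
    Nat.card (Subgroup.centralizer ({a, b, c, e} : Set G)) = 106168320 := by
  have hD := hG.lay.tt
  have hn' := hn
  simp only [List.nodup_cons, List.mem_cons, List.not_mem_nil, or_false, not_or] at hn'
  obtain ⟨⟨nab, nac, nae⟩, ⟨nbc, nbe⟩, nce, -⟩ := hn'
  have hb : b ∈ nb D a := ⟨hm b (by simp), Ne.symm nab, hcm a (by simp) b (by simp)⟩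
  have hc : c ∈ common D a b :=
    ⟨⟨hm c (by simp), Ne.symm nac, hcm a (by simp) c (by simp)⟩, hm c (by simp), Ne.symm nbc, hcm b (by simp) c (by simp)⟩
  have h3 : ({a, b, c} : Finset G) ∈ cliques D 3 := mem_cliques.2 ⟨Finset.card_eq_three.2 ⟨a, b, c, nab, nac, nbc, rfl⟩,
    fun x hx => hm x (by simp at hx ⊢; tauto), fun x hx y hy => hcm x (by simp at hx ⊢; tauto) y (by simp at hy ⊢; tauto)⟩
  have hp3 : (perp D ({a, b, c} : Set G)).ncard = 693 := by
    simpa using perp_three hG h3
  set H := Subgroup.centralizer ({a, b, c} : Set G) with hH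
  have hr : Set.range (fun g : H => (g : G) * e * (g : G)⁻¹) = perp D ({a, b, c} : Set G) := by
    ext x
    constructor
    · rintro ⟨g, rfl⟩
      have hfix : ∀ w ∈ ({a, b, c} : Set G), (g : G) * w * (g : G)⁻¹ = w := fun w hw =>
        mul_inv_eq_iff_eq_mul.2 (Subgroup.mem_centralizer_iff.1 g.2 w hw).symm
      refine ⟨TT95.conj_mem hD _ (hm e (by simp)), fun h => ?_, fun w hw => ?_⟩
      · have := hfix _ h
        have h' : e ∈ ({a, b, c} : Set G) := by
          have h'' : (g : G) * e * (g : G)⁻¹ = e := mul_left_cancel (mul_right_cancel this)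
          exact h'' ▸ h
        rcases h' with h' | h' | h'
        exacts [nae h'.symm, nbe h'.symm, nce h'.symm]
      · rw [← hfix w hw]
        refine (Commute.conj_iff (g : G)).2 (hcm w ?_ e (by simp))
        rcases hw with rfl | rfl | rfl <;> simp
    · rintro ⟨hx, hxn, hxc⟩
      obtain ⟨g, g1, g2, g3, g4⟩ := transQuads24 hG (a' := a) (b' := b) (c' := c) (e' := x) hm
        (by simp [hm a, hm b, hm c, hx]) hn
        (by simp at hxn ⊢; exact ⟨⟨nab, nac, Ne.symm hxn.1⟩, ⟨nbc, Ne.symm hxn.2.1⟩, Ne.symm hxn.2.2⟩) hcm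
        (by
          have key : ∀ w ∈ [a, b, c, x], w ∈ ({a, b, c} : Set G) ∨ w = x := fun w hw => by
            simp only [List.mem_cons, List.not_mem_nil, or_false] at hw
            simp only [Set.mem_insert_iff, Set.mem_singleton_iff]
            tauto
          have hl : ∀ w ∈ ({a, b, c} : Set G), w ∈ [a, b, c, e] := fun w hw => by
            simp only [Set.mem_insert_iff, Set.mem_singleton_iff] at hw
            rcases hw with rfl | rfl | rfl <;> simp
          intro u hu v hv
          rcases key u hu with hu' | rfl <;> rcases key v hv with hv' | rfl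
          exacts [hcm u (hl u hu') v (hl v hv'), hxc u hu', (hxc v hv').symm, Commute.refl _])
      refine ⟨⟨g, Subgroup.mem_centralizer_iff.2 ?_⟩, g4⟩
      rintro w (rfl | rfl | rfl)
      exacts [(mul_inv_eq_iff_eq_mul.1 g1).symm, (mul_inv_eq_iff_eq_mul.1 g2).symm, (mul_inv_eq_iff_eq_mul.1 g3).symm]
  have h := card_triple hG (hm a (by simp)) hb hc
  rw [← hH, card_eq_mul_of_fibres (fun g : H => (g : G) * e * (g : G)⁻¹)
    ((Subgroup.centralizer ({e} : Set G)).subgroupOf H)
    (fun g g' => by rw [Subgroup.mem_subgroupOf]; exact conj_eq_conj_iff (g := (g : G)) (g' := (g' : G))),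
    hr, hp3, ← Subgroup.inf_subgroupOf_right, Nat.card_congr (Subgroup.subgroupOfEquivOfLe inf_le_right).toEquiv,
    show Subgroup.centralizer ({e} : Set G) ⊓ H = Subgroup.centralizer ({a, b, c, e} : Set G) by
      ext g
      simp [hH, Subgroup.mem_centralizer_iff]
      tauto] at h
  omega

theorem card_centralizer_quad {W : Finset G} (hW : W ∈ cliques D 4) :
    Nat.card (Subgroup.centralizer (↑W : Set G)) = 106168320 := by
  obtain ⟨hc, hm, hcm⟩ := mem_cliques.1 hW
  obtain ⟨a, T, haT, rfl, hT⟩ := Finset.card_eq_succ.1 hc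
  obtain ⟨b, c, e, nbc, nbe, nce, rfl⟩ := Finset.card_eq_three.1 hT
  simp only [Finset.mem_insert, Finset.mem_singleton, not_or] at haT
  simpa using card_quad hG (a := a) (b := b) (c := c) (e := e) (by simp [haT.1, haT.2.1, haT.2.2, nbc, nbe, nce])
    (fun x hx => hm x (by simpa using hx)) (fun x hx y hy => hcm x (by simpa using hx) y (by simpa using hy))

variable {u : G}

/-- Stabilising a quadruple fixes its product. -/
theorem stab_commute {W : Finset G} (hW : Dec D u W) {g : G} (hg : g ∈ stabW W) : Commute g u := by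
  obtain ⟨a, ha⟩ : W.Nonempty := Finset.card_pos.1 (by rw [hW.card]; norm_num)
  obtain ⟨b, c, e, hn, hmem, hu⟩ := hW.split ha
  have hi : ∀ x ∈ W, g * x * g⁻¹ ∈ W := fun x hx => by
    have h := mem_conjS (g := g).2 hx
    rwa [mem_stabW.1 hg] at h
  have h := hW.2 (g * a * g⁻¹) (g * b * g⁻¹) (g * c * g⁻¹) (g * e * g⁻¹)
    (by
      have := hn.map (f := fun x => g * x * g⁻¹) fun x y e => mul_left_cancel (mul_right_cancel e)
      simpa using this)
    (by
      conv_rhs => rw [← mem_stabW.1 hg]
      ext x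
      simp only [conjS, Finset.mem_image, hmem, List.mem_toFinset, List.mem_cons, List.not_mem_nil, or_false]
      constructor
      · rintro (rfl | rfl | rfl | rfl)
        exacts [⟨a, Or.inl rfl, rfl⟩, ⟨b, Or.inr (Or.inl rfl), rfl⟩, ⟨c, Or.inr (Or.inr (Or.inl rfl)), rfl⟩,
          ⟨e, Or.inr (Or.inr (Or.inr rfl)), rfl⟩]
      · rintro ⟨y, (rfl | rfl | rfl | rfl), rfl⟩ <;> simp)
  rw [show g * a * g⁻¹ * (g * b * g⁻¹) * (g * c * g⁻¹) * (g * e * g⁻¹) = g * (a * (b * c * e)) * g⁻¹ by group, hu] at h
  exact mul_inv_eq_iff_eq_mul.1 h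

/-- An element inducing a given permutation of a quadruple. -/
theorem exists_perm_quad {W : Finset G} (hW : W ∈ cliques D 4) (σ : Equiv.Perm {x // x ∈ W}) :
    ∃ g : G, ∀ x : {x // x ∈ W}, g * x * g⁻¹ = σ x := by
  obtain ⟨hc, hm, hcm⟩ := mem_cliques.1 hW
  obtain ⟨a, T, haT, rfl, hT⟩ := Finset.card_eq_succ.1 hc
  obtain ⟨b, c, e, nbc, nbe, nce, rfl⟩ := Finset.card_eq_three.1 hT
  simp only [Finset.mem_insert, Finset.mem_singleton, not_or] at haT
  set A : {x // x ∈ (insert a ({b, c, e} : Finset G))} := ⟨a, by simp⟩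
  set B : {x // x ∈ (insert a ({b, c, e} : Finset G))} := ⟨b, by simp⟩
  set C : {x // x ∈ (insert a ({b, c, e} : Finset G))} := ⟨c, by simp⟩
  set E : {x // x ∈ (insert a ({b, c, e} : Finset G))} := ⟨e, by simp⟩
  have hne : ∀ {X Y : {x // x ∈ (insert a ({b, c, e} : Finset G))}}, (X : G) ≠ Y → (σ X : G) ≠ σ Y :=
    fun h e => h (congrArg Subtype.val (σ.injective (Subtype.ext e)))
  obtain ⟨g, g1, g2, g3, g4⟩ := transQuads24 hG (a := a) (b := b) (c := c) (e := e)
    (a' := σ A) (b' := σ B) (c' := σ C) (e' := σ E)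
    (fun x hx => hm x (by simpa using hx))
    (fun x hx => hm x (by
      simp only [List.mem_cons, List.not_mem_nil, or_false] at hx
      rcases hx with rfl | rfl | rfl | rfl <;> exact Subtype.coe_prop _))
    (by simp [haT.1, haT.2.1, haT.2.2, nbc, nbe, nce])
    (by
      simp only [List.nodup_cons, List.mem_cons, List.not_mem_nil, or_false, not_or, not_false_iff, List.nodup_nil,
        and_true]
      exact ⟨⟨hne haT.1, hne haT.2.1, hne haT.2.2⟩, ⟨hne nbc, hne nbe⟩, hne nce⟩)
    (fun x hx y hy => hcm x (by simpa using hx) y (by simpa using hy))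
    (fun x hx y hy => hcm x (by
        simp only [List.mem_cons, List.not_mem_nil, or_false] at hx
        rcases hx with rfl | rfl | rfl | rfl <;> exact Subtype.coe_prop _) y (by
        simp only [List.mem_cons, List.not_mem_nil, or_false] at hy
        rcases hy with rfl | rfl | rfl | rfl <;> exact Subtype.coe_prop _))
  refine ⟨g, fun x => ?_⟩
  obtain ⟨x, hx⟩ := x
  have hx' := hx
  simp only [Finset.mem_insert, Finset.mem_singleton] at hx'
  rcases hx' with rfl | rfl | rfl | rfl
  exacts [g1, g2, g3, g4]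

theorem card_stabW {W : Finset G} (hW : W ∈ cliques D 4) : Nat.card (stabW W) = 2548039680 := by
  have hf : ∀ (g : stabW W) (x : {x // x ∈ W}), (g : G) * x * (g : G)⁻¹ ∈ W := fun g x => by
    have h := mem_conjS (g := (g : G)).2 x.2
    rwa [mem_stabW.1 g.2] at h
  let act : stabW W →* Equiv.Perm {x // x ∈ W} :=
    MonoidHom.mk' (fun g => ⟨fun x => ⟨_, hf g x⟩, fun x => ⟨_, hf g⁻¹ x⟩,
      fun x => Subtype.ext (by simp [mul_assoc]), fun x => Subtype.ext (by simp [mul_assoc])⟩)
      fun g k => Equiv.ext fun x => Subtype.ext (by simp [mul_assoc])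
  have hsurj : Function.Surjective act := by
    intro σ
    obtain ⟨g, hg⟩ := exists_perm_quad hG hW σ
    have hgW : g ∈ stabW W := by
      refine mem_stabW.2 (Finset.eq_of_subset_of_card_le ?_ ?_)
      · intro y hy
        obtain ⟨x, hx, rfl⟩ := Finset.mem_image.1 hy
        exact (hg ⟨x, hx⟩).symm ▸ (σ ⟨x, hx⟩).2
      · rw [conjS, Finset.card_image_of_injective _ fun x y e => mul_left_cancel (mul_right_cancel e)]
    exact ⟨⟨g, hgW⟩, Equiv.ext fun x => Subtype.ext (hg x)⟩
  have hle : Subgroup.centralizer (↑W : Set G) ≤ stabW W := fun g hg =>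
    mem_stabW.2 (conjS_eq_self fun w hw => (Subgroup.mem_centralizer_iff.1 hg w hw).symm)
  have hker : act.ker = (Subgroup.centralizer (↑W : Set G)).subgroupOf (stabW W) := by
    ext g
    rw [MonoidHom.mem_ker, Subgroup.mem_subgroupOf, Subgroup.mem_centralizer_iff]
    constructor
    · intro h w hw
      exact (mul_inv_eq_iff_eq_mul.1 (congrArg Subtype.val (DFunLike.congr_fun h ⟨w, hw⟩))).symm
    · exact fun h => Equiv.ext fun x => Subtype.ext (mul_inv_eq_iff_eq_mul.2 (h x x.2).symm)
  rw [Subgroup.card_eq_card_quotient_mul_card_subgroup act.ker,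
    Nat.card_congr (QuotientGroup.quotientKerEquivOfSurjective act hsurj).toEquiv, hker,
    Nat.card_congr (Subgroup.subgroupOfEquivOfLe hle).toEquiv, card_centralizer_quad hG hW, Nat.card_perm,
    Nat.card_eq_fintype_card, Fintype.card_coe, (mem_cliques.1 hW).1]
  rfl

/-- The centraliser of the product is transitive on the quadruples. -/
theorem dec_trans {W W' : Finset G} (hW : Dec D u W) (hW' : Dec D u W') : ∃ g, Commute g u ∧ conjS g W = W' := by
  obtain ⟨a, ha⟩ : W.Nonempty := Finset.card_pos.1 (by rw [hW.card]; norm_num)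
  obtain ⟨a', ha'⟩ : W'.Nonempty := Finset.card_pos.1 (by rw [hW'.card]; norm_num)
  obtain ⟨b, c, e, hn, hmem, hu⟩ := hW.split ha
  obtain ⟨b', c', e', hn', hmem', hu'⟩ := hW'.split ha'
  have hin : ∀ x ∈ [a, b, c, e], x ∈ W := fun x hx => (hmem x).2 (by simpa using hx)
  have hin' : ∀ x ∈ [a', b', c', e'], x ∈ W' := fun x hx => (hmem' x).2 (by simpa using hx)
  obtain ⟨g, g1, g2, g3, g4⟩ := transQuads24 hG (fun x hx => hW.mem (hin x hx)) (fun x hx => hW'.mem (hin' x hx))
    hn hn' (fun x hx y hy => hW.comm (hin x hx) (hin y hy)) (fun x hx y hy => hW'.comm (hin' x hx) (hin' y hy))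
  refine ⟨g, mul_inv_eq_iff_eq_mul.1 ?_, ?_⟩
  · conv_lhs => rw [← hu]
    rw [← hu', ← g1, ← g2, ← g3, ← g4]; group
  · ext x
    simp only [conjS, Finset.mem_image, hmem, hmem']
    constructor
    · rintro ⟨y, (rfl | rfl | rfl | rfl), rfl⟩
      exacts [Or.inl g1, Or.inr (Or.inl g2), Or.inr (Or.inr (Or.inl g3)), Or.inr (Or.inr (Or.inr g4))]
    · rintro (rfl | rfl | rfl | rfl)
      exacts [⟨a, Or.inl rfl, g1⟩, ⟨b, Or.inr (Or.inl rfl), g2⟩, ⟨c, Or.inr (Or.inr (Or.inl rfl)), g3⟩,
        ⟨e, Or.inr (Or.inr (Or.inr rfl)), g4⟩]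

/-- The centraliser of the product: its order by the number of quadruples. -/
theorem card_centU {W : Finset G} (hW : Dec D u W) :
    Nat.card (Subgroup.centralizer ({u} : Set G)) = {W' : Finset G | Dec D u W'}.ncard * 2548039680 := by
  have hle : stabW W ≤ Subgroup.centralizer ({u} : Set G) := fun g hg =>
    Subgroup.mem_centralizer_singleton_iff.2 (stab_commute hG hW hg).eq
  set H := Subgroup.centralizer ({u} : Set G) with hH
  have hr : Set.range (fun g : H => conjS (g : G) W) = {W' : Finset G | Dec D u W'} := by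
    ext W'
    constructor
    · rintro ⟨g, rfl⟩
      exact hW.image hG.lay.tt (Subgroup.mem_centralizer_singleton_iff.1 g.2)
    · intro h
      obtain ⟨g, hg, e⟩ := dec_trans hG hW h
      exact ⟨⟨g, Subgroup.mem_centralizer_singleton_iff.2 hg.eq⟩, e⟩
  rw [card_eq_mul_of_fibres (fun g : H => conjS (g : G) W) ((stabW W).subgroupOf H) ?_, hr,
    Nat.card_congr (Subgroup.subgroupOfEquivOfLe hle).toEquiv, card_stabW hG hW.1]
  intro g g'
  rw [Subgroup.mem_subgroupOf, mem_stabW, Subgroup.coe_mul, conjS_mul]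
  constructor
  · intro h
    rw [← h, ← conjS_mul, Subgroup.coe_inv, inv_mul_cancel, conjS_one]
  · intro h
    conv_lhs => rw [← h]
    rw [← conjS_mul, Subgroup.coe_inv, mul_inv_cancel, conjS_one]

end Cfsg.Agent.Four95
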