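import Cfsg.Agent.Four95.Comp
import Cfsg.Agent.Four95.Stab
import Cfsg.Agent.TT95N.Five
import Cfsg.Agent.TT95N.Eleven
import Cfsg.Agent.TT95N.Wire

/-!
Type M(24): there are 126 quadruples with product `u`, in one class.
-/

set_option autoImplicit false
set_option linter.unusedSectionVars false
set_option linter.style.haveILetI false

namespace Cfsg.Agent.Four95

open Cfsg.Agent.TT95 Cfsg.Agent.TT95N Cfsg.Agent.TT95N.Four

/-- The only swaps commuting with four disjoint ones are these. -/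
theorem swaps_comm_check : ∀ i j : Fin 9, i < j →
    (∀ x : Fin 9, Equiv.swap i j (Equiv.swap 0 1 (Equiv.swap 2 3 (Equiv.swap 4 5 (Equiv.swap 6 7 x)))) =
      Equiv.swap 0 1 (Equiv.swap 2 3 (Equiv.swap 4 5 (Equiv.swap 6 7 (Equiv.swap i j x))))) →
    (i = 0 ∧ j = 1) ∨ (i = 2 ∧ j = 3) ∨ (i = 4 ∧ j = 5) ∨ (i = 6 ∧ j = 7) := by
  decide +kernel

theorem four_swaps_check : ∀ s ∈ ([Equiv.swap 0 1, Equiv.swap 2 3, Equiv.swap 4 5, Equiv.swap 6 7] :
    List (Equiv.Perm (Fin 9))), ∀ t ∈ ([Equiv.swap 0 1, Equiv.swap 2 3, Equiv.swap 4 5, Equiv.swap 6 7] :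
    List (Equiv.Perm (Fin 9))), ∀ x : Fin 9, s (t x) = t (s x) := by
  intro s hs t ht x
  simp only [List.mem_cons, List.not_mem_nil, or_false] at hs ht
  rcases hs with rfl | rfl | rfl | rfl <;> rcases ht with rfl | rfl | rfl | rfl <;> revert x <;> decide

variable {G : Type*} [Group G] [DecidableEq G] [Finite G] {D : Set G} {u : G} {d : G}
  {q : ModCenter (Subgroup.closure (nb D d))} (hG : Cfg24 D d q) [Gen D]

include hG

omit [DecidableEq G] in
/-- An element of order five fixing a quadruple and no further member commuting with its product. -/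
theorem exists_five {a b c e : G} (hn : [a, b, c, e].Nodup) (hm : ∀ x ∈ [a, b, c, e], x ∈ D)
    (hcm : ∀ x ∈ [a, b, c, e], ∀ y ∈ [a, b, c, e], Commute x y) :
    ∃ g : G, orderOf g = 5 ∧ (∀ x ∈ [a, b, c, e], Commute g x) ∧
      ∀ x ∈ D, Commute x g → Commute x (a * b * c * e) → x ∈ [a, b, c, e] := by
  classical
  have hD := hG.lay.tt
  haveI : Fact (Nat.Prime 5) := ⟨by norm_num⟩
  obtain ⟨g₀, hg₀⟩ := exists_prime_orderOf_dvd_card' (G := G) 5 (by rw [card_group24 hG]; norm_num)
  set X := Subgroup.zpowers g₀ with hX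
  have hXc : Nat.card X = 5 := by rw [Nat.card_zpowers, hg₀]
  obtain ⟨f, hf, himg⟩ := exists_sym_nine (base5_of_cfg24 hG) hXc
  set l : List (Equiv.Perm (Fin 9)) := [Equiv.swap 0 1, Equiv.swap 2 3, Equiv.swap 4 5, Equiv.swap 6 7] with hl
  have hlfix : ∀ s ∈ l, f s ∈ fixSet D X := by
    intro s hs
    refine himg.le ⟨s, ?_, rfl⟩
    simp only [hl, List.mem_cons, List.not_mem_nil, or_false] at hs
    rcases hs with rfl | rfl | rfl | rfl <;> exact ⟨_, _, by decide, rfl⟩
  have hfg : ∀ s ∈ l, Commute g₀ (f s) := fun s hs =>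
    (Subgroup.mem_centralizer_iff.1 (hlfix s hs).2 g₀ (Subgroup.mem_zpowers g₀))
  obtain ⟨k, k1, k2, k3, k4⟩ := transQuads24 hG (a := f (Equiv.swap 0 1)) (b := f (Equiv.swap 2 3))
    (c := f (Equiv.swap 4 5)) (e := f (Equiv.swap 6 7))
    (fun x hx => by
      simp only [List.mem_cons, List.not_mem_nil, or_false] at hx
      rcases hx with rfl | rfl | rfl | rfl <;> exact (hlfix _ (by simp [hl])).1)
    hm (by
      have : l.Nodup := by rw [hl]; decide
      simpa [hl] using this.map hf) hn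
    (fun x hx y hy => by
      have key : ∀ s ∈ l, ∀ t ∈ l, Commute (f s) (f t) := fun s hs t ht =>
        Commute.map (Equiv.ext (four_swaps_check s hs t ht) : s * t = t * s) f
      simp only [List.mem_cons, List.not_mem_nil, or_false] at hx hy
      rcases hx with rfl | rfl | rfl | rfl <;> rcases hy with rfl | rfl | rfl | rfl <;>
        exact key _ (by simp [hl]) _ (by simp [hl])) hcm
  refine ⟨k * g₀ * k⁻¹, ?_, fun x hx => ?_, fun x hx hxg hxu => ?_⟩
  · rw [show k * g₀ * k⁻¹ = (MulAut.conj k) g₀ from rfl, MulEquiv.orderOf_eq, hg₀]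
  · simp only [List.mem_cons, List.not_mem_nil, or_false] at hx
    rcases hx with rfl | rfl | rfl | rfl
    · rw [← k1]; exact (Commute.conj_iff k).2 (hfg _ (by simp [hl]))
    · rw [← k2]; exact (Commute.conj_iff k).2 (hfg _ (by simp [hl]))
    · rw [← k3]; exact (Commute.conj_iff k).2 (hfg _ (by simp [hl]))
    · rw [← k4]; exact (Commute.conj_iff k).2 (hfg _ (by simp [hl]))
  · have hx' : k⁻¹ * x * k ∈ D := by
      have := TT95.conj_mem hD k⁻¹ hx
      rwa [inv_inv] at this
    have hxX : k⁻¹ * x * k ∈ fixSet D X := by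
      refine ⟨hx', Subgroup.mem_centralizer_iff.2 fun y hy => ?_⟩
      obtain ⟨i, rfl⟩ := Subgroup.mem_zpowers_iff.1 hy
      have h : Commute (k⁻¹ * x * k) g₀ := by
        refine (Commute.conj_iff k).1 ?_
        rwa [show k * (k⁻¹ * x * k) * k⁻¹ = x by group]
      exact (h.zpow_right i).eq.symm
    obtain ⟨s, hs, e⟩ := himg.ge hxX
    have hcs : Commute s (Equiv.swap 0 1 * Equiv.swap 2 3 * Equiv.swap 4 5 * Equiv.swap 6 7) := by
      rw [← commute_map_iff hf, map_mul, map_mul, map_mul, e]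
      refine (Commute.conj_iff k).1 ?_
      rw [show k * (k⁻¹ * x * k) * k⁻¹ = x by group,
        show k * (f (Equiv.swap 0 1) * f (Equiv.swap 2 3) * f (Equiv.swap 4 5) * f (Equiv.swap 6 7)) * k⁻¹ =
          k * f (Equiv.swap 0 1) * k⁻¹ * (k * f (Equiv.swap 2 3) * k⁻¹) * (k * f (Equiv.swap 4 5) * k⁻¹) *
            (k * f (Equiv.swap 6 7) * k⁻¹) by group, k1, k2, k3, k4]
      exact hxu
    obtain ⟨i, j, hij, rfl⟩ := swap_rep hs
    have hxe : x = k * f (Equiv.swap i j) * k⁻¹ := by rw [e]; group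
    rw [hxe]
    rcases swaps_comm_check i j hij (fun x => by simpa [Equiv.Perm.mul_apply] using DFunLike.congr_fun hcs.eq x) with ⟨rfl, rfl⟩ | ⟨rfl, rfl⟩ | ⟨rfl, rfl⟩ | ⟨rfl, rfl⟩
    · rw [k1]; simp
    · rw [k2]; simp
    · rw [k3]; simp
    · rw [k4]; simp

omit hG in
/-- An element of order five stabilising four members fixes each. -/
theorem five_fix_members {g : G} (hg : orderOf g = 5) {Y : Finset G} (hY : Y.card = 4) (h : conjS g Y = Y) :
    ∀ y ∈ Y, Commute g y := by
  classical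
  have hin : ∀ y ∈ Y, g * y * g⁻¹ ∈ Y := fun y hy => by
    have := mem_conjS (g := g).2 hy
    rwa [h] at this
  let f : {y // y ∈ Y} → {y // y ∈ Y} := fun y => ⟨_, hin y y.2⟩
  have hinj : Function.Injective f := fun a b e =>
    Subtype.ext (mul_left_cancel (mul_right_cancel (congrArg Subtype.val e)))
  let σ : Equiv.Perm {y // y ∈ Y} := Equiv.ofBijective f ⟨hinj, Finite.injective_iff_surjective.1 hinj⟩
  have hσ : ∀ n : ℕ, ∀ y : {y // y ∈ Y}, ((σ ^ n) y : G) = g ^ n * y * (g ^ n)⁻¹ := by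
    intro n
    induction n with
    | zero => simp
    | succ n ih =>
      intro y
      rw [pow_succ', Equiv.Perm.mul_apply, pow_succ', mul_inv_rev]
      show g * ((σ ^ n) y : G) * g⁻¹ = _
      rw [ih]
      group
  have h5 : σ ^ 5 = 1 := Equiv.ext fun y => Subtype.ext (by
    rw [hσ, ← hg, pow_orderOf_eq_one]; simp)
  have hσ1 : σ = 1 := by
    rw [← orderOf_eq_one_iff]
    have h1 : orderOf σ ∣ 5 := orderOf_dvd_of_pow_eq_one h5
    have h2 : orderOf σ ∣ 24 := by
      have := orderOf_dvd_natCard σ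
      rwa [Nat.card_perm, Nat.card_eq_fintype_card, Fintype.card_coe, hY] at this
    exact Nat.dvd_one.1 (Nat.dvd_gcd h1 h2)
  intro y hy
  have := congrArg Subtype.val (DFunLike.congr_fun hσ1 ⟨y, hy⟩)
  change g * y * g⁻¹ = y at this
  exact mul_inv_eq_iff_eq_mul.1 this

omit hG in
/-- A set of quadruples stable under such an element has one more than a multiple of five members. -/
theorem mod_five {g : G} (hg : orderOf g = 5) {W : Finset G} (hgW : ∀ w ∈ W, Commute g w)
    (honly : ∀ Y, Dec D u Y → (∀ y ∈ Y, Commute g y) → Y = W) {S : Set (Finset G)} (hS : ∀ Y ∈ S, Dec D u Y)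
    (hinv : ∀ Y ∈ S, conjS g Y ∈ S) (hWS : W ∈ S) : S.ncard % 5 = 1 := by
  classical
  haveI := Fintype.ofFinite ↥S
  haveI : Fact (Nat.Prime 5) := ⟨by norm_num⟩
  let f : S → S := fun Y => ⟨_, hinv Y Y.2⟩
  have hinj : Function.Injective f := fun a b e => Subtype.ext
    (Finset.image_injective (fun x y e => mul_left_cancel (mul_right_cancel e)) (congrArg Subtype.val e))
  let σ : Equiv.Perm S := Equiv.ofBijective f ⟨hinj, Finite.injective_iff_surjective.1 hinj⟩
  have hσ : ∀ n : ℕ, ∀ Y : S, ((σ ^ n) Y : Finset G) = conjS (g ^ n) Y := by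
    intro n
    induction n with
    | zero => simp [conjS_one]
    | succ n ih =>
      intro Y
      rw [pow_succ', Equiv.Perm.mul_apply, pow_succ', conjS_mul]
      show conjS g ((σ ^ n) Y : Finset G) = _
      rw [ih]
  have h5 : σ ^ 5 ^ 1 = 1 := Equiv.ext fun Y => Subtype.ext (by
    rw [pow_one, hσ, ← hg, pow_orderOf_eq_one, conjS_one]; rfl)
  have h := Equiv.Perm.card_compl_support_modEq (p := 5) h5
  have hone : σ.supportᶜ = {⟨W, hWS⟩} := by
    ext Y
    rw [Finset.mem_compl, Equiv.Perm.mem_support, not_not, Finset.mem_singleton]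
    constructor
    · intro e
      exact Subtype.ext (honly Y (hS Y Y.2) (five_fix_members hg (hS Y Y.2).card (congrArg Subtype.val e)))
    · rintro rfl
      exact Subtype.ext (conjS_eq_self hgW)
  rw [hone, Finset.card_singleton] at h
  rw [← Nat.card_coe_set_eq, Nat.card_eq_fintype_card]
  exact h.symm

omit [DecidableEq G] in
/-- No quadruple class of 286 members. -/
theorem no_eleven (hu : IsProd D 4 u) (h11 : 11 ∣ Nat.card (Subgroup.centralizer ({u} : Set G))) : False := by
  classical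
  have hD := hG.lay.tt
  haveI : Fact (Nat.Prime 11) := ⟨by norm_num⟩
  obtain ⟨⟨g, hgu⟩, hg⟩ := exists_prime_orderOf_dvd_card' 11 h11
  have hg' : orderOf g = 11 := by
    rw [← hg]; exact (Subgroup.orderOf_mk g hgu).symm
  have hu' : Commute g u := Subgroup.mem_centralizer_singleton_iff.1 hgu
  set X := Subgroup.zpowers g with hX
  have hXc : Nat.card X = 11 := by rw [Nat.card_zpowers, hg']
  obtain ⟨nC, hnC, hV⟩ := env_eleven hG
  obtain ⟨h3, -⟩ := eleven_fix (base24 hG) hV hnC hXc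
  have hu2 := isProd_sq24 hG hu
  have hinv : ∀ x ∈ fixSet D X, u * x * u⁻¹ ∈ fixSet D X := by
    intro x hx
    refine ⟨TT95.conj_mem hD u hx.1, Subgroup.mem_centralizer_iff.2 fun y hy => ?_⟩
    obtain ⟨i, rfl⟩ := Subgroup.mem_zpowers_iff.1 hy
    have h1 : Commute (g ^ i) x := Subgroup.mem_centralizer_iff.1 hx.2 _ hy
    have h2 : Commute (g ^ i) u := hu'.zpow_left i
    exact ((h2.mul_right h1).mul_right h2.inv_right).eq
  -- one of the three is fixed by `u`
  obtain ⟨x, hx, hxu⟩ : ∃ x ∈ fixSet D X, u * x * u⁻¹ = x := by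
    by_contra hno
    push Not at hno
    obtain ⟨a, b, c, hab, hac, hbc, hF⟩ := Set.ncard_eq_three.1 h3
    have hi : ∀ x, u * (u * x * u⁻¹) * u⁻¹ = x := fun x => by
      rw [show u * (u * x * u⁻¹) * u⁻¹ = (u * u) * x * (u * u)⁻¹ by group, hu2]
      group
    have m : ∀ z ∈ fixSet D X, z = a ∨ z = b ∨ z = c := fun z hz => by
      rw [hF] at hz; simpa using hz
    have ha : a ∈ fixSet D X := by rw [hF]; simp
    have hb : b ∈ fixSet D X := by rw [hF]; simp
    have hc : c ∈ fixSet D X := by rw [hF]; simp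
    have ia := hi a; have ib := hi b; have ic := hi c
    rcases m _ (hinv a ha) with h | h | h
    · exact hno a ha h
    · rw [h] at ia
      rcases m _ (hinv c hc) with h' | h' | h'
      · rw [h', h] at ic; exact hbc ic
      · rw [h', ia] at ic; exact hac ic
      · exact hno c hc h'
    · rw [h] at ia
      rcases m _ (hinv b hb) with h' | h' | h'
      · rw [h', h] at ib; exact hbc ib.symm
      · exact hno b hb h'
      · rw [h', ia] at ib; exact hab ib
  have hxF : x ∈ fixU D u := ⟨hx.1, mul_inv_eq_iff_eq_mul.1 hxu⟩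
  obtain ⟨W, hW, hxW⟩ := exists_dec hG hu hxF
  have hgx : Commute g x := Subgroup.mem_centralizer_iff.1 hx.2 g (Subgroup.mem_zpowers g)
  have hgW : g ∈ stabW W := by
    refine mem_stabW.2 (dec_unique hG (hW.image hD hu') hW (a := x) ?_ hxW)
    rw [← mul_inv_eq_iff_eq_mul.2 hgx.eq]
    exact mem_conjS.2 hxW
  have h := Subgroup.orderOf_dvd_natCard _ hgW
  rw [hg', card_stabW hG hW.1] at h
  omega

/-- There are 126 quadruples, every pair of far ones sharing eighteen neighbours. -/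
theorem class_all (hu : IsProd D 4 u) : {W : Finset G | Dec D u W}.ncard = 126 ∧
    ∀ (W : Finset G) (ι : Fin 45 → Finset G), Dec D u W → OctChart D W ι →
      compT D u W = {Y | Dec D u Y} ∧ (farSet D u W ι).ncard = 80 ∧
        ∀ Y ∈ farSet D u W ι, (farKeys W ι Y).card = 18 := by
  classical
  have hD := hG.lay.tt
  obtain ⟨m, v, hmv, hsize⟩ := exists_size hG hu
  obtain ⟨a, b, c, e, hn, hm', hc, hp⟩ := isProd4_elim hG hu
  set W := [a, b, c, e].toFinset with hWdef
  have hW : Dec D u W := Dec.of_list hn hm' hc hp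
  obtain ⟨ι, hι⟩ := exists_octChart hG hW.1
  obtain ⟨g, hg, hgfix, honly⟩ := exists_five hG hn hm' hc
  have hgW : ∀ w ∈ W, Commute g w := fun w hw => hgfix w (List.mem_toFinset.1 hw)
  have hgu : Commute g u := hW.commute hgW
  have honly' : ∀ Y, Dec D u Y → (∀ y ∈ Y, Commute g y) → Y = W := by
    intro Y hY hgY
    obtain ⟨y, hy⟩ := dec_nonempty hG hY
    refine dec_unique hG hY hW hy (List.mem_toFinset.2 ?_)
    exact honly y (hY.mem hy) (hgY y hy).symm (by rw [hp]; exact (hY.fix hy).2.symm)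
  have hP5 : {Y : Finset G | Dec D u Y}.ncard % 5 = 1 :=
    mod_five hg hgW honly' (fun Y hY => hY) (fun Y hY => Dec.image hY hD hgu) hW
  have hC5 : (compT D u W).ncard % 5 = 1 := by
    refine mod_five hg hgW honly' (fun Y hY => hY.1) (fun Y hY => ⟨Dec.image hY.1 hD hgu, ?_⟩) ⟨hW, near_refl hG hW⟩
    obtain ⟨x, hx, y, hy, p⟩ := hY.2
    refine ⟨g * x * g⁻¹, ?_, g * y * g⁻¹, mem_conjS.2 hy, TT95.Path.conj hD g (fun z hz => ?_) p⟩
    · rw [mul_inv_eq_iff_eq_mul.2 (hgW x hx).eq]; exact hx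
    · exact ⟨TT95.conj_mem hD g hz.1, by
        rw [show u = g * u * g⁻¹ by rw [hgu.eq, mul_inv_cancel_right], Commute.conj_iff]; exact hz.2⟩
  have hvall : ∀ Y, Dec D u Y → (compT D u Y).ncard = v := fun Y hY => by
    obtain ⟨κ, hκ⟩ := exists_octChart hG hY.1
    exact (hsize Y κ hY hκ).1
  obtain ⟨⟨k, hk⟩, hle⟩ := dec_count hG hu hvall
  rw [hvall W hW] at hC5
  have hcent := card_centU hG hW
  have hv126 : m = 18 ∧ v = 126 ∧ {Y : Finset G | Dec D u Y}.ncard = 126 := by
    rcases hmv with ⟨-, rfl⟩ | ⟨-, rfl⟩ | ⟨rfl, rfl⟩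
    · exfalso
      refine no_eleven hG hu ?_
      rw [hcent, hk, show 286 * k * 2548039680 = 11 * (26 * k * 2548039680) by ring]
      exact Dvd.intro _ rfl
    · omega
    · exact ⟨rfl, rfl, by omega⟩
  obtain ⟨rfl, rfl, hP⟩ := hv126
  refine ⟨hP, fun W' ι' hW' hι' => ?_⟩
  have hfull : compT D u W' = {Y | Dec D u Y} :=
    Set.eq_of_subset_of_ncard_le (fun Y hY => hY.1) (by rw [hvall W' hW', hP]) (Set.toFinite _)
  refine ⟨hfull, ?_, fun Y hY => (hsize W' ι' hW' hι').2 Y hY⟩
  have := compT_card hG hu hW' hι'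
  rw [hvall W' hW'] at this
  omega

end Cfsg.Agent.Four95
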