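import Cfsg.Agent.TT95N.InvolFour
import Cfsg.Agent.Four95.Classify

/-!
Type M(24): two quadruples with product `u` that do not commute, and the keys of the quadruples commuting
with both.
-/

set_option autoImplicit false
set_option linter.unusedSectionVars false

namespace Cfsg.Agent.Four95

open Cfsg.Agent.TT95 Cfsg.Agent.TT95N Cfsg.Agent.TT95N.Four
open Cfsg.Agent.TT95.K45G (adj common45)

variable {G : Type*} [Group G]

/-- Two different sets commuting elementwise. -/
def AdjT (X Y : Finset G) : Prop := X ≠ Y ∧ ∀ x ∈ X, ∀ y ∈ Y, Commute x y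

theorem AdjT.symm {X Y : Finset G} (h : AdjT X Y) : AdjT Y X :=
  ⟨h.1.symm, fun y hy x hx => (h.2 x hx y hy).symm⟩

variable [DecidableEq G]

/-- The rest of an octad through a quadruple. -/
def tet (W : Finset G) (ι : Fin 45 → Finset G) (i : Fin 45) : Finset G := ι i \ W

open scoped Classical in
/-- The keys of the quadruples commuting with both. -/
noncomputable def farKeys (W : Finset G) (ι : Fin 45 → Finset G) (Y : Finset G) : Finset (Fin 45) :=
  Finset.univ.filter fun i => AdjT (tet W ι i) Y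

theorem mem_farKeys {W : Finset G} {ι : Fin 45 → Finset G} {Y : Finset G} {i : Fin 45} :
    i ∈ farKeys W ι Y ↔ AdjT (tet W ι i) Y := by
  simp [farKeys]

variable [Finite G] {D : Set G} {u : G} {d : G} {q : ModCenter (Subgroup.closure (nb D d))} (hG : Cfg24 D d q) [Gen D]

include hG

theorem dec_nonempty {X : Finset G} (hX : Dec D u X) : X.Nonempty :=
  Finset.card_pos.1 (by rw [hX.card]; norm_num)

/-- One commuting pair between two quadruples is enough. -/
theorem adjT_of {X Y : Finset G} (hX : Dec D u X) (hY : Dec D u Y) (hne : X ≠ Y) {x y : G} (hx : x ∈ X)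
    (hy : y ∈ Y) (h : Commute x y) : AdjT X Y :=
  ⟨hne, fun _ hx' _ hy' =>
    (twin hG hX hx (hY.fix hy') (twin hG hY hy (hX.fix hx) h hy').symm hx').symm⟩

theorem not_commute {X Y : Finset G} (hX : Dec D u X) (hY : Dec D u Y) (hne : X ≠ Y) (h : ¬ AdjT X Y) {x y : G}
    (hx : x ∈ X) (hy : y ∈ Y) : ¬ Commute x y :=
  fun hc => h (adjT_of hG hX hY hne hx hy hc)

theorem adjT_conj {X Y : Finset G} (h : AdjT X Y) (g : G) :
    AdjT (X.image fun x => g * x * g⁻¹) (Y.image fun x => g * x * g⁻¹) := by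
  refine ⟨fun e => h.1 (Finset.image_injective (fun a b e => mul_left_cancel (mul_right_cancel e)) e), ?_⟩
  intro x hx y hy
  obtain ⟨x, hx', rfl⟩ := Finset.mem_image.1 hx
  obtain ⟨y, hy', rfl⟩ := Finset.mem_image.1 hy
  exact (Commute.conj_iff g).2 (h.2 x hx' y hy')

variable {W : Finset G} {ι : Fin 45 → Finset G}

theorem tet_dec (hu : IsProd D 4 u) (hW : Dec D u W) (hι : OctChart D W ι) (i : Fin 45) :
    Dec D u (tet W ι i) :=
  oct_dec hG (isProd_sq24 hG hu) hW hι i

theorem tet_adjW (hW : Dec D u W) (hι : OctChart D W ι) (i : Fin 45) : AdjT W (tet W ι i) := by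
  obtain ⟨y, hy⟩ := oct_nonempty hG hW hι i
  refine ⟨fun e => ?_, fun x hx z hz => (hι.oct i).1.cl.2 x ((hι.oct i).2 hx) z (Finset.mem_sdiff.1 hz).1⟩
  have : y ∈ W := e ▸ (hy : y ∈ tet W ι i)
  exact (Finset.mem_sdiff.1 hy).2 this

theorem tet_inj (hW : Dec D u W) (hι : OctChart D W ι) : Function.Injective (tet W ι) := fun i j h => by
  obtain ⟨y, hy⟩ := oct_nonempty hG hW hι i
  have hy' : y ∈ tet W ι j := h ▸ (hy : y ∈ tet W ι i)
  exact oct_disjoint hG hW hι hy hy'

theorem tet_surj (hu : IsProd D 4 u) (hW : Dec D u W) (hι : OctChart D W ι) {Y : Finset G} (hY : Dec D u Y)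
    (h : AdjT W Y) : ∃ i, Y = tet W ι i := by
  obtain ⟨a, ha⟩ := dec_nonempty hG hW
  obtain ⟨y, hy⟩ := dec_nonempty hG hY
  have hyW : y ∉ W := fun hy' => h.1 (dec_unique hG hW hY hy' hy)
  obtain ⟨i, hi⟩ := exists_key hG hW hι ha (hY.fix hy) (h.2 a ha y hy).symm hyW
  exact ⟨i, dec_unique hG hY (tet_dec hG hu hW hι i) hy hi⟩

theorem tet_adj (hu : IsProd D 4 u) (hW : Dec D u W) (hι : OctChart D W ι) {i j : Fin 45} (hij : i ≠ j) :
    AdjT (tet W ι i) (tet W ι j) ↔ adj (i : ℕ) j = true := by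
  obtain ⟨x, hx⟩ := oct_nonempty hG hW hι i
  obtain ⟨y, hy⟩ := oct_nonempty hG hW hι j
  constructor
  · exact fun h => (hι.comm i j hij x hx y hy).1 (h.2 x hx y hy)
  · exact fun h => adjT_of hG (tet_dec hG hu hW hι i) (tet_dec hG hu hW hι j)
      (fun e => hij (tet_inj hG hW hι e)) hx hy ((hι.comm i j hij x hx y hy).2 h)

/-- The quadruples at a quadruple: forty-five. -/
theorem card_nbrs (hu : IsProd D 4 u) (hW : Dec D u W) : {Y : Finset G | Dec D u Y ∧ AdjT W Y}.ncard = 45 := by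
  obtain ⟨ι, hι⟩ := exists_octChart hG hW.1
  have e : {Y : Finset G | Dec D u Y ∧ AdjT W Y} = Set.range (tet W ι) := by
    ext Y
    constructor
    · rintro ⟨hY, h⟩
      obtain ⟨i, rfl⟩ := tet_surj hG hu hW hι hY h
      exact Set.mem_range_self i
    · rintro ⟨i, rfl⟩
      exact ⟨tet_dec hG hu hW hι i, tet_adjW hG hW hι i⟩
  rw [e, Set.ncard_range_of_injective (tet_inj hG hW hι), Nat.card_fin]

/-- At two commuting quadruples not commuting with each other: three more. -/
theorem common_three (hu : IsProd D 4 u) {X V Y : Finset G} (hX : Dec D u X) (hV : Dec D u V) (hY : Dec D u Y)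
    (hXV : AdjT X V) (hXY : AdjT X Y) (hne : V ≠ Y) (hVY : ¬ AdjT V Y) :
    {Z : Finset G | Dec D u Z ∧ AdjT X Z ∧ AdjT V Z ∧ AdjT Y Z}.ncard = 3 ∧
      ∀ Z Z', Dec D u Z → Dec D u Z' → AdjT X Z → AdjT V Z → AdjT Y Z → AdjT X Z' → AdjT V Z' → AdjT Y Z' →
        ¬ AdjT Z Z' := by
  classical
  obtain ⟨κ, hκ⟩ := exists_octChart hG hX.1
  obtain ⟨k, rfl⟩ := tet_surj hG hu hX hκ hV hXV
  obtain ⟨l, rfl⟩ := tet_surj hG hu hX hκ hY hXY
  have hkl : k ≠ l := fun e => hne (e ▸ rfl)
  have hadj : adj (k : ℕ) l = false := Bool.eq_false_iff.2 fun h => hVY ((tet_adj hG hu hX hκ hkl).2 h)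
  have hc := List.all_eq_true.1 (List.all_eq_true.1 common_check k (List.mem_range.2 k.2)) l (List.mem_range.2 l.2)
  rw [show ((k : ℕ) == (l : ℕ)) = false from beq_eq_false_iff_ne.2 fun e => hkl (Fin.ext e), hadj, Bool.false_or,
    Bool.false_or, Bool.and_eq_true, beq_iff_eq, List.all_eq_true] at hc
  have hmem : ∀ {Z : Finset G}, Dec D u Z → AdjT X Z → AdjT (tet X κ k) Z → AdjT (tet X κ l) Z →
      ∃ r : Fin 45, Z = tet X κ r ∧ (r : ℕ) ∈ common45 k l := by
    intro Z hZ h1 h2 h3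
    obtain ⟨r, rfl⟩ := tet_surj hG hu hX hκ hZ h1
    refine ⟨r, rfl, ?_⟩
    simp only [common45, List.mem_filter, List.mem_range, Bool.and_eq_true]
    exact ⟨r.2, (tet_adj hG hu hX hκ fun e => h2.1 (congrArg _ e)).1 h2, (tet_adj hG hu hX hκ fun e => h3.1 (congrArg _ e)).1 h3⟩
  refine ⟨?_, fun Z Z' hZ hZ' a1 a2 a3 b1 b2 b3 h => ?_⟩
  · have e : {Z : Finset G | Dec D u Z ∧ AdjT X Z ∧ AdjT (tet X κ k) Z ∧ AdjT (tet X κ l) Z} =
        ↑((Finset.univ.filter fun r : Fin 45 => (r : ℕ) ∈ common45 k l).image (tet X κ)) := by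
      ext Z
      rw [Finset.mem_coe, Finset.mem_image]
      constructor
      · rintro ⟨hZ, h1, h2, h3⟩
        obtain ⟨r, rfl, hr⟩ := hmem hZ h1 h2 h3
        exact ⟨r, Finset.mem_filter.2 ⟨Finset.mem_univ _, hr⟩, rfl⟩
      · rintro ⟨r, hr, rfl⟩
        rw [Finset.mem_filter] at hr
        simp only [common45, List.mem_filter, List.mem_range, Bool.and_eq_true] at hr
        have hrk : k ≠ r := fun e => by subst e; rw [adj_irrefl45] at hr; exact Bool.false_ne_true hr.2.2.1
        have hrl : l ≠ r := fun e => by subst e; rw [adj_irrefl45] at hr; exact Bool.false_ne_true hr.2.2.2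
        exact ⟨tet_dec hG hu hX hκ r, tet_adjW hG hX hκ r, (tet_adj hG hu hX hκ hrk).2 hr.2.2.1,
          (tet_adj hG hu hX hκ hrl).2 hr.2.2.2⟩
    rw [e, Set.ncard_coe_finset, Finset.card_image_of_injective _ (tet_inj hG hX hκ), ← hc.1,
      ← List.toFinset_card_of_nodup (l := common45 k l) (List.Nodup.filter _ List.nodup_range),
      ← Finset.card_map Fin.valEmbedding]
    congr 1
    ext n
    simp only [Finset.mem_map, Finset.mem_filter, Finset.mem_univ, true_and, Fin.valEmbedding_apply,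
      List.mem_toFinset]
    refine ⟨fun ⟨r, hr, e'⟩ => e' ▸ hr, fun hn => ⟨⟨n, ?_⟩, hn, rfl⟩⟩
    simp only [common45, List.mem_filter, List.mem_range] at hn
    exact hn.1
  · obtain ⟨r, rfl, hr⟩ := hmem hZ a1 a2 a3
    obtain ⟨r', rfl, hr'⟩ := hmem hZ' b1 b2 b3
    have h' := hc.2 _ hr
    rw [List.all_eq_true] at h'
    have h'' := h' _ hr'
    rw [(tet_adj hG hu hX hκ fun e => h.1 (congrArg _ e)).1 h] at h''
    simp at h''

/-- The keys at a far quadruple are closed and have three pairwise far neighbours. -/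
theorem nice_far (hu : IsProd D 4 u) (hW : Dec D u W) (hι : OctChart D W ι) {Y : Finset G} (hY : Dec D u Y)
    (hne : W ≠ Y) (hWY : ¬ AdjT W Y) : Nice (farKeys W ι Y) := by
  classical
  have hD := hG.lay.tt
  refine ⟨fun i hi j hj hij hadj => ?_, fun i hi => ?_⟩
  · rw [mem_farKeys] at hi hj ⊢
    obtain ⟨x, hx⟩ := oct_nonempty hG hW hι i
    obtain ⟨m, hm, e⟩ := refl_step hG hW hι i hx j
    obtain rfl : m = rf i j := Fin.ext hm
    obtain ⟨z, hz⟩ := oct_nonempty hG hW hι j
    have hxW : ∀ w ∈ W, Commute x w := fun w hw =>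
      (hι.oct i).1.cl.2 x (Finset.mem_sdiff.1 hx).1 w ((hι.oct i).2 hw)
    have hxY : ∀ y ∈ Y, x * y * x⁻¹ = y := fun y hy => mul_inv_eq_iff_eq_mul.2 (hi.2 x hx y hy).eq
    have hzn : x * z * x⁻¹ ∈ tet W ι (rf i j) := by
      show x * z * x⁻¹ ∈ ι (rf i j) \ W
      refine Finset.mem_sdiff.2 ⟨e ▸ Finset.mem_image_of_mem _ (Finset.mem_sdiff.1 hz).1,
        fun h => (Finset.mem_sdiff.1 hz).2 ?_⟩
      have h2 : x * z * x⁻¹ = z := mul_left_cancel ((hxW _ h).eq.trans (inv_mul_cancel_right (x * z) x))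
      rwa [h2] at h
    obtain ⟨y, hy⟩ := dec_nonempty hG hY
    refine adjT_of hG (tet_dec hG hu hW hι _) hY (fun h => hWY (h ▸ tet_adjW hG hW hι _)) hzn hy ?_
    rw [← hxY y hy]
    exact (Commute.conj_iff x).2 (hj.2 z hz y hy)
  · rw [mem_farKeys] at hi
    have hX := tet_dec hG hu hW hι i
    obtain ⟨h3, hfar⟩ := common_three hG hu hX hW hY (tet_adjW hG hW hι i).symm hi hne hWY
    refine ⟨?_, fun a ha b hb hia hib => ?_⟩
    · rw [← h3, ← Set.ncard_coe_finset, ← Set.ncard_image_of_injective _ (tet_inj hG hW hι)]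
      congr 1
      ext Z
      simp only [Set.mem_image, Finset.coe_filter, Set.mem_ofPred_eq, mem_farKeys]
      constructor
      · rintro ⟨j, ⟨hj, hij⟩, rfl⟩
        have hne' : i ≠ j := fun e => by subst e; rw [adj_irrefl45] at hij; exact Bool.false_ne_true hij
        exact ⟨tet_dec hG hu hW hι j, (tet_adj hG hu hW hι hne').2 hij, tet_adjW hG hW hι j, hj.symm⟩
      · rintro ⟨hZ, h1, h2, h3⟩
        obtain ⟨j, rfl⟩ := tet_surj hG hu hW hι hZ h2
        exact ⟨j, ⟨h3.symm, (tet_adj hG hu hW hι fun e => h1.1 (congrArg _ e)).1 h1⟩, rfl⟩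
    · rw [mem_farKeys] at ha hb
      have hne' : ∀ {x : Fin 45}, adj (i : ℕ) x = true → i ≠ x := fun {x} h e => by
        subst e; rw [adj_irrefl45] at h; exact Bool.false_ne_true h
      rw [Bool.eq_false_iff]
      intro hab
      have hab' : a ≠ b := fun e => by subst e; rw [adj_irrefl45] at hab; exact Bool.false_ne_true hab
      exact hfar _ _ (tet_dec hG hu hW hι a) (tet_dec hG hu hW hι b) ((tet_adj hG hu hW hι (hne' hia)).2 hia)
        (tet_adjW hG hW hι a) ha.symm ((tet_adj hG hu hW hι (hne' hib)).2 hib) (tet_adjW hG hW hι b) hb.symm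
        ((tet_adj hG hu hW hι hab').2 hab)

/-- The members commuting with both are those of the keys. -/
theorem mult_eq (hu : IsProd D 4 u) (hW : Dec D u W) (hι : OctChart D W ι) {Y : Finset G} (hY : Dec D u Y)
    (hne : W ≠ Y) (hWY : ¬ AdjT W Y) {a e : G} (ha : a ∈ W) (he : e ∈ Y) :
    mult D u a e = 4 * (farKeys W ι Y).card := by
  classical
  have hae : ¬ Commute a e := not_commute hG hW hY hne hWY ha he
  have hset : fixU D u ∩ common D a e = ↑((farKeys W ι Y).biUnion (tet W ι)) := by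
    ext z
    rw [Finset.mem_coe, Finset.mem_biUnion]
    constructor
    · rintro ⟨hz, ⟨-, -, h1⟩, -, -, h2⟩
      have hzW : z ∉ W := fun h => hae (twin hG hW h (hY.fix he) h2 ha).symm
      obtain ⟨i, hi⟩ := exists_key hG hW hι ha hz h1.symm hzW
      refine ⟨i, mem_farKeys.2 (adjT_of hG (tet_dec hG hu hW hι i) hY ?_ hi he h2.symm), hi⟩
      exact fun h => hWY (h ▸ tet_adjW hG hW hι i)
    · rintro ⟨i, hi, hz⟩
      have hi := mem_farKeys.1 hi
      have hT := tet_dec hG hu hW hι i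
      have h2 := hi.2 z hz e he
      have h1 := (tet_adjW hG hW hι i).2 a ha z hz
      exact ⟨hT.fix hz, ⟨hT.mem hz, fun e' => hae (e' ▸ h2), h1⟩, hT.mem hz, fun e' => hae (e' ▸ h1), h2.symm⟩
  rw [mult, hset, Set.ncard_coe_finset, Finset.card_biUnion (fun i _ j _ hij => by
      rw [Function.onFun, Finset.disjoint_left]
      exact fun z hz hz' => hij (oct_disjoint hG hW hι hz hz')),
    Finset.sum_congr rfl fun i _ => show (tet W ι i).card = 4 from oct_card hG hW hι i, Finset.sum_const,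
    smul_eq_mul, mul_comm]

end Cfsg.Agent.Four95
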