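import Cfsg.Agent.Four95.Kernel

/-!
Type M(24): the extraspecial group has index three in the kernel, and the image is every automorphism.
-/

set_option autoImplicit false
set_option linter.unusedSectionVars false
set_option linter.style.haveILetI false

namespace Cfsg.Agent.Four95

open Cfsg.Agent.TT95 Cfsg.Agent.TT95N Cfsg.Agent.TT95N.Four

theorem image_pair_ne {α : Type*} {u x y : α} [Mul α] (h : ({x, u * x} : Set α) = {y, u * y}) :
    y = x ∨ y = u * x := by
  have : y ∈ ({x, u * x} : Set α) := by rw [h]; exact Set.mem_insert _ _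
  simpa using this

theorem class_eq {G : Type*} [Group G] {u x y : G} (hu : u * u = 1) (h : y = x ∨ y = u * x) :
    ({x, u * x} : Set G) = {y, u * y} := by
  rcases h with rfl | rfl
  · rfl
  · rw [← mul_assoc, hu, one_mul, Set.pair_comm]

variable {G : Type*} [Group G] [DecidableEq G] [Finite G] {D : Set G} {u : G}
variable {d : G} {q : ModCenter (Subgroup.closure (nb D d))} (hG : Cfg24 D d q) [Gen D]
variable {T : Fin 126 → Finset G} {φ : Subgroup.centralizer ({u} : Set G) →* Equiv.Perm (Fin 126)}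
  (hT : IsModel D u T) (hφ : IsAct T φ)

include hG hT hφ

/-- Preserving the classes in one quadruple of the kernel means preserving them in a far one. -/
theorem good_far {g : Subgroup.centralizer ({u} : Set G)} (hg : φ g = 1) {W Y : Finset G} (hW : Dec D u W)
    (hY : Dec D u Y) (hne : W ≠ Y) (hWY : ¬ AdjT W Y) (h : GoodOn u (g : G) W) : GoodOn u (g : G) Y := by
  have hD := hG.lay.tt
  intro y hy y' hy'
  by_cases hyy : y = y'
  · subst hyy; left; rw [TT95.sq hD (hY.mem hy)]; simp
  obtain ⟨a, ha⟩ := dec_nonempty hG hW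
  obtain ⟨b, c, e, hn, hmem, hu⟩ := hW.split ha
  simp only [List.nodup_cons, List.mem_cons, List.not_mem_nil, or_false, not_or] at hn
  obtain ⟨⟨nab, nac, nae⟩, ⟨nbc, nbe⟩, nce, -⟩ := hn
  have hb := (hmem b).2 (by simp)
  have hc := (hmem c).2 (by simp)
  have mv : ∀ {p r s t : G}, p ∈ W → r ∈ W → s ∈ W → r ≠ s → t = y →
      p * r * t * (p * r)⁻¹ ≠ p * s * t * (p * s)⁻¹ := by
    intro p r s t hp hr hs hrs ht h
    subst ht
    have h' : r * t * r⁻¹ = s * t * s⁻¹ := by
      have := congrArg (fun v => p⁻¹ * v * p) h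
      simp only [mul_inv_rev, mul_assoc, inv_mul_cancel_left, inv_mul_cancel, mul_one] at this
      simpa [mul_assoc] using this
    refine move_ne hG hW hY hne hWY hs hr (Ne.symm hrs) hy ?_
    have hss := inv_eq hD (hW.mem hs)
    refine mul_inv_eq_iff_eq_mul.1 ?_
    rw [show s * r * t * (s * r)⁻¹ = s * (r * t * r⁻¹) * s⁻¹ by group, h',
      show s * (s * t * s⁻¹) * s⁻¹ = (s * s) * t * (s * s)⁻¹ by group, TT95.sq hD (hW.mem hs)]
    simp
  have hs1 := pair_fix hG hT hφ hW hY ha hb hy
  have hs2 := pair_fix hG hT hφ hW hY ha hc hy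
  have hs3 := pair_fix hG hT hφ hW hY hb hc hy
  have hsy : ∀ {p r}, p ∈ W → r ∈ W → p ≠ r → p * r * y * (p * r)⁻¹ ≠ y := fun hp hr hpr h' =>
    move_ne hG hW hY hne hWY hp hr hpr hy (mul_inv_eq_iff_eq_mul.1 h')
  have h12 := mv ha hb hc nbc rfl
  have h13 : a * b * y * (a * b)⁻¹ ≠ b * c * y * (b * c)⁻¹ := by
    rw [(hW.comm ha hb).eq]; exact mv hb ha hc nac rfl
  have h23 : a * c * y * (a * c)⁻¹ ≠ b * c * y * (b * c)⁻¹ := by
    rw [(hW.comm ha hc).eq, (hW.comm hb hc).eq]; exact mv hc ha hb nab rfl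
  have hn4 : [y, a * b * y * (a * b)⁻¹, a * c * y * (a * c)⁻¹, b * c * y * (b * c)⁻¹].Nodup := by
    simp [-mul_inv_rev, h12, h13, h23, Ne.symm (hsy ha hb nab), Ne.symm (hsy ha hc nac), Ne.symm (hsy hb hc nbc)]
  have hall : y' ∈ [y, a * b * y * (a * b)⁻¹, a * c * y * (a * c)⁻¹, b * c * y * (b * c)⁻¹].toFinset := by
    suffices e : [y, a * b * y * (a * b)⁻¹, a * c * y * (a * c)⁻¹, b * c * y * (b * c)⁻¹].toFinset = Y by
      rw [e]; exact hy'
    refine Finset.eq_of_subset_of_card_le (fun x hx => ?_) (by rw [hY.card, List.toFinset_card_of_nodup hn4]; rfl)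
    simp only [List.mem_toFinset, List.mem_cons, List.not_mem_nil, or_false] at hx
    rcases hx with rfl | rfl | rfl | rfl <;> assumption
  have key : ∀ {p r}, p ∈ W → r ∈ W → p ≠ r → y' = p * r * y * (p * r)⁻¹ →
      (g : G) * (y * y') * (g : G)⁻¹ = y * y' ∨ (g : G) * (y * y') * (g : G)⁻¹ = u * (y * y') := by
    intro p r hp hr hpr hy''
    set k := p * r with hk
    set z := (g : G) * y * (g : G)⁻¹ with hz
    set z' := (g : G) * y' * (g : G)⁻¹ with hz'
    have hzm : z ∈ Y ∧ z' ∈ Y := by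
      constructor <;> rw [← ker_fix hG hT hφ hg hY]
      exacts [mem_conjS.2 hy, mem_conjS.2 hy']
    have hz'' : z' = k * z * k⁻¹ := by
      have hck : ∀ v ∈ Y, Commute u v := fun v hv => (hY.fix hv).2
      rw [hz', hy'', show (g : G) * (k * y * k⁻¹) * (g : G)⁻¹ = (g : G) * k * (g : G)⁻¹ * z * ((g : G) * k * (g : G)⁻¹)⁻¹ by
        rw [hz]; group]
      rcases h p hp r hr with e | e <;> rw [e]
      rw [show u * k * z * (u * k)⁻¹ = u * (k * z * k⁻¹) * u⁻¹ by group,
        (hck _ (pair_fix hG hT hφ hW hY hp hr hzm.1)).eq, mul_inv_cancel_right]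
    have hgz : (g : G) * (y * y') * (g : G)⁻¹ = z * z' := by rw [hz, hz']; group
    rw [hgz]
    by_cases hzy : z = y
    · left; rw [hz'', hzy, ← hy'']
    by_cases hzy' : z = y'
    · left
      rw [hz'', hzy', show k * y' * k⁻¹ = y by
        rw [hy'', show k * (k * y * k⁻¹) * k⁻¹ = (k * k) * y * (k * k)⁻¹ by group,
          pairGen_sq hG (u := u) ⟨W, hW, p, hp, r, hr, rfl⟩]; simp]
      exact (hY.comm hy' hy).eq
    right
    have hne' : y ≠ k * z * k⁻¹ := fun e => hzy' (by
      rw [hy'', e, show k * (k * z * k⁻¹) * k⁻¹ = (k * k) * z * (k * k)⁻¹ by group,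
        pairGen_sq hG (u := u) ⟨W, hW, p, hp, r, hr, rfl⟩]; simp)
    have hn' : [z, z', y, y'].Nodup := by
      have h1 : z ≠ z' := fun e => hyy (mul_left_cancel (mul_right_cancel (hz ▸ hz' ▸ e)))
      have h3 : z' ≠ y' := fun e => hzy (mul_left_cancel (mul_right_cancel ((hz'' ▸ e : k * z * k⁻¹ = y').trans hy'')))
      simp [h1, hzy, hzy', hyy, h3, hz'' ▸ hne'.symm]
    have hset : [z, z', y, y'].toFinset = Y := by
      refine Finset.eq_of_subset_of_card_le (fun x hx => ?_) (by rw [hY.card, List.toFinset_card_of_nodup hn']; rfl)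
      simp only [List.mem_toFinset, List.mem_cons, List.not_mem_nil, or_false] at hx
      rcases hx with rfl | rfl | rfl | rfl
      exacts [hzm.1, hzm.2, hy, hy']
    have hp' := hY.2 _ _ _ _ hn' hset
    rw [← hp', show z * z' * y * y' * (y * y') = z * z' * (y * y' * (y * y')) by group,
      pairGen_sq hG (u := u) ⟨Y, hY, y, hy, y', hy', rfl⟩, mul_one]
  simp only [List.mem_toFinset, List.mem_cons, List.not_mem_nil, or_false] at hall
  rcases hall with h' | h' | h' | h'
  · exact absurd h'.symm hyy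
  · exact key ha hb nab h'
  · exact key ha hc nac h'
  · exact key hb hc nbc h'

/-- Preserving the classes in one quadruple puts an element of the kernel in the group. -/
theorem mem_QG_of_good (hu : IsProd D 4 u) {g : Subgroup.centralizer ({u} : Set G)} (hg : φ g = 1) {p : Fin 126}
    (h : GoodOn u (g : G) (T p)) : (g : G) ∈ QG D u := by
  have hall : ∀ r, GoodOn u (g : G) (T r) := by
    intro r
    obtain ⟨s, hps, hrs, aps, ars⟩ := far_index hG hT hφ p r
    have e1 := far_pair hG hT hφ hps aps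
    have e2 := far_pair hG hT hφ hrs ars
    refine good_far hG hT hφ hg (hT.dec s) (hT.dec r) e2.1.symm (fun e => e2.2 e.symm) ?_
    exact good_far hG hT hφ hg (hT.dec p) (hT.dec s) e1.1 e1.2 h
  have hS := QG_setup hG hT hφ hu
  obtain ⟨huc, -, -⟩ := QG_facts hG hT hφ hu
  refine LargeExtraspecial.Setup.inner_of_commutator_mem hS fun x hx => ?_
  have hgen : ∀ x ∈ pairGen D u, (g : G) * x * (g : G)⁻¹ = x ∨ (g : G) * x * (g : G)⁻¹ = u * x := by
    rintro _ ⟨Y, hY, a, ha, b, hb, rfl⟩
    obtain ⟨r, rfl⟩ := hT.surj Y hY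
    exact hall r a ha b hb
  have hu2 := isProd_sq24 hG hu
  suffices hgx : (g : G) * x * (g : G)⁻¹ = x ∨ (g : G) * x * (g : G)⁻¹ = u * x by
    rcases hgx with e | e <;> rw [e]
    · rw [mul_inv_cancel]; exact one_mem _
    · rw [mul_inv_cancel_right]; exact Subgroup.mem_zpowers u
  induction hx using Subgroup.closure_induction with
  | mem x hx => exact hgen x hx
  | one => simp
  | mul x y hx hy ex ey =>
    have e : (g : G) * (x * y) * (g : G)⁻¹ = (g : G) * x * (g : G)⁻¹ * ((g : G) * y * (g : G)⁻¹) := by group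
    have hux := (huc x hx).eq
    rw [e]
    rcases ex with ex | ex <;> rcases ey with ey | ey <;> rw [ex, ey]
    · exact Or.inl rfl
    · right; rw [← mul_assoc, ← hux, mul_assoc]
    · right; rw [mul_assoc]
    · left; rw [show u * x * (u * y) = u * (x * u) * y by group, ← hux, ← mul_assoc, hu2, one_mul]
  | inv x hx ex =>
    have e : (g : G) * x⁻¹ * (g : G)⁻¹ = ((g : G) * x * (g : G)⁻¹)⁻¹ := by group
    rw [e]
    rcases ex with ex | ex <;> rw [ex]
    · exact Or.inl rfl
    · right; rw [mul_inv_rev, inv_eq_of_mul_eq_one_right hu2, (huc x hx).inv_right.eq]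

/-- A far product with a product in the quadruple: it exchanges two pairs. -/
theorem exists_turn {W : Finset G} (hW : Dec D u W) {a b : G} (ha : a ∈ W) (hb : b ∈ W) (hab : a ≠ b) :
    ∃ z ∈ QG D u, z * a * z⁻¹ = b ∧ z * b * z⁻¹ = a := by
  have hD := hG.lay.tt
  obtain ⟨b₁, c, e, hn, hmem, hprod⟩ := hW.split ha
  simp only [List.nodup_cons, List.mem_cons, List.not_mem_nil, or_false, not_or] at hn
  obtain ⟨x, hx, hxa, hxb⟩ : ∃ x ∈ W, x ≠ a ∧ x ≠ b := by
    obtain ⟨x, h⟩ := Finset.card_pos.1 (show 0 < (W \ {a, b}).card by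
      have h3 := Finset.le_card_sdiff {a, b} W
      have h4 := Finset.card_le_two (a := a) (b := b)
      rw [hW.card] at h3
      omega)
    simp only [Finset.mem_sdiff, Finset.mem_insert, Finset.mem_singleton, not_or] at h
    exact ⟨x, h.1, h.2⟩
  obtain ⟨Y, hY, hne, hWY⟩ := exists_far_dec hG hT hφ hW
  obtain ⟨y, hy⟩ := dec_nonempty hG hY
  have hy' := pair_fix hG hT hφ hW hY ha hb hy
  set y' := a * b * y * (a * b)⁻¹ with hy'def
  have hyy : y ≠ y' := fun h => move_ne hG hW hY hne hWY ha hb hab hy (mul_inv_eq_iff_eq_mul.1 h.symm)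
  set z := y * y' with hz
  have hzQ : z ∈ QG D u := Subgroup.subset_closure ⟨Y, hY, y, hy, y', hy', rfl⟩
  have hz2 : z * z = 1 := pairGen_sq hG (u := u) ⟨Y, hY, y, hy, y', hy', rfl⟩
  refine ⟨z, hzQ, ?_⟩
  have hfix := ker_fix hG hT hφ (g := ⟨z, QG_le hG hzQ⟩) (mem_QG_ker hG hT hφ hzQ) hW
  have hmv : ∀ {w}, w ∈ W → z * w * z⁻¹ ∈ W ∧ z * w * z⁻¹ ≠ w := fun {w} hw => by
    refine ⟨?_, fun h => move_ne hG hY hW hne.symm (fun h' => hWY h'.symm) hy hy' hyy hw
      (mul_inv_eq_iff_eq_mul.1 h)⟩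
    have := mem_conjS (g := z).2 hw
    rwa [hfix] at this
  have hab' : z * (a * b) * z⁻¹ = a * b := by
    rcases pair_comm hG hT hφ hW hY hne hWY ha hb hab hy hy' hyy with ⟨-, h⟩ | ⟨h, -⟩
    · refine mul_inv_eq_iff_eq_mul.2 ?_
      exact (mul_inv_eq_iff_eq_mul.1 h).symm
    · exact absurd rfl h
  rw [show z * (a * b) * z⁻¹ = z * a * z⁻¹ * (z * b * z⁻¹) by group] at hab'
  rcases pair_unique hD hG.lay.tf (hW.mem ha) (hW.mem hb) (TT95.conj_mem hD z (hW.mem ha))
      (TT95.conj_mem hD z (hW.mem hb)) hab (hW.comm ha hb) ((Commute.conj_iff z).2 (hW.comm ha hb)) hab'.symm with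
    ⟨h, -⟩ | h
  · exact absurd h (hmv ha).2
  · exact h

/-- The kernel has order 3 · 2^13, the group 2^13. -/
theorem card_kernel (hu : IsProd D 4 u) :
    Nat.card (QG D u) = 2 ^ 13 ∧ Nat.card φ.ker = 3 * 2 ^ 13 ∧ Nat.card φ.range = 13063680 := by
  have hD := hG.lay.tt
  have hu2 := isProd_sq24 hG hu
  obtain ⟨p0, -⟩ : ∃ p : Fin 126, True := ⟨0, trivial⟩
  have hW := hT.dec p0
  obtain ⟨a, ha⟩ := dec_nonempty hG hW
  obtain ⟨b, c, e, hn, hmem, hprod⟩ := hW.split ha
  simp only [List.nodup_cons, List.mem_cons, List.not_mem_nil, or_false, not_or] at hn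
  obtain ⟨⟨nab, nac, nae⟩, ⟨nbc, nbe⟩, nce, -⟩ := hn
  have hb := (hmem b).2 (by simp)
  have hc := (hmem c).2 (by simp)
  have he := (hmem e).2 (by simp)
  have sq : ∀ {x y}, x ∈ T p0 → y ∈ T p0 → x * y * (x * y) = 1 := fun hx hy =>
    pairGen_sq hG (u := u) ⟨_, hW, _, hx, _, hy, rfl⟩
  have hua : ∀ w, u * (a * w) = b * c * e * w := fun w => by
    rw [← hprod, show a * (b * c * e) * (a * w) = a * (b * c * e * a) * w by group,
      (((hW.comm hb ha).mul_left (hW.comm hc ha)).mul_left (hW.comm he ha)).eq, ← mul_assoc,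
      TT95.sq hD (hW.mem ha), one_mul]
  have hbc : b * c = u * (a * e) := by
    rw [hua, mul_assoc (b * c), TT95.sq hD (hW.mem he), mul_one]
  have hce : c * e = u * (a * b) := by
    rw [hua, show b * c * e * b = b * (c * e * b) by group, ((hW.comm hc hb).mul_left (hW.comm he hb)).eq,
      ← mul_assoc, TT95.sq hD (hW.mem hb), one_mul]
  have hbe : b * e = u * (a * c) := by
    rw [hua, show b * c * e * c = b * c * (e * c) by group, (hW.comm he hc).eq,
      show b * c * (c * e) = b * (c * c) * e by group, TT95.sq hD (hW.mem hc), mul_one]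
  let cl : G → Set G := fun x => {x, u * x}
  have clu : ∀ x, cl (u * x) = cl x := fun x => (class_eq hu2 (Or.inr rfl)).symm
  let P : Set (Set G) := {cl (a * b), cl (a * c), cl (a * e)}
  have hP : ∀ {x y}, x ∈ T p0 → y ∈ T p0 → x ≠ y → cl (x * y) ∈ P := by
    intro x y hx hy hxy
    have e1 : b * a = a * b := (hW.comm hb ha).eq
    have e2 : c * a = a * c := (hW.comm hc ha).eq
    have e3 : e * a = a * e := (hW.comm he ha).eq
    have e4 : c * b = b * c := (hW.comm hc hb).eq
    have e5 : e * b = b * e := (hW.comm he hb).eq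
    have e6 : e * c = c * e := (hW.comm he hc).eq
    rcases (hmem x).1 hx with rfl | rfl | rfl | rfl <;> rcases (hmem y).1 hy with rfl | rfl | rfl | rfl <;>
      first
        | exact absurd rfl hxy
        | ((try simp only [e1, e2, e3, e4, e5, e6]); (try simp only [hbc, hce, hbe, clu]); simp [P]; done)
  let f : φ.ker → Set G × Set G := fun g =>
    (cl ((g : G) * (a * b) * (g : G)⁻¹), cl ((g : G) * (a * c) * (g : G)⁻¹))
  have hQker : ∀ x (hx : x ∈ QG D u), (⟨x, QG_le hG hx⟩ : Subgroup.centralizer ({u} : Set G)) ∈ φ.ker :=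
    fun x hx => mem_QG_ker hG hT hφ hx
  set S : Subgroup φ.ker := ((QG D u).subgroupOf (Subgroup.centralizer ({u} : Set G))).subgroupOf φ.ker with hS
  have hcardS : Nat.card S = Nat.card (QG D u) := by
    rw [hS, Nat.card_congr (Subgroup.subgroupOfEquivOfLe ?_).toEquiv,
      Nat.card_congr (Subgroup.subgroupOfEquivOfLe (QG_le hG)).toEquiv]
    intro x hx
    exact hQker _ (Subgroup.mem_subgroupOf.1 hx)
  have hg_u : ∀ (g : G), Commute g u → ∀ x, g * (u * x) * g⁻¹ = u * (g * x * g⁻¹) := fun g hgu x => by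
    rw [← mul_assoc g u x, hgu.eq]; group
  have hfib : ∀ g g', f g = f g' ↔ g⁻¹ * g' ∈ S := by
    intro g g'
    have hgu := commute_of_mem_CU (g : Subgroup.centralizer ({u} : Set G)).2
    set r := g⁻¹ * g' with hr
    have hrg : (g' : G) = (g : G) * (r : G) := by simp [hr]
    have hru := commute_of_mem_CU (r : Subgroup.centralizer ({u} : Set G)).2
    have hx : ∀ x, cl ((g : G) * x * (g : G)⁻¹) = cl ((g' : G) * x * (g' : G)⁻¹) ↔
        ((r : G) * x * (r : G)⁻¹ = x ∨ (r : G) * x * (r : G)⁻¹ = u * x) := by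
      intro x
      have ee : (g' : G) * x * (g' : G)⁻¹ = (g : G) * ((r : G) * x * (r : G)⁻¹) * (g : G)⁻¹ := by rw [hrg]; group
      constructor
      · intro h
        rcases image_pair_ne h with h | h
        · left; rw [ee] at h; exact mul_left_cancel (mul_right_cancel h)
        · right; rw [ee, ← hg_u _ hgu] at h; exact mul_left_cancel (mul_right_cancel h)
      · intro h
        refine class_eq hu2 ?_
        rw [ee]
        rcases h with h | h <;> rw [h]
        · exact Or.inl rfl
        · exact Or.inr (hg_u _ hgu x)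
    simp only [f, Prod.mk.injEq, hx]
    rw [hS, Subgroup.mem_subgroupOf, Subgroup.mem_subgroupOf]
    constructor
    · rintro ⟨h1, h2⟩
      refine mem_QG_of_good hG hT hφ hu r.2 (p := p0) ?_
      -- the third class follows from the first two
      have h3 : (r : G) * (b * c) * (r : G)⁻¹ = b * c ∨ (r : G) * (b * c) * (r : G)⁻¹ = u * (b * c) := by
        have e1 : b * c = a * b * (a * c) := by
          rw [show a * b * (a * c) = a * (b * a) * c by group, (hW.comm hb ha).eq,
            show a * (a * b) * c = (a * a) * (b * c) by group, TT95.sq hD (hW.mem ha), one_mul]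
        have e2 : (r : G) * (b * c) * (r : G)⁻¹ =
            (r : G) * (a * b) * (r : G)⁻¹ * ((r : G) * (a * c) * (r : G)⁻¹) := by rw [e1]; group
        have hucab : Commute u (a * b) := (hW.fix ha).2.mul_right (hW.fix hb).2
        rw [e2]
        rcases h1 with h1 | h1 <;> rcases h2 with h2 | h2 <;> rw [h1, h2]
        · exact Or.inl e1.symm
        · right; rw [← mul_assoc, ← hucab.eq, mul_assoc, e1]
        · right; rw [mul_assoc, e1]
        · left; rw [show u * (a * b) * (u * (a * c)) = u * (a * b * u) * (a * c) by group, ← hucab.eq, ← mul_assoc u u,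
            hu2, one_mul, e1]
      have up : ∀ {x}, ((r : G) * x * (r : G)⁻¹ = x ∨ (r : G) * x * (r : G)⁻¹ = u * x) →
          ((r : G) * (u * x) * (r : G)⁻¹ = u * x ∨ (r : G) * (u * x) * (r : G)⁻¹ = u * (u * x)) := fun {x} h => by
        rw [hg_u _ hru]
        rcases h with h | h <;> rw [h]
        exacts [Or.inl rfl, Or.inr rfl]
      have hae : a * e = u * (b * c) := by rw [hbc, ← mul_assoc, hu2, one_mul]
      intro x hx y hy
      by_cases hxy : x = y
      · subst hxy; left; rw [TT95.sq hD (hW.mem hx)]; simp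
      have e1 : b * a = a * b := (hW.comm hb ha).eq
      have e2 : c * a = a * c := (hW.comm hc ha).eq
      have e3 : e * a = a * e := (hW.comm he ha).eq
      have e4 : c * b = b * c := (hW.comm hc hb).eq
      have e5 : e * b = b * e := (hW.comm he hb).eq
      have e6 : e * c = c * e := (hW.comm he hc).eq
      rcases (hmem x).1 hx with rfl | rfl | rfl | rfl <;> rcases (hmem y).1 hy with rfl | rfl | rfl | rfl <;>
        first
          | exact absurd rfl hxy
          | ((try simp only [e1, e2, e3, e4, e5, e6])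
             first | exact h1 | exact h2 | exact h3 | (rw [hce]; exact up h1) | (rw [hbe]; exact up h2)
                   | (rw [hae]; exact up h3))
    · intro h
      have hr' := QG_facts hG hT hφ hu
      have key : ∀ {x y}, x ∈ T p0 → y ∈ T p0 →
          ((r : G) * (x * y) * (r : G)⁻¹ = x * y ∨ (r : G) * (x * y) * (r : G)⁻¹ = u * (x * y)) := fun {x y} hx hy => by
        rcases hr'.2.1 _ h _ (Subgroup.subset_closure ⟨_, hW, x, hx, y, hy, rfl⟩) with e' | e'
        · exact Or.inl (mul_inv_eq_iff_eq_mul.2 e')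
        · exact Or.inr (mul_inv_eq_iff_eq_mul.2 (by rw [mul_assoc]; exact e'))
      exact ⟨key ha hb, key ha hc⟩
  have hmap : ∀ (g : φ.ker) {x}, x ∈ T p0 → (g : G) * x * (g : G)⁻¹ ∈ T p0 := fun g {x} hx => by
    rw [← ker_fix hG hT hφ g.2 hW]; exact mem_conjS.2 hx
  have hne1 : ∀ g : φ.ker, f g ∈ P.offDiag := by
    intro g
    have inj : ∀ {x y : G}, (g : G) * x * (g : G)⁻¹ = (g : G) * y * (g : G)⁻¹ → x = y := fun h =>
      mul_left_cancel (mul_right_cancel h)
    have hgu := commute_of_mem_CU (g : Subgroup.centralizer ({u} : Set G)).2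
    have e1 : (g : G) * (a * b) * (g : G)⁻¹ = (g : G) * a * (g : G)⁻¹ * ((g : G) * b * (g : G)⁻¹) := by group
    have e2 : (g : G) * (a * c) * (g : G)⁻¹ = (g : G) * a * (g : G)⁻¹ * ((g : G) * c * (g : G)⁻¹) := by group
    refine ⟨?_, ?_, fun h => ?_⟩
    · simp only [f]; rw [e1]; exact hP (hmap g ha) (hmap g hb) fun h => nab (inj h)
    · simp only [f]; rw [e2]; exact hP (hmap g ha) (hmap g hc) fun h => nac (inj h)
    · rcases image_pair_ne h with h | h
      · exact nbc (mul_left_cancel (inj h)).symm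
      · rw [← hg_u _ hgu, ← hce] at h
        have := inj h
        rw [(hW.comm hc he).eq] at this
        exact nae (mul_right_cancel this)
  have hmiss : (cl (a * b), cl (a * e)) ∉ Set.range f := by
    rintro ⟨g, hg⟩
    obtain ⟨hg1, hg2⟩ : cl ((g : G) * (a * b) * (g : G)⁻¹) = cl (a * b) ∧
        cl ((g : G) * (a * c) * (g : G)⁻¹) = cl (a * e) := Prod.mk.inj hg
    obtain ⟨z, hzQ, hza⟩ : ∃ z ∈ QG D u, z * ((g : G) * a * (g : G)⁻¹) * z⁻¹ = a := by
      by_cases h : (g : G) * a * (g : G)⁻¹ = a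
      · exact ⟨1, one_mem _, by simp [h]⟩
      · obtain ⟨z, hz, h1, -⟩ := exists_turn hG hT hφ hW (hmap g ha) ha h
        exact ⟨z, hz, h1⟩
    set g' : φ.ker := ⟨⟨z, QG_le hG hzQ⟩, hQker z hzQ⟩ * g with hg'
    have hfg : f g' = f g := (hfib _ _).2 (by
      rw [hS, Subgroup.mem_subgroupOf, Subgroup.mem_subgroupOf]
      simp only [hg', mul_inv_rev, InvMemClass.coe_inv, Subgroup.coe_mul]
      rw [show (g : G)⁻¹ * z⁻¹ * (g : G) = (g : G)⁻¹ * z⁻¹ * (g : G)⁻¹⁻¹ by rw [inv_inv]]
      have hle : QG D u ≤ (QG D u).comap (MulAut.conj ((g : G)⁻¹)).toMonoidHom := (Subgroup.closure_le _).2 fun s hs =>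
        Subgroup.subset_closure (pairGen_conj hD
          (commute_of_mem_CU (inv_mem (g : Subgroup.centralizer ({u} : Set G)).2)) hs)
      exact hle (inv_mem hzQ))
    obtain ⟨hg1', hg2'⟩ : cl ((g' : G) * (a * b) * (g' : G)⁻¹) = cl (a * b) ∧
        cl ((g' : G) * (a * c) * (g' : G)⁻¹) = cl (a * e) := Prod.mk.inj (hfg.trans hg)
    have ga : (g' : G) * a * (g' : G)⁻¹ = a := by
      rw [show ((g' : Subgroup.centralizer ({u} : Set G)) : G) = z * (g : G) from rfl,
        show z * (g : G) * a * (z * (g : G))⁻¹ = z * ((g : G) * a * (g : G)⁻¹) * z⁻¹ by group, hza]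
    have one : ∀ {x w}, x ∈ T p0 → w ∈ T p0 → x ≠ a → cl ((g' : G) * (a * x) * (g' : G)⁻¹) = cl (a * w) →
        (∀ v ∈ T p0, v ≠ a → v ≠ w → u * (a * w) ≠ a * v) → (g' : G) * x * (g' : G)⁻¹ = w := by
      intro x w hx hw hxa h hex
      have e1 : (g' : G) * (a * x) * (g' : G)⁻¹ = a * ((g' : G) * x * (g' : G)⁻¹) := by
        rw [show (g' : G) * (a * x) * (g' : G)⁻¹ = (g' : G) * a * (g' : G)⁻¹ * ((g' : G) * x * (g' : G)⁻¹) by group, ga]
      rw [e1] at h
      rcases image_pair_ne h.symm with h | h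
      · exact mul_left_cancel h
      · by_contra hne
        refine hex _ (hmap g' hx) (fun h' => hxa ?_) hne h.symm
        exact mul_left_cancel (mul_right_cancel (h'.trans ga.symm))
    have gb : (g' : G) * b * (g' : G)⁻¹ = b := one hb hb (Ne.symm nab) hg1' fun v hv hva hvb h => by
      rw [← hce] at h
      rcases (hmem v).1 hv with rfl | rfl | rfl | rfl
      · exact hva rfl
      · exact hvb rfl
      · exact nae (mul_left_cancel (h.trans (hW.comm ha hc).eq)).symm
      · exact nac (mul_right_cancel h).symm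
    have gc : (g' : G) * c * (g' : G)⁻¹ = e := one hc he (Ne.symm nac) hg2' fun v hv hva hve h => by
      rw [← hbc] at h
      rcases (hmem v).1 hv with rfl | rfl | rfl | rfl
      · exact hva rfl
      · exact nac (mul_left_cancel (h.trans (hW.comm ha hb).eq)).symm
      · exact nab (mul_right_cancel h).symm
      · exact hve rfl
    have ge : (g' : G) * e * (g' : G)⁻¹ = c := by
      rcases (hmem _).1 (hmap g' he) with h | h | h | h
      · exact absurd (mul_left_cancel (mul_right_cancel (h.trans ga.symm))).symm nae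
      · exact absurd (mul_left_cancel (mul_right_cancel (h.trans gb.symm))).symm nbe
      · exact h
      · exact absurd (mul_left_cancel (mul_right_cancel (h.trans gc.symm))).symm nce
    have mk : ∀ {x y}, x ∈ T p0 → y ∈ T p0 → x ≠ y → y ∈ nb D x := fun hx hy h => ⟨hW.mem hy, h.symm, hW.comm hx hy⟩
    refine no_swap_fix hG (hW.mem ha) (mk ha hb nab) ⟨mk ha hc nac, mk hb hc nbc⟩ ⟨mk ha he nae, mk hb he nbe⟩
      (mk hc he nce) (mul_inv_eq_iff_eq_mul.1 ga) (mul_inv_eq_iff_eq_mul.1 gb) gc ge fun v hv t ht => ?_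
    have hin : ∀ v ∈ perp D ({a, b, c, e} : Set G), v ∈ fixU D u := fun v hv => ⟨hv.1, (hW.commute fun w hw => by
      rcases (hmem w).1 hw with rfl | rfl | rfl | rfl <;> exact (hv.2.2 _ (by simp)).symm).symm⟩
    obtain ⟨Y, hY, hvY⟩ := exists_dec hG hu (hin v hv)
    have hv' : (g' : G) * v * (g' : G)⁻¹ ∈ Y := by rw [← ker_fix hG hT hφ g'.2 hY]; exact mem_conjS.2 hvY
    exact ⟨fun h => twin hG hY hv' (hin t ht) h hvY, fun h => twin hG hY hvY (hin t ht) h hv'⟩
  have hrange : (Set.range f).ncard ≤ 5 := by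
    have hPfin : P.Finite := Set.toFinite _
    have hP3 : P.ncard ≤ 3 := by
      refine (Set.ncard_insert_le _ _).trans (Nat.succ_le_succ ((Set.ncard_insert_le _ _).trans ?_))
      rw [Set.ncard_singleton]
    have hsub : Set.range f ⊆ P.offDiag \ {(cl (a * b), cl (a * e))} := by
      rintro _ ⟨g, rfl⟩
      exact ⟨hne1 g, fun h => hmiss ⟨g, h⟩⟩
    have hoff : P.offDiag.ncard ≤ 6 := by
      classical
      rw [← hPfin.coe_toFinset, ← Finset.coe_offDiag, Set.ncard_coe_finset, Finset.offDiag_card]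
      have : hPfin.toFinset.card ≤ 3 := by rw [← Set.ncard_eq_toFinset_card _ hPfin]; exact hP3
      interval_cases hPfin.toFinset.card <;> norm_num
    have hmem' : (cl (a * b), cl (a * e)) ∈ P.offDiag := by
      refine ⟨by simp [P], by simp [P], fun h => ?_⟩
      rcases image_pair_ne h with h | h
      · exact nbe (mul_left_cancel h).symm
      · rw [← hce] at h
        exact nac (mul_right_cancel h)
    refine (Set.ncard_le_ncard hsub (Set.toFinite _)).trans ?_
    rw [Set.ncard_diff_singleton_of_mem hmem']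
    omega
  have hcount := card_eq_mul_of_fibres f S hfib
  rw [hcardS] at hcount
  obtain ⟨-, -, hprod', hr⟩ := act_range hG hu hT hφ
  obtain ⟨k, -, hk⟩ := LargeExtraspecial.Setup.extraspecial (QG_setup hG hT hφ hu) |>
    fun h => (haveI : Fact (Nat.Prime 2) := ⟨Nat.prime_two⟩; PGroup.xs_card_pow _ h rfl)
  rw [hk] at hcount ⊢
  have hker : Nat.card φ.ker = 3 * 2 ^ 13 ∨ Nat.card φ.ker = 3 * 2 ^ 14 := by
    rcases hr with h | h <;> rw [h] at hprod' <;> omega
  have hn3 : (Set.range f).ncard = 3 := by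
    have h3 : 3 ∣ (Set.range f).ncard := by
      have : 3 ∣ (Set.range f).ncard * 2 ^ (2 * k + 1) := by rw [← hcount]; rcases hker with h | h <;> rw [h] <;> omega
      exact (Nat.Coprime.dvd_of_dvd_mul_right ((Nat.Coprime.pow_right _ (by norm_num))) this)
    have : 0 < (Set.range f).ncard := Set.ncard_pos (Set.toFinite _) |>.2 ⟨f 1, Set.mem_range_self 1⟩
    omega
  rw [hn3] at hcount
  have hk6 : k = 6 := by
    rcases hker with h | h <;> rw [h] at hcount
    · have := Nat.pow_right_injective le_rfl (Nat.eq_of_mul_eq_mul_left (by norm_num) hcount)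
      omega
    · have := Nat.pow_right_injective le_rfl (Nat.eq_of_mul_eq_mul_left (by norm_num) hcount)
      omega
  subst hk6
  have hkc : Nat.card φ.ker = 3 * 2 ^ 13 := hcount
  refine ⟨rfl, hkc, ?_⟩
  rw [hkc] at hprod'
  omega

end Cfsg.Agent.Four95
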