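import Cfsg.Agent.TT95.PairKernel
import Cfsg.Agent.TT95.Pair24

/-!
Type M(24): no element fixes two members of a commuting quadruple, exchanges the other two and keeps every
octad through the quadruple, and what centralises a quadruple with its neighbours is a product of its members.
-/

set_option autoImplicit false
set_option linter.unusedSectionVars false
set_option linter.style.haveILetI false

namespace Cfsg.Agent.Four95

open Cfsg.Agent.TT95 Cfsg.Agent.TT95.U6 Cfsg.Agent.TT95.K45G


theorem perp1_pts : allP isPt perp1 = true := by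
  decide +kernel

/-- The first point off the pair is one of two by what it commutes with. -/
theorem offPair_check :
    allP (fun y => orth y e1 || !(allP (fun t => Bool.rec (!orth y t) (orth y t) (orth f1 t)) perp1) ||
      Nat.beq y f1 || Nat.beq y (tv e1 f1)) pts = true := by
  decide +kernel

/-- Four base points fixed with the first. -/
def offBase4 : List ℕ := [1348, 1744, 1909, 320]

/-- Off the pair, the points of a list are determined by their relations to the listed points. -/
noncomputable def offOK (L T : List ℕ) : Bool :=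
  allP (fun b => allP (fun y => orth b e1 || orth y e1 ||
    !(allP (fun t => Bool.rec (!orth y t) (orth y t) (orth b t)) T) || Nat.beq y b) pts) L

theorem offBase4_check : offOK offBase4 (f1 :: perp1) = true ∧ allP isPt offBase4 = true := by
  decide +kernel

/-- The further base points off the pair are fixed with the first. -/
theorem offBase_check : offOK detBase (f1 :: (offBase4 ++ perp1)) = true := by
  decide +kernel

theorem perp1_mem {x : ℕ} : x ∈ perp1 ↔ isPt x = true ∧ orth x e1 = true := by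
  constructor
  · intro h
    have hx := mem_pts.1 (mem_pts.2 (allP_iff.1 perp1_pts x h))
    have := allP_iff.1 perp1_spec x (mem_pts.2 hx)
    rw [beq_iff_eq, inMask_maskOf.2 h] at this
    exact ⟨hx, this⟩
  · rintro ⟨h1, h2⟩
    have := allP_iff.1 perp1_spec x (mem_pts.2 h1)
    rwa [h2, beq_iff_eq, eq_comm, inMask_maskOf] at this

theorem rec_bool {x y : Bool} (h : x = y) : Bool.rec (!x) x y = true := by subst h; cases x <;> rfl

section Below

variable {K : Type*} [Group K] [Finite K] {E : Set K} {a b : K} {γ : ℕ → K}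

/-- What centralises a pair and their common neighbours is in the four group on them. -/
theorem pair_perp_kernel (hC : Cfg22 E) (ha : a ∈ E) (hγ : IsLocal E a γ) (hb : γ e1 = b) {r : K}
    (hra : Commute r a) (hrb : Commute r b) (hR : ∀ x, isR x → Commute r (γ x)) :
    r = 1 ∨ r = a ∨ r = b ∨ r = a * b := by
  have hD := hC.tt
  obtain ⟨hbE, hba, hab⟩ := b_mem hC ha hγ hb
  have hfix1 : ∀ (g : K), Commute g b → (∀ x, isR x → Commute g (γ x)) → ∀ x, x ∈ perp1 → Commute g (γ x) := by
    intro g hgb hg x hx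
    by_cases h1 : x = e1
    · rw [h1, hb]; exact hgb
    · obtain ⟨h2, h3⟩ := perp1_mem.1 hx
      exact hg x ⟨h2, h3, h1⟩
  have main : ∀ g : K, Commute g a → Commute g b → (∀ x, isR x → Commute g (γ x)) → Commute g (γ f1) →
      g = 1 ∨ g = a := by
    intro g hga hgb hg hgf
    obtain ⟨σ, hσ⟩ := exists_induces hC ha hγ hga
    have hid : ∀ {p}, isPt p = true → Commute g (γ p) → σ p = p := fun {p} hp h =>
      induces_eq hC ha hγ hσ hp hp (by rw [h.eq, mul_inv_cancel_right])
    have hf1 := base_isPt.2.2.2.1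
    have step : ∀ L T, offOK L T = true → (∀ t ∈ T, isPt t = true ∧ σ t = t) → ∀ c ∈ L, isPt c = true →
        σ c = c := by
      intro L T hLT hT c hc hcp
      by_cases hc1 : orth c e1 = true
      · exact hid hcp (hfix1 g hgb hg c (perp1_mem.2 ⟨hcp, hc1⟩))
      have h := allP_iff.1 (allP_iff.1 hLT c hc) (σ c) (mem_pts.2 (hσ c hcp).1)
      simp only [Bool.or_eq_true, Bool.not_eq_true'] at h
      rcases h with ((h | h) | h) | h
      · exact absurd h hc1
      · exfalso
        refine hc1 ?_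
        rw [← hid base_isPt.1 (hb.symm ▸ hgb), induces_orth hC ha hγ hσ hcp base_isPt.1] at h
        exact h
      · exfalso
        rw [Bool.eq_false_iff] at h
        refine h (allP_iff.2 fun t ht => ?_)
        have e := induces_orth hC ha hγ hσ hcp (hT t ht).1
        rw [(hT t ht).2] at e
        exact rec_bool e
      · exact Nat.eq_of_beq_eq_true h
    have hperp : ∀ t ∈ f1 :: perp1, isPt t = true ∧ σ t = t := by
      intro t ht
      rcases List.mem_cons.1 ht with rfl | ht
      · exact ⟨hf1, hid hf1 hgf⟩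
      · exact ⟨(perp1_mem.1 ht).1, hid (perp1_mem.1 ht).1 (hfix1 g hgb hg t ht)⟩
    have h4 : ∀ c ∈ offBase4, isPt c = true ∧ σ c = c := fun c hc =>
      ⟨allP_iff.1 offBase4_check.2 c hc, step _ _ offBase4_check.1 hperp c hc (allP_iff.1 offBase4_check.2 c hc)⟩
    have hbase : ∀ c ∈ detBase, isPt c = true ∧ σ c = c := fun c hc =>
      ⟨allP_iff.1 sigs_distinct.2 c hc, step _ _ offBase_check (fun t ht => by
        rcases List.mem_cons.1 ht with rfl | ht
        · exact hperp _ List.mem_cons_self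
        · rcases List.mem_append.1 ht with ht | ht
          · exact h4 t ht
          · exact hperp t (List.mem_cons_of_mem _ ht)) c hc (allP_iff.1 sigs_distinct.2 c hc)⟩
    refine kernel_lemma hC ha hga fun x hx => ?_
    obtain ⟨p, hp, rfl⟩ := hγ.surj x hx
    have e : σ p = p := eq_of_orth_base (mem_pts.2 (hσ p hp).1) (mem_pts.2 hp) fun c hc => by
      conv_lhs => rw [← (hbase c hc).2]
      exact induces_orth hC ha hγ hσ hp (hbase c hc).1
    have := (hσ p hp).2
    rw [e] at this
    exact (eq_mul_inv_iff_mul_eq.1 this).symm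
  obtain ⟨σ, hσ⟩ := exists_induces hC ha hγ hra
  obtain ⟨hp1, he1⟩ := hσ f1 base_isPt.2.2.2.1
  have h := allP_iff.1 offPair_check (σ f1) (mem_pts.2 hp1)
  simp only [Bool.or_eq_true, Bool.not_eq_true'] at h
  have hf0 : orth f1 e1 = false := by decide +kernel
  rcases h with ((h | h) | h) | h
  · exfalso
    rw [← induces_eq hC ha hγ hσ base_isPt.1 base_isPt.1 (by rw [hb, hrb.eq, mul_inv_cancel_right]),
      induces_orth hC ha hγ hσ base_isPt.2.2.2.1 base_isPt.1, hf0] at h
    exact Bool.false_ne_true h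
  · exfalso
    rw [Bool.eq_false_iff] at h
    refine h (allP_iff.2 fun t ht => rec_bool ?_)
    have htp := (perp1_mem.1 ht).1
    have e := induces_orth hC ha hγ hσ base_isPt.2.2.2.1 htp
    rwa [induces_eq hC ha hγ hσ htp htp (by rw [(hfix1 r hrb hR t ht).eq, mul_inv_cancel_right])] at e
  · rw [Nat.eq_of_beq_eq_true h] at he1
    rcases main r hra hrb hR (eq_mul_inv_iff_mul_eq.1 he1).symm with e | e
    · exact Or.inl e
    · exact Or.inr (Or.inl e)
  · rw [Nat.eq_of_beq_eq_true h] at he1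
    have hbb := TT95.sq hD hbE
    have hcf : Commute (b * r) (γ f1) := by
      have hm := hγ.conj e1 f1 base_isPt.1 base_isPt.2.2.2.1
      rw [hb, inv_eq hD hbE] at hm
      rw [hm.symm] at he1
      refine mul_inv_eq_iff_eq_mul.1 ?_
      rw [mul_inv_rev, inv_eq hD hbE, show b * r * γ f1 * (r⁻¹ * b) = b * (r * γ f1 * r⁻¹) * b by group, ← he1,
        show b * (b * γ f1 * b) * b = (b * b) * γ f1 * (b * b) by group, hbb, one_mul, mul_one]
    rcases main (b * r) (hab.symm.mul_left hra) ((Commute.refl b).mul_left hrb)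
        (fun x hx => (isR_commute hC ha hγ hb hx).2.1.symm.mul_left (hR x hx)) hcf with e | e
    · refine Or.inr (Or.inr (Or.inl ?_))
      rw [eq_inv_of_mul_eq_one_right e, inv_eq hD hbE]
    · refine Or.inr (Or.inr (Or.inr ?_))
      have := congrArg (b * ·) e
      simp only [← mul_assoc, hbb, one_mul] at this
      rw [this, hab.eq]

end Below

variable {G : Type*} [Group G] [Finite G] {D : Set G} {d : G} {q : ModCenter (Subgroup.closure (nb D d))}
  (hG : Cfg24 D d q) [Gen D]

include hG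

/-- The action of an element fixing a pair, two levels down. -/
theorem exists_down {a b : G} (ha : a ∈ D) (hb : b ∈ nb D a) {f : G → ModCenter (Subgroup.closure (nb D d))}
    (hf : Iso D a (locSet D d) f) {k : ModCenter (Subgroup.closure (nb D d)) →
      ModCenter (Subgroup.closure (nb (locSet D d) q))}
    (hk : Iso (locSet D d) (f b) (locSet (locSet D d) q) k) {g : G} (ga : Commute g a) (gb : Commute g b) :
    ∃ r, ∀ x ∈ common D a b, r * k (f x) * r⁻¹ = k (f (g * x * g⁻¹)) := by
  have hD := hG.lay.tt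
  haveI := gen_loc24 hG
  haveI := loc_finite hD d
  have hE := hG.loc.lay.tt
  haveI := loc_finite hE q
  have hgH : g ∈ Subgroup.closure (nb D a) := by
    rw [← centralizer24 hG ha]; exact Subgroup.mem_centralizer_singleton_iff.2 ga.eq
  obtain ⟨p, -, hpx⟩ := hf.act_up hD hE subset_rfl hgH
  have hpb : Commute p (f b) := by
    have := hpx b hb
    rw [gb.eq, mul_inv_cancel_right] at this
    exact mul_inv_eq_iff_eq_mul.1 this.symm
  have hpH : p ∈ Subgroup.closure (nb (locSet D d) (f b)) := by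
    rw [← loc_cent24 hG _ (hf.mem hb)]; exact Subgroup.mem_centralizer_singleton_iff.2 hpb.eq
  obtain ⟨r, -, hrx⟩ := hk.act_up hE hG.loc.loc.tt subset_rfl hpH
  exact ⟨r, fun x hx => by rw [hpx x hx.1, hrx _ ((hf.mem_nb_iff hb hx.1).2 hx.2)]⟩

/-- The members commuting with a quadruple are all the points over the keys. -/
theorem exists_up {a b c e : G} (hb : b ∈ nb D a) (hc : c ∈ common D a b)
    (he : e ∈ common D a b) {f : G → ModCenter (Subgroup.closure (nb D d))}
    (hf : Iso D a (locSet D d) f) {k : ModCenter (Subgroup.closure (nb D d)) →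
      ModCenter (Subgroup.closure (nb (locSet D d) q))}
    (hk : Iso (locSet D d) (f b) (locSet (locSet D d) q) k)
    {γ : ℕ → ModCenter (Subgroup.closure (nb (locSet D d) q))}
    (hγ : IsLocal (locSet (locSet D d) q) (k (f c)) γ) (hγe : γ e1 = k (f e)) {x : ℕ} (hx : isR x) :
    ∃ z ∈ perp D ({a, b, c, e} : Set G), γ x = k (f z) := by
  have hD := hG.lay.tt
  haveI := loc_finite hD d
  haveI := loc_finite hG.loc.lay.tt q
  have hC22 := hG.loc.loc
  have kc := (hf.mem_nb_iff hb hc.1).2 hc.2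
  have ke := (hf.mem_nb_iff hb he.1).2 he.2
  have kQ := hk.mem kc
  obtain ⟨s1, e1⟩ := hf.image_perp (Set.insert_subset hb (Set.insert_subset hc.1 (Set.singleton_subset_iff.2 he.1)))
  rw [Set.image_insert_eq, Set.image_pair] at e1
  obtain ⟨s2, e2⟩ := hk.image_perp (S := {f c, f e}) (Set.insert_subset kc (Set.singleton_subset_iff.2 ke))
  rw [Set.image_pair] at e2
  obtain ⟨x1, x2, x3⟩ := isR_commute hC22 kQ hγ hγe hx
  have hm : γ x ∈ perp (locSet (locSet D d) q) {k (f c), k (f e)} := by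
    refine ⟨(hγ.mem x hx.1).1, ?_, ?_⟩
    · rintro (h | h)
      · exact (hγ.mem x hx.1).2.1 h
      · exact x3 h
    · rintro w (rfl | rfl)
      · exact x1.symm
      · exact x2.symm
  rw [← e2, ← e1] at hm
  obtain ⟨_, ⟨z, hz, rfl⟩, h⟩ := hm
  exact ⟨z, hz, h.symm⟩

/-- An element exchanging the last two members of a quadruple moves some octad through it. -/
theorem no_swap_fix {a b c e : G} (ha : a ∈ D) (hb : b ∈ nb D a) (hc : c ∈ common D a b) (he : e ∈ common D a b)
    (hec : e ∈ nb D c) {g : G} (ga : Commute g a) (gb : Commute g b) (gc : g * c * g⁻¹ = e) (ge : g * e * g⁻¹ = c)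
    (hfix : ∀ z ∈ perp D ({a, b, c, e} : Set G), ∀ t ∈ perp D ({a, b, c, e} : Set G),
      (Commute t (g * z * g⁻¹) ↔ Commute t z)) : False := by
  classical
  have hD := hG.lay.tt
  haveI := gen_loc24 hG
  haveI := loc_finite hD d
  have hE := hG.loc.lay.tt
  haveI := loc_finite hE q
  haveI := gen_loc hG.loc
  have hC22 := hG.loc.loc
  obtain ⟨f, hf⟩ := hG.step.iso a ha
  obtain ⟨k, hk⟩ := hG.loc.step.iso (f b) (hf.mem hb)
  have kc := (hf.mem_nb_iff hb hc.1).2 hc.2
  have ke := (hf.mem_nb_iff hb he.1).2 he.2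
  have hec' : k (f e) ∈ nb (locSet (locSet D d) q) (k (f c)) :=
    (hk.mem_nb_iff kc ke).2 ((hf.mem_nb_iff hc.1 he.1).2 hec)
  have kQ := hk.mem kc
  obtain ⟨γ, hγ, hγe⟩ := local_one hC22 kQ hec'
  -- the element at the two lower levels
  obtain ⟨r, hr⟩ := exists_down hG ha hb hf hk ga gb
  have hrm : r ∈ pairStab (k (f c)) (k (f e)) :=
    Or.inr ⟨by rw [hr c hc, gc], by rw [hr e he, ge]⟩
  obtain ⟨Ψ, hsurj, hspec⟩ := exists_keyAction hC22 kQ hγ hγe hG.loc.core
  obtain ⟨hcore, -⟩ := exists_pairCore hC22 kQ hγ hγe hG.loc.core hsurj hspec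
  set E2 := locSet (locSet D d) q
  obtain ⟨s1, e1⟩ := hf.image_perp (Set.insert_subset hb (Set.insert_subset hc.1 (Set.singleton_subset_iff.2 he.1)))
  rw [Set.image_insert_eq, Set.image_pair] at e1
  obtain ⟨s2, e2⟩ := hk.image_perp (S := {f c, f e}) (Set.insert_subset kc (Set.singleton_subset_iff.2 ke))
  rw [Set.image_pair] at e2
  have hup := fun x (hx : isR x) => exists_up hG hb hc he hf hk hγ hγe hx
  have hab : ∀ z ∈ perp D ({a, b, c, e} : Set G), z ∈ common D a b := fun z hz =>
    ⟨⟨hz.1, fun h => hz.2.1 (by simp [h]), hz.2.2 a (by simp)⟩, hz.1, fun h => hz.2.1 (by simp [h]),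
      hz.2.2 b (by simp)⟩
  have hgz : ∀ z ∈ perp D ({a, b, c, e} : Set G), g * z * g⁻¹ ∈ perp D ({a, b, c, e} : Set G) := by
    intro z hz
    have hga : g * a * g⁻¹ = a := by rw [ga.eq, mul_inv_cancel_right]
    have hgb : g * b * g⁻¹ = b := by rw [gb.eq, mul_inv_cancel_right]
    refine ⟨TT95.conj_mem hD g hz.1, fun h => hz.2.1 ?_, fun w hw => ?_⟩
    · have inj : ∀ {x : G}, g * z * g⁻¹ = g * x * g⁻¹ → z = x := fun e => mul_left_cancel (mul_right_cancel e)
      simp only [Set.mem_insert_iff, Set.mem_singleton_iff] at h ⊢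
      rcases h with h | h | h | h
      · exact Or.inl (inj (h.trans hga.symm))
      · exact Or.inr (Or.inl (inj (h.trans hgb.symm)))
      · exact Or.inr (Or.inr (Or.inr (inj (h.trans ge.symm))))
      · exact Or.inr (Or.inr (Or.inl (inj (h.trans gc.symm))))
    · rcases hw with rfl | rfl | rfl | rfl
      · rw [← hga]; exact (Commute.conj_iff g).2 (hz.2.2 _ (by simp))
      · rw [← hgb]; exact (Commute.conj_iff g).2 (hz.2.2 _ (by simp))
      · rw [← ge]; exact (Commute.conj_iff g).2 (hz.2.2 _ (by simp))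
      · rw [← gc]; exact (Commute.conj_iff g).2 (hz.2.2 _ (by simp))
  have hco : ∀ z ∈ perp D ({a, b, c, e} : Set G), ∀ t ∈ perp D ({a, b, c, e} : Set G),
      (Commute (k (f z)) (k (f t)) ↔ Commute z t) := fun z hz t ht => by
    rw [hk.comm _ ((hf.mem_nb_iff hb (hab z hz).1).2 (hab z hz).2) _ ((hf.mem_nb_iff hb (hab t ht).1).2 (hab t ht).2),
      hf.comm z (hab z hz).1 t (hab t ht).1]
  have hker : Ψ ⟨r, hrm⟩ = 1 := by
    refine Subtype.ext (Equiv.ext fun i => ?_)
    obtain ⟨hkR, hkk⟩ := isR_key (kv_mem i)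
    obtain ⟨y, hy, ey⟩ := pair_move hC22 kQ hγ hγe hrm hkR
    obtain ⟨z, hz, ez⟩ := hup _ hkR
    have ey' : γ y = k (f (g * z * g⁻¹)) := by rw [ey, ez, hr z (hab z hz)]
    refine kv_inj ((hspec ⟨r, hrm⟩ i y hy ey).trans ?_)
    show key y = kv i
    conv_rhs => rw [← hkk]
    rw [key_eq_iff hC22 kQ hγ hγe hy hkR, ey', ez]
    intro t htD hta htb
    by_cases t1 : t = k (f c)
    · subst t1
      exact iff_of_true (ey' ▸ (isR_commute hC22 kQ hγ hγe hy).1.symm)
        (ez ▸ (isR_commute hC22 kQ hγ hγe hkR).1.symm)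
    by_cases t2 : t = k (f e)
    · subst t2
      exact iff_of_true (ey' ▸ (isR_commute hC22 kQ hγ hγe hy).2.1.symm)
        (ez ▸ (isR_commute hC22 kQ hγ hγe hkR).2.1.symm)
    have hm : t ∈ perp E2 {k (f c), k (f e)} := by
      refine ⟨htD, ?_, ?_⟩
      · rintro (h' | h')
        · exact t1 h'
        · exact t2 h'
      · rintro w (rfl | rfl)
        · exact hta.symm
        · exact htb.symm
    rw [← e2, ← e1] at hm
    obtain ⟨_, ⟨s, hs, rfl⟩, rfl⟩ := hm
    rw [hco s hs _ (hgz z hz), hco s hs z hz]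
    exact hfix z hz s hs
  have h1 := (hcore.le_fix r ⟨⟨r, hrm⟩, hker, rfl⟩).1
  rw [hr c hc, gc] at h1
  exact hec'.2.1 h1

/-- What centralises a quadruple and all members commuting with it is a product of its members. -/
theorem perp_kernel {a b c e : G} (ha : a ∈ D) (hb : b ∈ nb D a) (hc : c ∈ common D a b) (he : e ∈ common D a b)
    (hec : e ∈ nb D c) {g : G} (ga : Commute g a) (gb : Commute g b) (gc : Commute g c) (ge : Commute g e)
    (hg : ∀ z ∈ perp D ({a, b, c, e} : Set G), Commute g z) :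
    ∃ z ∈ ({1, c, e, c * e} : Set G), ∃ w ∈ ({1, a, b, a * b} : Set G), g = w * z := by
  have hD := hG.lay.tt
  haveI := gen_loc24 hG
  haveI := loc_finite hD d
  have hE := hG.loc.lay.tt
  haveI := loc_finite hE q
  have hC22 := hG.loc.loc
  obtain ⟨f, hf⟩ := hG.step.iso a ha
  obtain ⟨k, hk⟩ := hG.loc.step.iso (f b) (hf.mem hb)
  have kc := (hf.mem_nb_iff hb hc.1).2 hc.2
  have ke := (hf.mem_nb_iff hb he.1).2 he.2
  have hec' : k (f e) ∈ nb (locSet (locSet D d) q) (k (f c)) :=
    (hk.mem_nb_iff kc ke).2 ((hf.mem_nb_iff hc.1 he.1).2 hec)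
  have kQ := hk.mem kc
  obtain ⟨γ, hγ, hγe⟩ := local_one hC22 kQ hec'
  have hfix : ∀ (v : G) (r : ModCenter (Subgroup.closure (nb (locSet D d) q))),
      (∀ x ∈ common D a b, r * k (f x) * r⁻¹ = k (f (v * x * v⁻¹))) → ∀ x ∈ common D a b, Commute v x →
        Commute r (k (f x)) := fun v r hr x hx h => mul_inv_eq_iff_eq_mul.1 (by
    rw [hr x hx, h.eq, mul_inv_cancel_right])
  have hab : ∀ z ∈ perp D ({a, b, c, e} : Set G), z ∈ common D a b := fun z hz =>
    ⟨⟨hz.1, fun h => hz.2.1 (by simp [h]), hz.2.2 a (by simp)⟩, hz.1, fun h => hz.2.1 (by simp [h]),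
      hz.2.2 b (by simp)⟩
  have key : ∀ v : G, Commute v a → Commute v b → Commute v c → Commute v e →
      (∀ z ∈ perp D ({a, b, c, e} : Set G), Commute v z) → ∃ r, r ∈ ({1, k (f c), k (f e), k (f c) * k (f e)} : Set _) ∧
        ∀ x ∈ common D a b, r * k (f x) * r⁻¹ = k (f (v * x * v⁻¹)) := by
    intro v va vb vc ve vz
    obtain ⟨r, hr⟩ := exists_down hG ha hb hf hk va vb
    refine ⟨r, ?_, hr⟩
    simp only [Set.mem_insert_iff, Set.mem_singleton_iff]
    refine pair_perp_kernel hC22 kQ hγ hγe (hfix v r hr c hc vc) (hfix v r hr e he ve) fun x hx => ?_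
    obtain ⟨z, hz, ez⟩ := exists_up hG hb hc he hf hk hγ hγe hx
    exact ez ▸ hfix v r hr z (hab z hz) (vz z hz)
  obtain ⟨r, hr0, hr⟩ := key g ga gb gc ge hg
  have cc : k (f c) * k (f c) = 1 := TT95.sq hC22.tt kQ
  have ee : k (f e) * k (f e) = 1 := TT95.sq hC22.tt hec'.1
  have hconj : ∀ y ∈ common D a b, ∀ x ∈ common D a b,
      k (f y) * k (f x) * (k (f y))⁻¹ = k (f (y * x * y⁻¹)) := fun y hy x hx => by
    rw [inv_eq hD hy.1.1, hf.conj y hy.1 x hx.1,
      hk.conj _ ((hf.mem_nb_iff hb hy.1).2 hy.2) _ ((hf.mem_nb_iff hb hx.1).2 hx.2),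
      inv_eq hC22.tt (hk.mem ((hf.mem_nb_iff hb hy.1).2 hy.2))]
  have hcm : ∀ z, z = c ∨ z = e → ∀ x ∈ common D a b, z * x * z⁻¹ ∈ common D a b := by
    intro z hz x hx
    have hzm : z ∈ common D a b := by rcases hz with rfl | rfl <;> assumption
    refine ⟨conj_mem_nb hD (Subgroup.subset_closure hzm.1) hx.1, conj_mem_nb hD (Subgroup.subset_closure hzm.2) hx.2⟩
  obtain ⟨z, hz, hzr⟩ : ∃ z ∈ ({1, c, e, c * e} : Set G),
      ∀ x ∈ common D a b, r * k (f x) * r⁻¹ = k (f (z * x * z⁻¹)) := by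
    simp only [Set.mem_insert_iff, Set.mem_singleton_iff] at hr0
    rcases hr0 with rfl | rfl | rfl | rfl
    · exact ⟨1, by simp, fun x _ => by simp⟩
    · exact ⟨c, by simp, fun x hx => hconj c hc x hx⟩
    · exact ⟨e, by simp, fun x hx => hconj e he x hx⟩
    · refine ⟨c * e, by simp, fun x hx => ?_⟩
      rw [show c * e * x * (c * e)⁻¹ = c * (e * x * e⁻¹) * c⁻¹ by group, ← hconj c hc _ (hcm e (Or.inr rfl) x hx),
        ← hconj e he x hx]
      group
  refine ⟨z, hz, g * z⁻¹, ?_, by group⟩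
  have hza : ∀ w, w = a ∨ w = b → Commute z w := by
    have h1 : ∀ w, w = a ∨ w = b → Commute c w ∧ Commute e w := by
      rintro w (rfl | rfl)
      exacts [⟨hc.1.2.2.symm, he.1.2.2.symm⟩, ⟨hc.2.2.2.symm, he.2.2.2.symm⟩]
    intro w hw
    simp only [Set.mem_insert_iff, Set.mem_singleton_iff] at hz
    rcases hz with rfl | rfl | rfl | rfl
    exacts [Commute.one_left _, (h1 w hw).1, (h1 w hw).2, (h1 w hw).1.mul_left (h1 w hw).2]
  have hall : ∀ x ∈ common D a b, Commute (g * z⁻¹) x := by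
    intro x hx
    have hconjc : ∀ v : G, Commute v a → Commute v b → ∀ x ∈ common D a b, v * x * v⁻¹ ∈ common D a b :=
      fun v va vb x hx => by
        have ea : v * a * v⁻¹ = a := by rw [va.eq, mul_inv_cancel_right]
        have eb : v * b * v⁻¹ = b := by rw [vb.eq, mul_inv_cancel_right]
        exact ⟨ea ▸ (nb_conj hD v a x).2 hx.1, eb ▸ (nb_conj hD v b x).2 hx.2⟩
    obtain ⟨w, hw, rfl⟩ : ∃ w ∈ common D a b, z * w * z⁻¹ = x :=
      ⟨z⁻¹ * x * z⁻¹⁻¹, hconjc z⁻¹ (hza a (Or.inl rfl)).inv_left (hza b (Or.inr rfl)).inv_left x hx, by group⟩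
    refine mul_inv_eq_iff_eq_mul.1 ?_
    have y1 := hconjc g ga gb w hw
    have y2 := hconjc z (hza a (Or.inl rfl)) (hza b (Or.inr rfl)) w hw
    have e : g * w * g⁻¹ = z * w * z⁻¹ := hf.inj y1.1 y2.1
      (hk.inj ((hf.mem_nb_iff hb y1.1).2 y1.2) ((hf.mem_nb_iff hb y2.1).2 y2.2) ((hr w hw).symm.trans (hzr w hw)))
    conv_rhs => rw [← e]
    group
  have hgm : g * z⁻¹ ∈ Subgroup.closure (common D a b) := by
    rw [← centralizer_pair24 hG ha hb]
    refine Subgroup.mem_centralizer_iff.2 ?_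
    rintro w (rfl | rfl)
    exacts [(ga.mul_left (hza _ (Or.inl rfl)).inv_left).eq.symm, (gb.mul_left (hza _ (Or.inr rfl)).inv_left).eq.symm]
  obtain ⟨χ, hs, hker⟩ := exists_pairHom hG ha hb
  refine (hker ⟨_, hgm⟩).1 ?_
  have hcen : (⟨_, hgm⟩ : Subgroup.closure (common D a b)) ∈ Subgroup.center _ := by
    refine Subgroup.mem_center_iff.2 fun w => Subtype.ext ?_
    have hle : Subgroup.closure (common D a b) ≤ Subgroup.centralizer ({g * z⁻¹} : Set G) :=
      (Subgroup.closure_le _).2 fun x hx => Subgroup.mem_centralizer_singleton_iff.2 (hall x hx).eq.symm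
    exact Subgroup.mem_centralizer_singleton_iff.1 (hle w.2)
  have : χ ⟨_, hgm⟩ ∈ Subgroup.center (ModCenter (Subgroup.closure (nb (locSet D d) q))) :=
    Subgroup.mem_center_iff.2 fun p => by
      obtain ⟨w, rfl⟩ := hs p
      rw [← map_mul, ← map_mul, Subgroup.mem_center_iff.1 hcen w]
  rwa [hG.loc.loc.center, Subgroup.mem_bot] at this

end Cfsg.Agent.Four95
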