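import Cfsg.Agent.Four95.Action
import Cfsg.Agent.Four95.SwapFix
import Cfsg.Agent.Lib.LargeExtraspecial.Sections

/-!
Type M(24): the kernel of the action on the model: an extraspecial group of order 2^13 with index three.
-/

set_option autoImplicit false
set_option linter.unusedSectionVars false
set_option linter.style.haveILetI false

namespace Cfsg.Agent.Four95

open Cfsg.Agent.TT95 Cfsg.Agent.TT95N Cfsg.Agent.TT95N.Four
open scoped commutatorElement

section General

variable {G : Type*} [Group G] {S : Set G} {u : G}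

/-- Generators commuting up to a central involution give a group that does. -/
theorem comm_closure (hu : u * u = 1) (huc : ∀ x ∈ Subgroup.closure S, Commute u x)
    (hS : ∀ x ∈ S, ∀ y ∈ S, x * y = y * x ∨ x * y = u * (y * x)) :
    ∀ x ∈ Subgroup.closure S, ∀ y ∈ Subgroup.closure S, x * y = y * x ∨ x * y = u * (y * x) := by
  have flip : ∀ {x y : G}, (x * y = y * x ∨ x * y = u * (y * x)) → (y * x = x * y ∨ y * x = u * (x * y)) := by
    rintro x y (h | h)
    · exact Or.inl h.symm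
    · right; rw [h, ← mul_assoc, hu, one_mul]
  have key : ∀ y ∈ Subgroup.closure S, (∀ s ∈ S, s * y = y * s ∨ s * y = u * (y * s)) →
      ∀ x ∈ Subgroup.closure S, x * y = y * x ∨ x * y = u * (y * x) := by
    intro y hy hs x hx
    induction hx using Subgroup.closure_induction with
    | mem x hx => exact hs x hx
    | one => simp
    | mul x z hx hz ex ez =>
      have hux := (huc x hx).eq
      rcases ex with ex | ex <;> rcases ez with ez | ez
      · left; rw [mul_assoc, ez, ← mul_assoc, ex, mul_assoc]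
      · right; rw [mul_assoc, ez, ← mul_assoc, ← hux, mul_assoc, ← mul_assoc x, ex, mul_assoc]
      · right; rw [mul_assoc, ez, ← mul_assoc, ex, mul_assoc, mul_assoc]
      · left; rw [mul_assoc, ez, ← mul_assoc, ← hux, mul_assoc, ← mul_assoc x, ex, ← mul_assoc, ← mul_assoc, hu,
          one_mul, mul_assoc]
    | inv x hx ex =>
      have hux := (huc x hx).inv_right.eq
      rcases ex with ex | ex
      · left
        calc x⁻¹ * y = x⁻¹ * (y * x) * x⁻¹ := by group
          _ = x⁻¹ * (x * y) * x⁻¹ := by rw [ex]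
          _ = y * x⁻¹ := by group
      · right
        calc x⁻¹ * y = x⁻¹ * (u * (u * (y * x))) * x⁻¹ := by rw [← mul_assoc u u, hu, one_mul]; group
          _ = x⁻¹ * (u * (x * y)) * x⁻¹ := by rw [← ex]
          _ = (x⁻¹ * u) * x * y * x⁻¹ := by group
          _ = u * (y * x⁻¹) := by rw [← hux]; group
  intro x hx y hy
  exact key y hy (fun s hs => flip (key s (Subgroup.subset_closure hs) (fun r hr => hS r hr s hs) y hy)) x hx

/-- In such a group generated by involutions the squares are central. -/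
theorem sq_closure (hu : u * u = 1) (huc : ∀ x ∈ Subgroup.closure S, Commute u x)
    (hS : ∀ x ∈ S, ∀ y ∈ S, x * y = y * x ∨ x * y = u * (y * x)) (h2 : ∀ x ∈ S, x * x = 1) :
    ∀ x ∈ Subgroup.closure S, x * x = 1 ∨ x * x = u := by
  intro x hx
  induction hx using Subgroup.closure_induction with
  | mem x hx => exact Or.inl (h2 x hx)
  | one => simp
  | mul x z hx hz ex ez =>
    have hzx := comm_closure hu huc hS z hz x hx
    have e : x * z * (x * z) = x * (z * x) * z := by group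
    have hux := (huc x hx).eq
    rcases hzx with h | h <;> rcases ex with ex | ex <;> rcases ez with ez | ez <;> rw [e, h]
    all_goals first
      | (left; rw [show x * (x * z) * z = (x * x) * (z * z) by group, ex, ez]; simp [hu]; done)
      | (right; rw [show x * (x * z) * z = (x * x) * (z * z) by group, ex, ez]; simp [hu]; done)
      | (left; rw [show x * (u * (x * z)) * z = (x * u) * x * (z * z) by group, ← hux, mul_assoc u, ex, ez];
         simp [hu]; done)
      | (right; rw [show x * (u * (x * z)) * z = (x * u) * x * (z * z) by group, ← hux, mul_assoc u, ex, ez];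
         simp [hu]; done)
  | inv x hx ex =>
    rcases ex with ex | ex
    · left; rw [← mul_inv_rev, ex, inv_one]
    · right; rw [← mul_inv_rev, ex, inv_eq_of_mul_eq_one_right hu]

end General

variable {G : Type*} [Group G] [DecidableEq G] [Finite G] {D : Set G} {u : G}

/-- The products of two members of one quadruple. -/
def pairGen (D : Set G) (u : G) : Set G := {x | ∃ Y, Dec D u Y ∧ ∃ a ∈ Y, ∃ b ∈ Y, x = a * b}

/-- The group generated by them. -/
def QG (D : Set G) (u : G) : Subgroup G := Subgroup.closure (pairGen D u)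

/-- An element preserving every class of products inside a quadruple. -/
def GoodOn (u : G) (g : G) (Y : Finset G) : Prop :=
  ∀ y ∈ Y, ∀ y' ∈ Y, g * (y * y') * g⁻¹ = y * y' ∨ g * (y * y') * g⁻¹ = u * (y * y')

theorem pairGen_conj (hD : TTSet D) {g : G} (hg : Commute g u) {x : G} (hx : x ∈ pairGen D u) :
    g * x * g⁻¹ ∈ pairGen D u := by
  obtain ⟨Y, hY, a, ha, b, hb, rfl⟩ := hx
  exact ⟨conjS g Y, dec_conjS hD hY hg, g * a * g⁻¹, mem_conjS.2 ha, g * b * g⁻¹, mem_conjS.2 hb, by group⟩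

variable {d : G} {q : ModCenter (Subgroup.closure (nb D d))} (hG : Cfg24 D d q) [Gen D]

include hG

theorem pairGen_sq {x : G} (hx : x ∈ pairGen D u) : x * x = 1 := by
  obtain ⟨Y, hY, a, ha, b, hb, rfl⟩ := hx
  rw [(hY.comm hb ha).mul_mul_mul_comm, TT95.sq hG.lay.tt (hY.mem ha), TT95.sq hG.lay.tt (hY.mem hb), one_mul]

theorem QG_le : QG D u ≤ Subgroup.centralizer ({u} : Set G) := by
  refine (Subgroup.closure_le _).2 ?_
  rintro _ ⟨Y, hY, a, ha, b, hb, rfl⟩
  exact mul_mem (mem_CU hG hY ha) (mem_CU hG hY hb)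

theorem u_mem_QG {W : Finset G} (hW : Dec D u W) : u ∈ QG D u := by
  obtain ⟨a, ha⟩ := dec_nonempty hG hW
  obtain ⟨b, c, e, -, hmem, hu⟩ := hW.split ha
  have h : a * b * (c * e) ∈ QG D u := mul_mem
    (Subgroup.subset_closure ⟨W, hW, a, ha, b, (hmem b).2 (by simp), rfl⟩)
    (Subgroup.subset_closure ⟨W, hW, c, (hmem c).2 (by simp), e, (hmem e).2 (by simp), rfl⟩)
  rwa [show a * b * (c * e) = u by rw [← hu]; group] at h

/-- A product of two members of a quadruple commutes with no member far from it. -/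
theorem move_ne {W Y : Finset G} (hW : Dec D u W) (hY : Dec D u Y) (hne : W ≠ Y) (hWY : ¬ AdjT W Y) {a b y : G}
    (ha : a ∈ W) (hb : b ∈ W) (hab : a ≠ b) (hy : y ∈ Y) : ¬ Commute (a * b) y := by
  have hD := hG.lay.tt
  intro h
  have hn := not_commute hG hW hY hne hWY ha hy
  have haD := hW.mem ha
  have hyD := hY.mem hy
  have hcab := hW.comm ha hb
  rcases pair_unique hD hG.lay.tf haD (hW.mem hb) (TT95.conj_mem hD y haD) (TT95.conj_mem hD y (hW.mem hb)) hab hcab
      ((Commute.conj_iff y).2 hcab)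
      (by rw [show y * a * y⁻¹ * (y * b * y⁻¹) = y * (a * b) * y⁻¹ by group, ← h.eq, mul_inv_cancel_right]) with
    ⟨e, -⟩ | ⟨e, -⟩
  · exact hn (mul_inv_eq_iff_eq_mul.1 e).symm
  · have hc : Commute a (y * a * y⁻¹) := e ▸ hcab
    rw [inv_eq hD hyD, braid hD hyD haD (fun h' => hn h'.symm)] at hc
    have haa := TT95.sq hD haD
    have h' := hc.eq
    rw [show a * y * a * a = a * y * (a * a) by group, show a * (a * y * a) = (a * a) * (y * a) by group, haa,
      mul_one, one_mul] at h'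
    exact hn h'.symm

variable {T : Fin 126 → Finset G} {φ : Subgroup.centralizer ({u} : Set G) →* Equiv.Perm (Fin 126)}
  (hT : IsModel D u T) (hφ : IsAct T φ)

include hT hφ

theorem mem_QG_ker {g : G} (hg : g ∈ QG D u) : φ ⟨g, QG_le hG hg⟩ = 1 := by
  have hle : QG D u ≤ φ.ker.map (Subgroup.centralizer ({u} : Set G)).subtype := by
    refine (Subgroup.closure_le _).2 ?_
    rintro _ ⟨Y, hY, a, ha, b, hb, rfl⟩
    obtain ⟨p, rfl⟩ := hT.surj Y hY
    refine ⟨⟨a, mem_CU hG hY ha⟩ * ⟨b, mem_CU hG hY hb⟩, ?_, rfl⟩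
    rw [SetLike.mem_coe, MonoidHom.mem_ker, map_mul, act_member hG hT hφ ha, act_member hG hT hφ hb, sigma_sq]
  obtain ⟨x, hx, e⟩ := hle hg
  rw [show (⟨g, QG_le hG hg⟩ : Subgroup.centralizer ({u} : Set G)) = x from Subtype.ext e.symm]
  exact hx

theorem ker_fix {g : Subgroup.centralizer ({u} : Set G)} (hg : φ g = 1) {Y : Finset G} (hY : Dec D u Y) :
    conjS (g : G) Y = Y := by
  obtain ⟨p, rfl⟩ := hT.surj Y hY
  rw [← hφ.spec, hg, Equiv.Perm.one_apply]

theorem pair_fix {W Y : Finset G} (hW : Dec D u W) (hY : Dec D u Y) {a b y : G} (ha : a ∈ W) (hb : b ∈ W)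
    (hy : y ∈ Y) : a * b * y * (a * b)⁻¹ ∈ Y := by
  have hm : a * b ∈ QG D u := Subgroup.subset_closure ⟨W, hW, a, ha, b, hb, rfl⟩
  have h := mem_conjS (g := a * b).2 hy
  rwa [ker_fix hG hT hφ (g := ⟨a * b, QG_le hG hm⟩) (mem_QG_ker hG hT hφ hm) hY] at h

/-- Conjugation by a product in one quadruple multiplies a far product by one or `u`. -/
theorem pair_comm {W Y : Finset G} (hW : Dec D u W) (hY : Dec D u Y) (hne : W ≠ Y) (hWY : ¬ AdjT W Y) {a b y y' : G}
    (ha : a ∈ W) (hb : b ∈ W) (hab : a ≠ b) (hy : y ∈ Y) (hy' : y' ∈ Y) (hyy : y ≠ y') :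
    (y' = a * b * y * (a * b)⁻¹ ∧ a * b * (y * y') * (a * b)⁻¹ = y * y') ∨
      (y' ≠ a * b * y * (a * b)⁻¹ ∧ a * b * (y * y') * (a * b)⁻¹ = u * (y * y')) := by
  have hk : a * b * (a * b) = 1 := pairGen_sq hG ⟨W, hW, a, ha, b, hb, rfl⟩
  set k := a * b with hkdef
  have hki : k⁻¹ = k := inv_eq_of_mul_eq_one_right hk
  have hkk : ∀ x, k * (k * x * k⁻¹) * k⁻¹ = x := fun x => by
    rw [show k * (k * x * k⁻¹) * k⁻¹ = (k * k) * x * (k * k)⁻¹ by group, hk]; simp
  have hs := pair_fix hG hT hφ hW hY ha hb hy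
  have hs' := pair_fix hG hT hφ hW hY ha hb hy'
  rw [← hkdef] at hs hs'
  have hexp : k * (y * y') * k⁻¹ = k * y * k⁻¹ * (k * y' * k⁻¹) := by group
  by_cases e : y' = k * y * k⁻¹
  · refine Or.inl ⟨e, ?_⟩
    rw [hexp, ← e, show k * y' * k⁻¹ = y by rw [e, hkk]]
    exact (hY.comm hy' hy).eq
  refine Or.inr ⟨e, ?_⟩
  have hne' : ∀ {x}, x ∈ Y → k * x * k⁻¹ ≠ x := fun {x} hx h =>
    move_ne hG hW hY hne hWY ha hb hab hx (mul_inv_eq_iff_eq_mul.1 h)
  have hinj : k * y * k⁻¹ ≠ k * y' * k⁻¹ := fun h => hyy (mul_left_cancel (mul_right_cancel h))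
  have h1 : k * y' * k⁻¹ ≠ y := fun h => e (by rw [← h, hkk])
  have hn : [k * y * k⁻¹, k * y' * k⁻¹, y, y'].Nodup := by
    simp [hinj, hne' hy, hne' hy', h1, Ne.symm e, hyy]
  have hset : [k * y * k⁻¹, k * y' * k⁻¹, y, y'].toFinset = Y := by
    refine Finset.eq_of_subset_of_card_le (fun x hx => ?_) (by rw [hY.card, List.toFinset_card_of_nodup hn]; rfl)
    simp only [List.mem_toFinset, List.mem_cons, List.not_mem_nil, or_false] at hx
    rcases hx with rfl | rfl | rfl | rfl <;> assumption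
  have h := hY.2 _ _ _ _ hn hset
  have hz : y * y' * (y * y') = 1 := pairGen_sq hG ⟨Y, hY, y, hy, y', hy', rfl⟩
  rw [hexp, ← h, show k * y * k⁻¹ * (k * y' * k⁻¹) * y * y' * (y * y') =
    k * y * k⁻¹ * (k * y' * k⁻¹) * (y * y' * (y * y')) by group, hz, mul_one]

theorem pairGen_comm {x z : G} (hx : x ∈ pairGen D u) (hz : z ∈ pairGen D u) : x * z = z * x ∨ x * z = u * (z * x) := by
  obtain ⟨W, hW, a, ha, b, hb, rfl⟩ := hx
  obtain ⟨Y, hY, y, hy, y', hy', rfl⟩ := hz
  have hD := hG.lay.tt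
  by_cases hab : a = b
  · subst hab; rw [TT95.sq hD (hW.mem ha)]; simp
  by_cases hyy : y = y'
  · subst hyy; rw [TT95.sq hD (hY.mem hy)]; simp
  by_cases hWY : W = Y ∨ AdjT W Y
  · left
    have hc : ∀ w ∈ W, ∀ v ∈ Y, Commute w v := fun w hw v hv => by
      rcases hWY with e | e
      · subst e; exact hW.comm hw hv
      · exact e.2 w hw v hv
    exact (((hc a ha y hy).mul_right (hc a ha y' hy')).mul_left ((hc b hb y hy).mul_right (hc b hb y' hy'))).eq
  push Not at hWY
  rcases pair_comm hG hT hφ hW hY hWY.1 hWY.2 ha hb hab hy hy' hyy with ⟨-, e⟩ | ⟨-, e⟩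
  · exact Or.inl (mul_inv_eq_iff_eq_mul.1 e)
  · exact Or.inr (by rw [mul_inv_eq_iff_eq_mul.1 e, mul_assoc])

theorem QG_facts (hu : IsProd D 4 u) :
    (∀ x ∈ QG D u, Commute u x) ∧ (∀ x ∈ QG D u, ∀ y ∈ QG D u, x * y = y * x ∨ x * y = u * (y * x)) ∧
      ∀ x ∈ QG D u, x * x = 1 ∨ x * x = u := by
  have huc : ∀ x ∈ Subgroup.closure (pairGen D u), Commute u x := fun x hx =>
    (commute_of_mem_CU (QG_le hG hx)).symm
  have h2 := isProd_sq24 hG hu
  exact ⟨huc, comm_closure h2 huc fun x hx y hy => pairGen_comm hG hT hφ hx hy,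
    sq_closure h2 huc (fun x hx y hy => pairGen_comm hG hT hφ hx hy) fun x hx => pairGen_sq hG hx⟩

theorem far_index (p r : Fin 126) : ∃ s, p ≠ s ∧ r ≠ s ∧ adj6 p s = false ∧ adj6 r s = false := by
  have h := List.all_eq_true.1 (List.all_eq_true.1 join_check p (List.mem_range.2 p.2)) r (List.mem_range.2 r.2)
  simp only [List.any_eq_true, List.mem_range, Bool.and_eq_true, bne_iff_ne, Bool.not_eq_true'] at h
  obtain ⟨s, hs, ⟨⟨h1, h2⟩, h3⟩, h4⟩ := h
  exact ⟨⟨s, hs⟩, fun e => h1 (congrArg Fin.val e), fun e => h2 (congrArg Fin.val e), h3, h4⟩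

theorem far_pair {p s : Fin 126} (hps : p ≠ s) (h : adj6 p s = false) : T p ≠ T s ∧ ¬ AdjT (T p) (T s) :=
  ⟨fun e => hps (hT.inj e), fun e => by rw [(hT.adj p s).1 e] at h; exact Bool.false_ne_true h.symm⟩

/-- A far quadruple meeting each one. -/
theorem exists_far_dec {W : Finset G} (hW : Dec D u W) : ∃ Y, Dec D u Y ∧ W ≠ Y ∧ ¬ AdjT W Y := by
  obtain ⟨p, rfl⟩ := hT.surj W hW
  obtain ⟨s, h1, -, h3, -⟩ := far_index hG hT hφ p p
  exact ⟨T s, hT.dec s, far_pair hG hT hφ h1 h3⟩

/-- What centralises the group is trivial or `u`. -/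
theorem QG_centralizer {g : G} (hu : IsProd D 4 u) (hg : ∀ x ∈ QG D u, Commute g x) : g = 1 ∨ g = u := by
  have hD := hG.lay.tt
  obtain ⟨p0, -⟩ : ∃ p : Fin 126, True := ⟨0, trivial⟩
  have hW := hT.dec p0
  have hgu : Commute g u := hg u (u_mem_QG hG hW)
  have hfix : ∀ {Y : Finset G}, Dec D u Y → ∀ {y}, y ∈ Y → Commute g y := by
    intro Y hY a ha
    obtain ⟨b, c, e, hn, hmem, -⟩ := hY.split ha
    simp only [List.nodup_cons, List.mem_cons, List.not_mem_nil, or_false, not_or] at hn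
    have hb := (hmem b).2 (by simp)
    have hc := (hmem c).2 (by simp)
    have two : ∀ {x}, x ∈ Y → a ≠ x → g * a * g⁻¹ = a ∨ g * a * g⁻¹ = x := by
      intro x hx hax
      rcases pair_unique hD hG.lay.tf (hY.mem ha) (hY.mem hx) (TT95.conj_mem hD g (hY.mem ha))
          (TT95.conj_mem hD g (hY.mem hx)) hax (hY.comm ha hx) ((Commute.conj_iff g).2 (hY.comm ha hx))
          (by rw [show g * a * g⁻¹ * (g * x * g⁻¹) = g * (a * x) * g⁻¹ by group,
            (hg _ (Subgroup.subset_closure ⟨Y, hY, a, ha, x, hx, rfl⟩)).eq, mul_inv_cancel_right]) with h | h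
      exacts [Or.inl h.1, Or.inr h.1]
    rcases two hb hn.1.1 with h | h
    · exact mul_inv_eq_iff_eq_mul.1 h
    · rcases two hc hn.1.2.1 with h' | h'
      · exact mul_inv_eq_iff_eq_mul.1 h'
      · exact absurd (h.symm.trans h') hn.2.1.1
  obtain ⟨a, ha⟩ := dec_nonempty hG hW
  obtain ⟨b, c, e, hn, hmem, hprod⟩ := hW.split ha
  simp only [List.nodup_cons, List.mem_cons, List.not_mem_nil, or_false, not_or] at hn
  obtain ⟨⟨nab, nac, nae⟩, ⟨nbc, nbe⟩, nce, -⟩ := hn
  have hb := (hmem b).2 (by simp)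
  have hc := (hmem c).2 (by simp)
  have he := (hmem e).2 (by simp)
  have mk : ∀ {x y}, x ∈ T p0 → y ∈ T p0 → x ≠ y → y ∈ nb D x := fun hx hy h => ⟨hW.mem hy, h.symm, hW.comm hx hy⟩
  obtain ⟨z, hz, w, hw, rfl⟩ := perp_kernel hG (hW.mem ha) (mk ha hb nab) ⟨mk ha hc nac, mk hb hc nbc⟩
    ⟨mk ha he nae, mk hb he nbe⟩ (mk hc he nce) (hfix hW ha) (hfix hW hb) (hfix hW hc) (hfix hW he)
    (fun v hv => by
      have hvu : Commute v u := hW.commute fun x hx => by
        rcases (hmem x).1 hx with rfl | rfl | rfl | rfl <;> exact (hv.2.2 _ (by simp)).symm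
      obtain ⟨Y, hY, hvY⟩ := exists_dec hG hu (a := v) ⟨hv.1, hvu.symm⟩
      exact hfix hY hvY)
  obtain ⟨Y, hY, hne, hWY⟩ := exists_far_dec hG hT hφ hW
  obtain ⟨y, hy⟩ := dec_nonempty hG hY
  have h0 : Commute (w * z) y := hfix hY hy
  have one : ∀ {x}, x ∈ T p0 → ¬ Commute x y := fun hx => not_commute hG hW hY hne hWY hx hy
  have two : ∀ {x x'}, x ∈ T p0 → x' ∈ T p0 → x ≠ x' → ¬ Commute (x * x') y := fun hx hx' h =>
    move_ne hG hW hY hne hWY hx hx' h hy
  have three : ∀ {x x' x''}, x ∈ T p0 → x' ∈ T p0 → x'' ∈ T p0 → x ≠ x' → x ≠ x'' → x' ≠ x'' →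
      ¬ Commute (x * x' * x'') y := fun {x x' x''} hx hx' hx'' h1 h2 h3 hco =>
    one hx ((ThreeTransp.centralize_three hD.1 (hW.mem hx) (hW.mem hx') (hW.mem hx'') (hY.mem hy) h1 h2 h3
      (hW.comm hx hx') (hW.comm hx hx'') (hW.comm hx' hx'')).1 hco.symm).1.symm
  simp only [Set.mem_insert_iff, Set.mem_singleton_iff] at hz hw
  rcases hz with rfl | rfl | rfl | rfl <;> rcases hw with rfl | rfl | rfl | rfl <;>
    (try simp only [one_mul, mul_one, ← mul_assoc] at h0 ⊢)
  · exact Or.inl trivial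
  · exact absurd h0 (one ha)
  · exact absurd h0 (one hb)
  · exact absurd h0 (two ha hb nab)
  · exact absurd h0 (one hc)
  · exact absurd h0 (two ha hc nac)
  · exact absurd h0 (two hb hc nbc)
  · exact absurd h0 (three ha hb hc nab nac nbc)
  · exact absurd h0 (one he)
  · exact absurd h0 (two ha he nae)
  · exact absurd h0 (two hb he nbe)
  · exact absurd h0 (three ha hb he nab nae nbe)
  · exact absurd h0 (two hc he nce)
  · exact absurd h0 (three ha hc he nac nae nce)
  · exact absurd h0 (three hb hc he nbc nbe nce)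
  · exact Or.inr (by rw [← hprod]; group)

/-- The group is extraspecial and contains its centraliser. -/
theorem QG_setup (hu : IsProd D 4 u) : LargeExtraspecial.Setup (QG D u) u := by
  have hD := hG.lay.tt
  obtain ⟨huc, hcomm, hsq⟩ := QG_facts hG hT hφ hu
  have h2 := isProd_sq24 hG hu
  have h1 := four_ne_one hG hu
  have huQ := u_mem_QG hG (hT.dec 0)
  have hz : ∀ w : QG D u, ((w : G) = 1 ∨ (w : G) = u) → w ∈ Subgroup.zpowers (⟨u, huQ⟩ : QG D u) := by
    rintro w (h | h)
    · rw [show w = 1 from Subtype.ext h]; exact one_mem _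
    · rw [show w = ⟨u, huQ⟩ from Subtype.ext h]; exact Subgroup.mem_zpowers _
  have hP : IsPGroup 2 (QG D u) := fun x => ⟨2, Subtype.ext (by
    rw [Subgroup.coe_pow, Subgroup.coe_one, show (2 : ℕ) ^ 2 = 2 * 2 from rfl, pow_mul, pow_two, pow_two]
    rcases hsq x x.2 with h | h <;> rw [h]
    · rw [one_mul]
    · exact h2)⟩
  have hE : Cfsg.IsExtraspecial 2 (QG D u) := by
    refine LargeExtraspecial.isExtraspecial_of (c := ⟨u, huQ⟩) hP (fun e => h1 (congrArg Subtype.val e))
      (Subtype.ext h2) (fun x => Subtype.ext (huc x x.2).eq)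
      (fun x hx => hz x (QG_centralizer hG hT hφ hu fun y hy => congrArg Subtype.val (hx ⟨y, hy⟩)))
      (fun x y => hz _ ?_) (fun x => hz _ (by simpa using hsq x x.2)) ?_
    · simp only [commutatorElement_def, Subgroup.coe_mul, Subgroup.coe_inv]
      rcases hcomm x x.2 y y.2 with h | h
      · left; rw [h]; group
      · right; rw [h]; group
    · obtain ⟨p0, hp0⟩ : ∃ p : Fin 126, p = 0 := ⟨0, rfl⟩
      have hW := hT.dec p0
      obtain ⟨Y, hY, hne, hWY⟩ := exists_far_dec hG hT hφ hW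
      obtain ⟨a, ha⟩ := dec_nonempty hG hW
      obtain ⟨b, hb, hab⟩ : ∃ b ∈ T p0, a ≠ b := by
        obtain ⟨b, hb⟩ := Finset.card_pos.1 (show 0 < ((T p0).erase a).card by
          rw [Finset.card_erase_of_mem ha, hW.card]; norm_num)
        exact ⟨b, Finset.mem_of_mem_erase hb, (Finset.ne_of_mem_erase hb).symm⟩
      obtain ⟨y, hy⟩ := dec_nonempty hG hY
      have hky := pair_fix hG hT hφ hW hY ha hb hy
      obtain ⟨y', hy', hn1, hn2⟩ : ∃ y' ∈ Y, y' ≠ y ∧ y' ≠ a * b * y * (a * b)⁻¹ := by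
        obtain ⟨y', h'⟩ := Finset.card_pos.1 (show 0 < (Y \ {y, a * b * y * (a * b)⁻¹}).card by
          have h3 := Finset.le_card_sdiff {y, a * b * y * (a * b)⁻¹} Y
          have h4 := Finset.card_le_two (a := y) (b := a * b * y * (a * b)⁻¹)
          rw [hY.card] at h3
          omega)
        simp only [Finset.mem_sdiff, Finset.mem_insert, Finset.mem_singleton, not_or] at h'
        exact ⟨y', h'.1, h'.2⟩
      refine ⟨⟨a * b, Subgroup.subset_closure ⟨_, hW, a, ha, b, hb, rfl⟩⟩,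
        ⟨y * y', Subgroup.subset_closure ⟨Y, hY, y, hy, y', hy', rfl⟩⟩, fun e => ?_⟩
      rcases pair_comm hG hT hφ hW hY hne hWY ha hb hab hy hy' hn1.symm with ⟨h, -⟩ | ⟨-, h⟩
      · exact hn2 h
      · have e' := congrArg Subtype.val e
        simp only [commutatorElement_def, Subgroup.coe_mul, Subgroup.coe_inv, Subgroup.coe_one] at e'
        rw [h, mul_inv_cancel_right] at e'
        exact h1 e'
  have hcen : (Subgroup.center (QG D u)).map (QG D u).subtype = Subgroup.zpowers u := by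
    refine le_antisymm ?_ (Subgroup.zpowers_le.2 ⟨⟨u, huQ⟩, ?_, rfl⟩)
    · rintro _ ⟨x, hx, rfl⟩
      rcases QG_centralizer hG hT hφ hu (g := (x : G)) (fun y hy =>
        (congrArg Subtype.val (Subgroup.mem_center_iff.1 hx ⟨y, hy⟩)).symm) with h | h
      · rw [Subgroup.coe_subtype, h]; exact one_mem _
      · rw [Subgroup.coe_subtype, h]; exact Subgroup.mem_zpowers _
    · exact Subgroup.mem_center_iff.2 fun y => Subtype.ext (huc y y.2).eq.symm
  refine LargeExtraspecial.Setup.of_center hE hcen (le_antisymm (fun g hg => ?_) ?_) ?_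
  · rw [hcen]
    rcases QG_centralizer hG hT hφ hu (g := g) (fun y hy => (Subgroup.mem_centralizer_iff.1 hg y hy).symm) with
      rfl | rfl
    · exact one_mem _
    · exact Subgroup.mem_zpowers _
  · rw [hcen, Subgroup.zpowers_le, Subgroup.mem_centralizer_iff]
    exact fun y hy => (huc y hy).eq.symm
  · rw [hcen, LargeExtraspecial.centralizer_zpowers]
    intro g hg
    rw [Subgroup.mem_normalizer_iff]
    have hmap : ∀ g ∈ Subgroup.centralizer ({u} : Set G), ∀ x ∈ QG D u, g * x * g⁻¹ ∈ QG D u := by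
      intro g hg x hx
      have hle : QG D u ≤ (QG D u).comap (MulAut.conj g).toMonoidHom := (Subgroup.closure_le _).2 fun s hs =>
        Subgroup.subset_closure (pairGen_conj hD (commute_of_mem_CU hg) hs)
      exact hle hx
    refine fun x => ⟨hmap g hg x, fun h => ?_⟩
    have := hmap g⁻¹ (inv_mem hg) _ h
    rwa [show g⁻¹ * (g * x * g⁻¹) * g⁻¹⁻¹ = x by group] at this

end Cfsg.Agent.Four95
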