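import Cfsg.Agent.Four95.Checks
import Cfsg.Agent.TT95N.Refl45

/-!
Checks for the matchings between the far pairs and their signs.
-/

set_option autoImplicit false

namespace Cfsg.Agent.Four95

open Cfsg.Agent.TT95.K45G (adj masks)

/-- A mask with exactly one bit. -/
def oneBit (x : ℕ) : Bool := x != 0 && x &&& (x - 1) == 0

/-- The neighbours of `i` in both sets. -/
def meetK (s t i : ℕ) : ℕ := masks.getD i 0 &&& sets.getD s 0 &&& sets.getD t 0

/-- A key at which the far pairs meet in one neighbour. -/
def witAt (s t i : ℕ) : Bool := setS s i && setS t i && oneBit (meetK s t i)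

/-- The far pairs are matched. -/
def wit (s t : ℕ) : Bool := (List.range 45).any fun i => witAt s t i

/-- The sign of a matching. -/
def sgn (s t : ℕ) : Bool := (sigs.getD s 0).testBit t

/-- The parent in the tree of edges of sign zero. -/
def parent (s : ℕ) : ℕ :=
  match roots.find? fun r => r.2.1 == s with
  | some r => r.1
  | none => 0

/-- Both orders of a pair as bits. -/
def pairBit (s t : ℕ) : ℕ := 2 ^ (s * 40 + t) ||| 2 ^ (t * 40 + s)

/-- The bits of the roots. -/
def rootBits : ℕ := roots.foldl (fun k r => k ||| pairBit r.1 r.2.1) 0

/-- One step is sound. -/
def stepOK (known : ℕ) (a b c i : ℕ) : Bool :=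
  a < 40 && b < 40 && c < 40 && i < 45 && known.testBit (a * 40 + b) && known.testBit (b * 40 + c) &&
    witAt a b i && witAt b c i && wit a c && a != c &&
      (sgn a c == (sgn a b ^^ sgn b c ^^ (meetK a b i != meetK b c i)))

/-- All steps are sound, and the pairs they reach. -/
def runSteps : ℕ → List (ℕ × ℕ × ℕ × ℕ) → Option ℕ
  | k, [] => some k
  | k, (a, b, c, i) :: l => if stepOK k a b c i then runSteps (k ||| pairBit a c) l else none

theorem steps_check : (match runSteps rootBits steps with
    | none => false
    | some k => (List.range 40).all fun s => (List.range 40).all fun t => !wit s t || k.testBit (s * 40 + t)) = true := by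
  decide +kernel

theorem roots_ok : (roots.all fun r => r.1 < 40 && r.2.1 < 40 && r.2.1 != 0 && r.1 != r.2.1 && wit r.1 r.2.1 &&
    !sgn r.1 r.2.1 && parent r.2.1 == r.1) = true := by
  decide +kernel

theorem parent_check : ((List.range 40).all fun s => parent s < 40 && parent (parent s) == 0) = true := by
  decide +kernel

theorem wit_check : ((List.range 40).all fun s => !wit s s &&
    ((List.range 40).filter fun t => wit s t).length == 27 &&
    (List.range 40).all fun t => wit s t == wit t s && sgn s t == sgn t s) = true := by
  decide +kernel

theorem far_far_check : ((List.range 40).all fun s => (List.range 40).all fun t =>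
    (List.range 2).all fun e => (List.range 2).all fun f =>
      adj6 (46 + 2 * s + e) (46 + 2 * t + f) == (wit s t && ((e != f) == sgn s t))) = true := by
  decide +kernel

theorem line_check : ((List.range 45).all fun a => (List.range 45).all fun b => !adj a b ||
    (let L := (List.range 45).filter fun r => adj a r && adj b r
     L.all fun r => L.all fun t => r == t || adj r t)) = true := by
  decide +kernel

theorem match_check : ((List.range 45).all fun k => (List.range 45).all fun l => k == l || adj k l ||
    (List.range 45).all fun z => k == z || adj k z ||
      !oneBit (masks.getD k 0 &&& masks.getD l 0 &&& (masks.getD k 0 &&& masks.getD z 0)) ||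
      (adj l z != adj l (TT95N.refl45 k z))) = true := by
  decide +kernel

end Cfsg.Agent.Four95
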