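import Cfsg.Agent.Four95.AutModel
import Cfsg.Agent.Four95.Count
import Cfsg.Agent.Four95.SignData

/-!
Type M(24): the eighty far quadruples are forty pairs, and how members of different pairs commute.
-/

set_option autoImplicit false
set_option linter.unusedSectionVars false
set_option linter.style.haveILetI false

namespace Cfsg.Agent.Four95

open Cfsg.Agent.TT95 Cfsg.Agent.TT95N Cfsg.Agent.TT95N.Four
open Cfsg.Agent.TT95.K45G (adj masks)

theorem adj_eq_bit (i j : ℕ) : adj i j = (masks.getD i 0).testBit j := rfl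

theorem oneBit_iff {x : ℕ} : oneBit x = true ↔ ∃ j, ∀ k, x.testBit k = true ↔ k = j := by
  rw [oneBit, Bool.and_eq_true, bne_iff_ne, beq_iff_eq]
  constructor
  · rintro ⟨hx, hand⟩
    obtain ⟨j, hj, hmax⟩ := Nat.exists_most_significant_bit hx
    refine ⟨j, fun k => ⟨fun hk => ?_, fun e => e ▸ hj⟩⟩
    by_contra hne
    have hlt : k < j := by
      rcases lt_or_gt_of_ne hne with h | h
      · exact h
      · rw [hmax k h] at hk; exact absurd hk Bool.false_ne_true
    have hge : 2 ^ j < x := by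
      refine lt_of_le_of_ne (Nat.ge_two_pow_of_testBit hj) fun e => ?_
      rw [← e, Nat.testBit_two_pow, decide_eq_true_eq] at hk
      omega
    have h1 : (x - 1).testBit j = true := by
      have hlt2 : x - 1 < 2 ^ (j + 1) := by
        refine lt_of_le_of_lt (Nat.sub_le _ _) (Nat.lt_pow_two_of_testBit x fun i hi => hmax i ?_)
        omega
      rw [Nat.testBit_eq_decide_div_mod_eq, decide_eq_true_eq,
        Nat.div_eq_of_lt_le (k := 1) (by omega) (by rw [pow_succ] at hlt2; omega)]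
    have h2 : (x &&& (x - 1)).testBit j = true := by rw [Nat.testBit_and, hj, h1]; rfl
    rw [hand, Nat.zero_testBit] at h2
    exact Bool.false_ne_true h2
  · rintro ⟨j, hj⟩
    have hx : x = 2 ^ j := Nat.eq_of_testBit_eq fun k => by
      rw [Nat.testBit_two_pow, Bool.eq_iff_iff, hj, decide_eq_true_eq, eq_comm]
    subst hx
    refine ⟨by positivity, Nat.eq_of_testBit_eq fun k => ?_⟩
    rw [Nat.testBit_and, Nat.testBit_two_pow, Nat.testBit_two_pow_sub_one, Nat.zero_testBit]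
    by_cases h : j = k <;> simp [h]

theorem oneBit_eq {x y : ℕ} (hx : oneBit x = true) (hy : oneBit y = true) {j : ℕ} (h1 : x.testBit j = true)
    (h2 : y.testBit j = true) : x = y := by
  obtain ⟨a, ha⟩ := oneBit_iff.1 hx
  obtain ⟨b, hb⟩ := oneBit_iff.1 hy
  refine Nat.eq_of_testBit_eq fun k => ?_
  rw [Bool.eq_iff_iff, ha, hb, ← (ha j).1 h1, ← (hb j).1 h2]

theorem setS_lt {s : ℕ} {i : ℕ} (h : setS s i = true) : i < 45 := by
  by_contra hi
  push Not at hi
  rcases Nat.lt_or_ge s sets.length with hs | hs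
  · rw [setS, List.getD_eq_getElem _ _ hs,
      Nat.testBit_lt_two_pow (lt_of_lt_of_le ?_ (Nat.pow_le_pow_right (by norm_num) hi))] at h
    · exact Bool.false_ne_true h
    · simpa using List.all_eq_true.1 sets_lt _ (List.getElem_mem hs)
  · rw [setS, List.getD_eq_default _ _ hs, Nat.zero_testBit] at h
    exact Bool.false_ne_true h

theorem meetK_bit {s t i j : ℕ} :
    (meetK s t i).testBit j = true ↔ j < 45 ∧ adj i j = true ∧ setS s j = true ∧ setS t j = true := by
  rw [meetK, Nat.testBit_and, Nat.testBit_and, Bool.and_eq_true, Bool.and_eq_true, ← adj_eq_bit]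
  exact ⟨fun h => ⟨setS_lt h.2, h.1.1, h.1.2, h.2⟩, fun h => ⟨⟨h.2.1, h.2.2.1⟩, h.2.2.2⟩⟩

variable {G : Type*} [Group G] [DecidableEq G] [Finite G] {D : Set G} {u : G} {d : G}
  {q : ModCenter (Subgroup.closure (nb D d))}

/-- The far quadruples with a given set of keys. -/
def farClass (D : Set G) (u : G) (W : Finset G) (ι : Fin 45 → Finset G) (s : Fin 40) : Set (Finset G) :=
  {Y | Y ∈ farSet D u W ι ∧ ∀ i, i ∈ farKeys W ι Y ↔ setS s i = true}

variable (hG : Cfg24 D d q) [Gen D]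

include hG

variable {W : Finset G} {ι : Fin 45 → Finset G}

theorem far_of_not (hu : IsProd D 4 u) (hW : Dec D u W) (hι : OctChart D W ι) {Y : Finset G} (hY : Dec D u Y)
    (hne : W ≠ Y) (hWY : ¬ AdjT W Y) : ∃ s, Y ∈ farClass D u W ι s := by
  obtain ⟨hP, hall⟩ := class_all hG hu
  obtain ⟨hfull, -, h18⟩ := hall W ι hW hι
  have hmem : Y ∈ compT D u W := hfull ▸ (hY : Y ∈ {Y | Dec D u Y})
  rcases (near_cases hG hu hW hι).1 hmem with rfl | ⟨i, rfl⟩ | hfar
  · exact absurd rfl hne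
  · exact absurd (tet_adjW hG hW hι i) hWY
  · rcases classify (nice_far hG hu hW hι hY hne hWY) hfar.2.2.2 with h | h | ⟨s, hs⟩
    · rw [h18 Y hfar] at h; omega
    · rw [h18 Y hfar] at h; omega
    · exact ⟨s, hfar, hs⟩

/-- A chart at a key: the quadruple and two members of a class are a key and a reflected pair. -/
theorem class_third (hu : IsProd D 4 u) (hW : Dec D u W) (hι : OctChart D W ι) {s : Fin 40} {i : Fin 45}
    (hi : setS s i = true) {κ : Fin 45 → Finset G} (hκ : OctChart D (tet W ι i) κ) {k z z' : Fin 45}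
    (hk : tet (tet W ι i) κ k = W) (hz : tet (tet W ι i) κ z ∈ farClass D u W ι s)
    (hz' : tet (tet W ι i) κ z' ∈ farClass D u W ι s) (hne : z ≠ z') :
    k ≠ z ∧ adj (k : ℕ) z = false ∧ rf k z = z' := by
  have hX := tet_dec hG hu hW hι i
  have hkz : k ≠ z := fun e => hz.1.2.1 (hk.symm.trans (congrArg _ e))
  have hkz' : k ≠ z' := fun e => hz'.1.2.1 (hk.symm.trans (congrArg _ e))
  have hadj : adj (k : ℕ) z = false := Bool.eq_false_iff.2 fun h => hz.1.2.2.1 (by
    have := (tet_adj hG hu hX hκ hkz).2 h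
    rwa [hk] at this)
  refine ⟨hkz, hadj, Fin.ext (refl45_unique hkz hadj hkz'.symm hne.symm fun r hkr hzr => ?_)⟩
  have hne' : ∀ {a b : Fin 45}, adj (a : ℕ) b = true → a ≠ b := fun {a b} h e => by
    subst e; rw [adj_irrefl45] at h; exact Bool.false_ne_true h
  have hR := tet_dec hG hu hX hκ r
  have hWR : AdjT W (tet (tet W ι i) κ r) := by
    have := (tet_adj hG hu hX hκ (hne' hkr)).2 hkr
    rwa [hk] at this
  obtain ⟨j, hj⟩ := tet_surj hG hu hW hι hR hWR
  have hjs : setS s j = true := by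
    rw [← hz.2, mem_farKeys, ← hj]
    exact ((tet_adj hG hu hX hκ (hne' hzr)).2 hzr).symm
  rw [← hz'.2, mem_farKeys, ← hj] at hjs
  exact (tet_adj hG hu hX hκ fun e => hjs.1 (congrArg _ e.symm)).1 hjs.symm

/-- A chart at a key of a class member. -/
theorem class_key (hu : IsProd D 4 u) (hW : Dec D u W) (hι : OctChart D W ι) {s : Fin 40} {i : Fin 45}
    (hi : setS s i = true) {κ : Fin 45 → Finset G} (hκ : OctChart D (tet W ι i) κ) {Y : Finset G}
    (hY : Y ∈ farClass D u W ι s) : ∃ z, Y = tet (tet W ι i) κ z :=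
  tet_surj hG hu (tet_dec hG hu hW hι i) hκ hY.1.1 (mem_farKeys.1 ((hY.2 i).2 hi))

/-- Every class has exactly two. -/
theorem class_two (hu : IsProd D 4 u) (hW : Dec D u W) (hι : OctChart D W ι) (s : Fin 40) :
    (farClass D u W ι s).ncard = 2 := by
  classical
  haveI := Fintype.ofFinite G
  have hle : ∀ s : Fin 40, (farClass D u W ι s).ncard ≤ 2 := by
    intro s
    by_contra h
    push Not at h
    obtain ⟨A, B, C, hA, hB, hC, hAB, hAC, hBC⟩ := (Set.two_lt_ncard_iff (Set.toFinite _)).1 h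
    obtain ⟨i, hi⟩ := hA.1.2.2.2
    rw [hA.2] at hi
    obtain ⟨κ, hκ⟩ := exists_octChart hG (tet_dec hG hu hW hι i).1
    obtain ⟨k, hk⟩ := tet_surj hG hu (tet_dec hG hu hW hι i) hκ hW (tet_adjW hG hW hι i).symm
    obtain ⟨a, rfl⟩ := class_key hG hu hW hι hi hκ hA
    obtain ⟨b, rfl⟩ := class_key hG hu hW hι hi hκ hB
    obtain ⟨c, rfl⟩ := class_key hG hu hW hι hi hκ hC
    exact hBC (congrArg _ ((class_third hG hu hW hι hi hκ hk.symm hA hB fun e => hAB (congrArg _ e)).2.2.symm.trans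
      (class_third hG hu hW hι hi hκ hk.symm hA hC fun e => hAC (congrArg _ e)).2.2))
  obtain ⟨hP, hall⟩ := class_all hG hu
  obtain ⟨-, h80, -⟩ := hall W ι hW hι
  have hsum : ∑ s : Fin 40, (farClass D u W ι s).ncard = 80 := by
    rw [← h80, Finset.sum_congr rfl fun s _ => Set.ncard_eq_toFinset_card' _,
      Set.ncard_eq_toFinset_card' (farSet D u W ι), ← Finset.card_biUnion]
    · congr 1
      ext Y
      simp only [Finset.mem_biUnion, Finset.mem_univ, true_and, Set.mem_toFinset]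
      exact ⟨fun ⟨s, hs⟩ => hs.1, fun h => far_of_not hG hu hW hι h.1 h.2.1 h.2.2.1⟩
    · intro a _ b _ hab
      rw [Function.onFun, Finset.disjoint_left]
      intro Y hYa hYb
      rw [Set.mem_toFinset] at hYa hYb
      exact hab (sets_ext fun k => by rw [Bool.eq_iff_iff, ← hYa.2, hYb.2])
  by_contra hne
  have hlt : ∑ t : Fin 40, (farClass D u W ι t).ncard < ∑ _t : Fin 40, 2 :=
    Finset.sum_lt_sum (fun t _ => hle t) ⟨s, Finset.mem_univ s, lt_of_le_of_ne (hle s) hne⟩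
  rw [hsum, Finset.sum_const, Finset.card_univ, Fintype.card_fin, smul_eq_mul] at hlt
  omega

/-- Inside a chart: what commutes with two commuting quadruples commutes. -/
theorem line (hu : IsProd D 4 u) {X A B P P' : Finset G} (hX : Dec D u X) (hA : Dec D u A) (hB : Dec D u B)
    (hP : Dec D u P) (hP' : Dec D u P') (xA : AdjT X A) (xB : AdjT X B) (xP : AdjT X P) (xP' : AdjT X P')
    (hAB : AdjT A B) (pA : AdjT A P) (pB : AdjT B P) (pA' : AdjT A P') (pB' : AdjT B P') (hne : P ≠ P') :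
    AdjT P P' := by
  obtain ⟨κ, hκ⟩ := exists_octChart hG hX.1
  obtain ⟨a, rfl⟩ := tet_surj hG hu hX hκ hA xA
  obtain ⟨b, rfl⟩ := tet_surj hG hu hX hκ hB xB
  obtain ⟨p, rfl⟩ := tet_surj hG hu hX hκ hP xP
  obtain ⟨p', rfl⟩ := tet_surj hG hu hX hκ hP' xP'
  have hh : ∀ {x y : Fin 45}, AdjT (tet X κ x) (tet X κ y) → adj (x : ℕ) y = true := fun {x y} h =>
    (tet_adj hG hu hX hκ fun e => h.1 (congrArg _ e)).1 h
  have hc := List.all_eq_true.1 (List.all_eq_true.1 line_check a (List.mem_range.2 a.2)) b (List.mem_range.2 b.2)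
  simp only [hh hAB, Bool.not_true, Bool.false_or, List.all_eq_true, List.mem_filter, List.mem_range,
    Bool.and_eq_true, Bool.or_eq_true, beq_iff_eq] at hc
  refine (tet_adj hG hu hX hκ fun e => hne (congrArg _ e)).2 ?_
  rcases hc p ⟨p.2, hh pA, hh pB⟩ p' ⟨p'.2, hh pA', hh pB'⟩ with e | e
  · exact absurd (congrArg _ (Fin.ext e)) hne
  · exact e

/-- Where the sets of keys meet in one neighbour, exactly one of a pair commutes. -/
theorem match_one (hu : IsProd D 4 u) (hW : Dec D u W) (hι : OctChart D W ι) {s t : Fin 40} {i : ℕ}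
    (hw : witAt s t i = true) {Y Z Z' : Finset G} (hY : Y ∈ farClass D u W ι s)
    (hZ : Z ∈ farClass D u W ι t) (hZ' : Z' ∈ farClass D u W ι t) (hne : Z ≠ Z') :
    AdjT Y Z ↔ ¬ AdjT Y Z' := by
  simp only [witAt, Bool.and_eq_true] at hw
  obtain ⟨⟨his, hit⟩, hone⟩ := hw
  obtain ⟨i, rfl⟩ : ∃ i' : Fin 45, (i' : ℕ) = i := ⟨⟨i, setS_lt his⟩, rfl⟩
  have hX := tet_dec hG hu hW hι i
  obtain ⟨κ, hκ⟩ := exists_octChart hG hX.1
  obtain ⟨k, hk⟩ := tet_surj hG hu hX hκ hW (tet_adjW hG hW hι i).symm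
  obtain ⟨l, rfl⟩ := class_key hG hu hW hι his hκ hY
  obtain ⟨z, rfl⟩ := class_key hG hu hW hι hit hκ hZ
  obtain ⟨z', rfl⟩ := class_key hG hu hW hι hit hκ hZ'
  obtain ⟨hkz, hadjz, hz'⟩ := class_third hG hu hW hι hit hκ hk.symm hZ hZ' fun e => hne (congrArg _ e)
  have hkl : k ≠ l := fun e => hY.1.2.1 (hk.trans (congrArg _ e))
  have hadjl : adj (k : ℕ) l = false := Bool.eq_false_iff.2 fun h => hY.1.2.2.1 (by
    have := (tet_adj hG hu hX hκ hkl).2 h
    rwa [← hk] at this)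
  set M := masks.getD k 0 &&& masks.getD l 0 &&& (masks.getD k 0 &&& masks.getD z 0) with hM
  have hbit : ∀ r : ℕ, M.testBit r = true ↔ adj (k : ℕ) r = true ∧ adj (l : ℕ) r = true ∧ adj (z : ℕ) r = true := by
    intro r
    simp only [hM, Nat.testBit_and, Bool.and_eq_true, ← adj_eq_bit]
    tauto
  have hne' : ∀ {a b : Fin 45}, adj (a : ℕ) b = true → a ≠ b := fun {a b} h e => by
    subst e; rw [adj_irrefl45] at h; exact Bool.false_ne_true h
  have hh : ∀ {x y : Fin 45}, AdjT (tet (tet W ι i) κ x) (tet (tet W ι i) κ y) → adj (x : ℕ) y = true :=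
    fun {x y} h => (tet_adj hG hu hX hκ fun e => h.1 (congrArg _ e)).1 h
  have hback : ∀ r : Fin 45, M.testBit r = true →
      ∃ j : Fin 45, tet (tet W ι i) κ r = tet W ι j ∧ (meetK s t i).testBit j = true := by
    intro r hr
    obtain ⟨h1, h2, h3⟩ := (hbit r).1 hr
    have hR := tet_dec hG hu hX hκ r
    have hWR : AdjT W (tet (tet W ι i) κ r) := by
      have := (tet_adj hG hu hX hκ (hne' h1)).2 h1
      rwa [← hk] at this
    obtain ⟨j, hj⟩ := tet_surj hG hu hW hι hR hWR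
    refine ⟨j, hj, meetK_bit.2 ⟨j.2, ?_, ?_, ?_⟩⟩
    · have := tet_adjW hG hX hκ r
      rw [hj] at this
      exact (tet_adj hG hu hW hι fun e => this.1 (congrArg _ e)).1 this
    · rw [← hY.2, mem_farKeys, ← hj]; exact ((tet_adj hG hu hX hκ (hne' h2)).2 h2).symm
    · rw [← hZ.2, mem_farKeys, ← hj]; exact ((tet_adj hG hu hX hκ (hne' h3)).2 h3).symm
  obtain ⟨j₀, hj₀⟩ := oneBit_iff.1 hone
  obtain ⟨hj45, hij, hjs, hjt⟩ := meetK_bit.1 ((hj₀ j₀).2 rfl)
  set J : Fin 45 := ⟨j₀, hj45⟩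
  obtain ⟨r₀, hr₀⟩ := tet_surj hG hu hX hκ (tet_dec hG hu hW hι J)
    ((tet_adj hG hu hW hι (hne' (b := J) hij)).2 hij)
  have hr₀bit : M.testBit r₀ = true := by
    have hWJ := tet_adjW hG hW hι J
    have hsJ := mem_farKeys.1 ((hY.2 J).2 hjs)
    have htJ := mem_farKeys.1 ((hZ.2 J).2 hjt)
    rw [hr₀] at hWJ hsJ htJ
    have hk' : ∀ Z, AdjT W Z → AdjT (tet (tet W ι i) κ k) Z := fun Z h => by rw [← hk]; exact h
    exact (hbit r₀).2 ⟨hh (hk' _ hWJ), hh hsJ.symm, hh htJ.symm⟩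
  have hMone : oneBit M = true := by
    refine oneBit_iff.2 ⟨r₀, fun r => ⟨fun hr => ?_, fun e => e ▸ hr₀bit⟩⟩
    have hr45 : r < 45 := by
      by_contra hcon
      have h1 := ((hbit r).1 hr).1
      have hlt : ((List.range 45).all fun a => masks.getD a 0 < 2 ^ 45) = true := by decide +kernel
      have := List.all_eq_true.1 hlt k (List.mem_range.2 k.2)
      rw [decide_eq_true_eq] at this
      rw [adj_eq_bit, Nat.testBit_lt_two_pow (lt_of_lt_of_le this (Nat.pow_le_pow_right (by norm_num) (by omega)))] at h1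
      exact Bool.false_ne_true h1
    obtain ⟨j, hj, hjb⟩ := hback ⟨r, hr45⟩ hr
    have hjJ : j = J := Fin.ext ((hj₀ _).1 hjb)
    rw [hjJ, hr₀] at hj
    exact congrArg Fin.val (tet_inj hG hX hκ hj)
  have hc := List.all_eq_true.1 (List.all_eq_true.1 match_check k (List.mem_range.2 k.2)) l (List.mem_range.2 l.2)
  rw [beq_eq_false_iff_ne.2 (fun e => hkl (Fin.ext e)), hadjl, Bool.false_or, Bool.false_or] at hc
  have hc' := List.all_eq_true.1 hc z (List.mem_range.2 z.2)
  rw [beq_eq_false_iff_ne.2 (fun e => hkz (Fin.ext e)), hadjz, ← hM, hMone, Bool.false_or, Bool.false_or,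
    Bool.not_true, Bool.false_or, bne_iff_ne, show refl45 (k : ℕ) z = (z' : ℕ) from congrArg Fin.val hz'] at hc'
  have hst : ∀ {w : Fin 45} (hwc : tet (tet W ι i) κ w ∈ farClass D u W ι t),
      AdjT (tet (tet W ι i) κ l) (tet (tet W ι i) κ w) ↔ adj (l : ℕ) w = true := by
    intro w hwc
    by_cases hlw : l = w
    · subst hlw
      exact iff_of_false (fun h => h.1 rfl) (by rw [adj_irrefl45]; exact Bool.false_ne_true)
    · exact tet_adj hG hu hX hκ hlw
  rw [hst hZ, hst hZ']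
  revert hc'
  cases adj (l : ℕ) z <;> cases adj (l : ℕ) z' <;> simp

/-- Three pairs: the sign of the third matching. -/
theorem tri_rule (hu : IsProd D 4 u) (hW : Dec D u W) (hι : OctChart D W ι) {a b c : Fin 40} (hac : a ≠ c) {i : ℕ}
    (hab : witAt a b i = true) (hbc : witAt b c i = true) {A B C : Finset G} (hA : A ∈ farClass D u W ι a)
    (hB : B ∈ farClass D u W ι b) (hC : C ∈ farClass D u W ι c) (hAB : AdjT A B) (hBC : AdjT B C) :
    AdjT A C ↔ meetK a b i = meetK b c i := by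
  simp only [witAt, Bool.and_eq_true] at hab hbc
  obtain ⟨⟨hia, hib⟩, h1ab⟩ := hab
  obtain ⟨⟨-, hic⟩, h1bc⟩ := hbc
  obtain ⟨i, rfl⟩ : ∃ i' : Fin 45, (i' : ℕ) = i := ⟨⟨i, setS_lt hia⟩, rfl⟩
  have hX := tet_dec hG hu hW hι i
  obtain ⟨j, hj⟩ := oneBit_iff.1 h1ab
  obtain ⟨hj45, hij, hja, hjb⟩ := meetK_bit.1 ((hj j).2 rfl)
  set J : Fin 45 := ⟨j, hj45⟩
  have hne' : i ≠ J := fun e => by
    have h : adj (i : ℕ) (J : ℕ) = true := hij
    rw [← e, adj_irrefl45] at h; exact Bool.false_ne_true h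
  have hL := tet_dec hG hu hW hι J
  have xL := (tet_adj hG hu hW hι hne').2 hij
  have xA := mem_farKeys.1 ((hA.2 i).2 hia)
  have xB := mem_farKeys.1 ((hB.2 i).2 hib)
  have xC := mem_farKeys.1 ((hC.2 i).2 hic)
  have lA := mem_farKeys.1 ((hA.2 J).2 hja)
  have lB := mem_farKeys.1 ((hB.2 J).2 hjb)
  constructor
  · intro hAC
    have hLC : AdjT (tet W ι J) C := line hG hu hX hA.1.1 hB.1.1 hL hC.1.1 xA xB xL xC hAB lA.symm lB.symm hAC hBC
      fun e => hC.1.2.2.1 (e ▸ tet_adjW hG hW hι J)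
    refine oneBit_eq h1ab h1bc ((hj j).2 rfl) (meetK_bit.2 ⟨hj45, hij, hjb, ?_⟩)
    exact (hC.2 J).1 (mem_farKeys.2 hLC)
  · intro e
    obtain ⟨-, -, -, hjc⟩ := meetK_bit.1 (e ▸ (hj j).2 rfl)
    have lC := mem_farKeys.1 ((hC.2 J).2 hjc)
    exact line hG hu hX hB.1.1 hL hA.1.1 hC.1.1 xB xL xA xC lB.symm hAB.symm lA hBC lC
      fun e => hac (sets_ext fun k => by rw [Bool.eq_iff_iff, ← hA.2, ← hC.2, e])

end Cfsg.Agent.Four95
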